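import Cfsg.Agent.BZ.L.W1_m3
import Cfsg.Agent.BHZ.Spor.RowB3_m3
import Cfsg.Agent.TAB.F22.Fam
import Cfsg.Agent.S0144
import Cfsg.Agent.BZ.Lab.Iso_m3
import Cfsg.Agent.HZ.L.E7.Defs_m3
import Cfsg.Agent.KM.Xc.E6M_m3
import Cfsg.Agent.TO.X11.Fr_m3
import Cfsg.Agent.KZ.DatX.Gd_m3
import Cfsg.Agent.DL.Ex.Fin_m3
import Cfsg.Agent.RC.B.BR_m3
import Cfsg.Agent.BZ.L.TA.Dat_m3
import Cfsg.Agent.LV.One.All_m3
import Cfsg.Agent.KM.Si.E_m3
import Cfsg.Agent.BZ.L.Defs
import Cfsg.Agent.BZ.L.TA.KAll_m3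
import Cfsg.Agent.BZ.Lab.Cur_m3
import Cfsg.Agent.BZ.Lab.Uf
import Cfsg.Agent.H649.LocalDefect
import Cfsg.Agent.H649.Transport
import Cfsg.Agent.TID.Red.R2
import Cfsg.Agent.BZ.X.Defs
import Cfsg.Agent.SporRec.Co3DC.EAct
import Cfsg.Agent.SporRec.TwoSp6.Hom
import Cfsg.Agent.SporRec.TwoSp6.Main
import Cfsg.Agent.StandardComponent.SpTwoAut
import Cfsg.Agent.Characters.GaloisBasic
import Cfsg.Agent.S4528
import Cfsg.Agent.RC.X.E6_m3
import Cfsg.Agent.H129.FE.Grp
import Cfsg.Agent.BZ.T.Count_m3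
import Cfsg.Agent.H277.DM.USix_m3
import Cfsg.Agent.CharactersDeep.NormalInd
import Cfsg.Agent.Characters.Brauer
import Cfsg.Agent.ChevalleyStructure.FieldIso
import Cfsg.Agent.MK.C3L.OGS_m3
import Cfsg.Agent.H761.LieExt
import Cfsg.Agent.H161.CoxTorus
import Cfsg.Agent.H301.PQ.RankThree
import Cfsg.Agent.H113.PSU.Rank3_m3
import Cfsg.Agent.S0157
import Cfsg.Agent.S0148
import Cfsg.Agent.Characters.Core
import Cfsg.Agent.H418.CC.Heis
import Cfsg.Agent.OddHalf.D9.EEight.Id.Main
import Cfsg.Agent.OddHalf.D9.EEight.Id.Onto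
import Cfsg.Agent.OddHalf.D9.EEight.Model
import Cfsg.Agent.Blocks.Basic
import Cfsg.Agent.H86.TI.ThreeMcL
import Cfsg.Agent.OddHalf.Small.Alt
import Cfsg.Agent.BZ.C5.Eng_m3
import Cfsg.Agent.TAB.HN.CertB_m3
import Cfsg.Agent.TAB.F22.FxC_m3
import Cfsg.Agent.H759.RIM.SuzUp_m3
import Cfsg.Agent.H651.StarMain
import Cfsg.Agent.H741.M23.RhoHN
import Cfsg.Agent.Lib.Refl
import Cfsg.Agent.BZ.C7.Chr_m3
import Cfsg.Agent.OddOrderCharacters.PF9.MackeyIrr
import Cfsg.Agent.Lib.FinFast
import Cfsg.Agent.BZ.L.Os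
import Cfsg.Agent.CharDeep.PowerDegrees
import Cfsg.Agent.Characters.Counting
import Cfsg.Agent.Characters.DegreeBounds
import Cfsg.Agent.HZ.L.E7.E8_m3
import Cfsg.Agent.KM.Deg.Bij_mg_m3
import Cfsg.Agent.H588.RIM.Val_m3
import Cfsg.Agent.H686.PairCrit
import Cfsg.Agent.TAB.F24C.Main
import Cfsg.Agent.TAB.Eng.Map
import Cfsg.Agent.S4491
import Cfsg.Agent.FastGrp
import Cfsg.Agent.Prune
set_option linter.all false

section
prune_inst 0x7f9cbcf828a809dfffff7e37fed1dffa10804fffa6dff9437fe9619f0f9f032309c56b810de010fe8e56e21410b87803f97eeeffe863dc7ffffd5ff41ffbee0fa5ee3108519080240f380ff783f047086f3fdfffffffffffffffffffffffffffffbdfbfeffff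

-- part: BZ/C1/Fi
section
set_option linter.all false
open scoped Cfsg.Agent.FastGrp

/-!
# BZ, the covers `2.Fi22` (`p = 3`) and `3.Fi22` (`p = 2`) (helper84)
-/

set_option autoImplicit false
set_option maxRecDepth 100000

namespace Cfsg.Agent.BZ.C1

open Cfsg Subgroup Cfsg.Agent.BZ.T Cfsg.Agent.BHZ.Spor Cfsg.Agent.TAB.Eng Cfsg.Agent.TAB.Use
open scoped commutatorElement

namespace Fi

open Cfsg.Spor Cfsg.Agent.BHZ.Spor.F22
open Cfsg.Agent.TAB.F22 (dat rowA rowB td mass tab hom fin22)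
open Cfsg.Agent.TAB.Sm2 (mkRows)
open Cfsg.Agent.KFacts.FiTT (TK exists_base)

theorem hy : KM.Sp.Hy td (mkRows rowA rowB) [] := KM.Sp.Hy.nil mass tab

/-- bounds of the `2`-parts -/
def U2 : List ℕ := [17, 17, 17, 16, 3, 7, 6, 8, 17, 17, 15, 15, 17, 3, 12, 13, 12, 12, 9, 4, 11, 13, 10, 7, 7, 1, 17, 17,
  14, 14, 1, 1, 2, 7, 2, 1, 13, 12, 14, 12, 12, 12, 14, 13, 12, 13, 0, 1, 1, 17, 1, 7, 2, 11, 0, 1, 12, 12, 1]

/-- bounds of the `3`-parts -/
def U3 : List ℕ := [9, 3, 4, 6, 9, 9, 9, 7, 2, 1, 1, 2, 3, 1, 7, 6, 6, 3, 6, 7, 6, 7, 3, 7, 5, 1, 0, 1, 1, 1, 9, 9, 9, 0,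
  1, 0, 6, 5, 6, 1, 2, 2, 5, 4, 2, 5, 1, 1, 1, 0, 8, 8, 8, 0, 1, 0, 1, 1, 1]

theorem ub2 : KM.Sp.ubB dat (mkRows rowA rowB) [] 2 U2 [0, 0, 0, 50, 43, 43, 43, 50, 0, 0, 10, 10, 0, 43, 30, 25, 25, 10,
    47, 50, 47, 42, 47, 50, 50, 43, 0, 0, 10, 10, 43, 43, 43, 47, 50, 50, 40, 25, 13, 10, 10, 10, 13, 41, 10, 41, 43, 50,
    43, 0, 50, 47, 50, 25, 43, 50, 10, 10, 50] = true := by decide +kernel

theorem ub3 : KM.Sp.ubB dat (mkRows rowA rowB) [] 3 U3 [0, 26, 26, 26, 0, 0, 0, 26, 44, 44, 26, 26, 26, 26, 12, 19, 19,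
    26, 19, 19, 19, 12, 26, 19, 26, 26, 44, 26, 26, 26, 0, 0, 0, 44, 26, 44, 34, 19, 19, 26, 26, 26, 39, 39, 26, 39, 26,
    31, 26, 44, 1, 1, 1, 44, 26, 44, 26, 26, 26] = true := by decide +kernel

theorem reg2 : Reg 2 9 Fi22 :=
  have := fin22
  reg_tab hy ub2 (by decide +kernel)

theorem reg3 : Reg 3 7 Fi22 :=
  have := fin22
  reg_tab hy ub3 (by decide +kernel)

theorem ra3 : RA 3 Fi22 := by
  have := fin22
  have h3 : Fact (Nat.Prime 3) := ⟨Nat.prime_three⟩
  obtain ⟨m⟩ := H834.Bridge.model_of_iso (MulEquiv.refl Fi22) (D := TK (MulEquiv.refl _)) rfl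
  refine ra_of_atD fun y hy => ?_
  rcases cls _ m hy with h | ⟨g, hg⟩
  · exact fun _ => at_of_constr h
  rw [MonoidHom.map_zpowers] at hg
  refine AtD.of_zpowers (AtD.congr (y := m.t 0 * m.t 2) (fun h1 => absurd h1 ?_) (MulAut.conj g)) (hg ▸ mem_zpowers _)
  refine not_deep_of_sup m.KF (fun h1 => y_ne m ?_) fun x hx => ?_
  · rw [← mem_bot, ← m.S3_inf]
    exact ⟨mul_mem m.t0_mem m.t2_mem, h1⟩
  · obtain ⟨a, ha, h1⟩ := form m hx
    exact ⟨a⁻¹, inv_mem ha, _, h1, (inv_mul_cancel_left a x).symm⟩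

theorem constr1 {z : Fi22} (ho : orderOf z = 2) (h : td.ty z = 1) : Constr 2 z := by
  have := fin22
  have h2 := Fact.mk Nat.prime_two
  have h3 := KM.Sp.card_dvd_cbg hy z [1, 2, 4, 5, 7, 12, 19, 26]
  have h4 := KM.Sp.le_cnt mass z
  rw [h] at h3 h4
  rw [show KM.Sp.cbg dat (mkRows rowA rowB) [] 1 [1, 2, 4, 5, 7, 12, 19, 26] = 3538944 by decide +kernel] at h3
  rw [show dat.cnt 1 = 36486450 by decide +kernel, show dat.N = 64561751654400 from rfl] at h4
  have h5 : ∃ a, 9 ≤ a ∧ Nat.card (centralizer ({z} : Set Fi22)) = 2 ^ (a + 4) * 3 ^ 3 := by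
    obtain ⟨k, hk⟩ := h3
    have h6 : k ≤ 2 := by nlinarith
    interval_cases k
    · omega
    · exact ⟨13, by omega, by omega⟩
    · exact ⟨12, by omega, by omega⟩
  obtain ⟨a, h5, h6⟩ := h5
  refine constr_of_solvable (pelt_of_order ho) (S0144.result 2 3 _ 3 Nat.prime_two Nat.prime_three h6) h6 (by norm_num)
    (by norm_num) fun t h7 h8 _ => reg2.mono h5 t (fun h9 => h8 ((Nat.prime_dvd_prime_iff_eq Nat.prime_two h7).1 h9).symm)
      fun h9 => h7.ne_one (orderOf_eq_one_iff.2 h9)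

theorem ra2 : RA 2 Fi22 := by
  have := fin22
  have h2 := Fact.mk Nat.prime_two
  obtain ⟨_, d, _, lift, B⟩ := exists_base ⟨MulEquiv.refl Fi22⟩
  have F := B.facts
  have i1 := (centralizer ({d} : Set Fi22)).card_mul_index
  have i2 := card_mul_index (centralizer ({d * KFacts.FiTT.d2 lift} : Set Fi22))
  rw [B.index_C, F.card] at i1
  rw [B.index_z, F.card] at i2
  generalize KFacts.FiTT.d2 lift = d' at F i2
  have o1 : orderOf d = 2 := orderOf_eq_prime (by rw [pow_two, F.dd]) F.d_ne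
  have s2 : (d * d') ^ 2 = 1 := by rw [(show Commute d d' from F.comm).mul_pow, pow_two, pow_two, F.dd, F.dd', mul_one]
  have o2 : orderOf (d * d') = 2 := orderOf_eq_prime s2 fun h => F.ne (mul_left_cancel (a := d) (F.dd.trans h.symm))
  have t1 : td.ty d = 3 := (by decide +kernel : ∀ i < dat.n, 2 = dat.ord i → ¬ U3.getD i 0 < 6 → i = 3) _ (td.lt d)
    (o1.symm.trans (td.ord d)) (KM.Sp.le_ub hy ub3 (by omega))
  have t2 : td.ty (d * d') = 2 :=
    (by decide +kernel : ∀ i < dat.n, 2 = dat.ord i → ¬ U3.getD i 0 < 4 → ¬ U2.getD i 0 < 17 → i = 2) _ (td.lt _)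
      (o2.symm.trans (td.ord _)) (KM.Sp.le_ub hy ub3 (by omega)) (KM.Sp.le_ub hy ub2 (by omega))
  refine ra_of_at fun z hz _ => ?_
  rcases (by decide +kernel : ∀ i < dat.n, 2 = dat.ord i → i = 1 ∨ i = 2 ∨ i = 3) _ (td.lt z) (hz.symm.trans (td.ord z))
    with h | h | h
  · exact at_of_constr (constr1 hz h)
  · obtain ⟨α, rfl, -⟩ := hom _ z (t2.trans h.symm)
    refine (at_of_constr ⟨_, F.R_two, fun x hx => F.R_normal x hx.symm, fun r h3 h4 => eq_one_of_reg h4 (k := 1) ?_⟩).congr α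
    rcases F.R_center r fun y hy => (h3 y hy).symm with rfl | rfl | rfl | rfl
    · exact one_pow _
    · rw [pow_one, pow_two, F.dd]
    · rw [pow_one, pow_two, F.dd']
    · exact s2
  · obtain ⟨α, rfl, -⟩ := hom _ z (t1.trans h.symm)
    obtain ⟨k, _, _, hk, ⟨e⟩⟩ := F.quo
    refine (at_of_descend (QuotientGroup.mk' _) (QuotientGroup.mk'_surjective _) (fun n hn => ?_)
      (rc_psu hk rfl (by norm_num) e)).congr α
    rcases F.cc n fun y hy => congrArg Subtype.val (mem_center_iff.1 ((QuotientGroup.eq_one_iff n).1 hn)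
      ⟨y, mem_centralizer_singleton_iff.2 hy⟩).symm with h3 | h3 <;> rw [h3]
    · exact one_mem _
    · exact mem_zpowers d

section

variable {K : Type} [Group K] [Finite K] {σ : K →* Fi22}

/-- a character of degree `852930` -/
theorem chi3 (h : Comp.Ext 3 σ) (ν : σ.ker →* ℂˣ) :
    ∃ χ : IrrCharacter K, Comp.Ov σ ν (χ : K → ℂ) ∧ (χ : K → ℂ) 1 = (852930 : ℕ) := by
  have := Fact.mk Nat.prime_three
  obtain ⟨χ, o, h1⟩ := Comp.two_tab h ν tab ![37, 45, 52] ![37, 45, 52] (by decide +kernel) (by decide +kernel)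
    (by decide +kernel) 0
  refine ⟨χ, o, (h1 1 Comp.reg_one).trans ?_⟩
  rw [map_one, show td.ty 1 = 0 from TAB.F22.ty_one,
    show Comp.rv (mkRows rowA rowB) ((![37, 45, 52] : Fin 3 → ℕ) 0) 0 = 852930 by decide +kernel]
  norm_num

/-- a character of degree `2555904` -/
theorem chi2 (h : Comp.Ext 2 σ) (ν : σ.ker →* ℂˣ) :
    ∃ χ : IrrCharacter K, Comp.Ov σ ν (χ : K → ℂ) ∧ (χ : K → ℂ) 1 = (2555904 : ℕ) := by
  have := Fact.mk Nat.prime_two
  obtain ⟨χ, o, h1⟩ := Comp.one_tab h ν tab (k := 1) (by norm_num) ![50, 51] ![50, 51] (by decide +kernel)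
    (by decide +kernel) (by decide +kernel)
  refine ⟨χ, o, (h1 1 Comp.reg_one).trans ?_⟩
  rw [map_one, show td.ty 1 = 0 from TAB.F22.ty_one,
    show Comp.rv (mkRows rowA rowB) ((![50, 51] : Fin 2 → ℕ) 0) 0 = 2555904 by decide +kernel]
  norm_num

end

end Fi

theorem fi22_2_3 : ∀ (S : Type) [Group S] [Finite S], Spor.IsoFi22 S → Cov XP 2 3 S := fun _ _ _ ⟨e⟩ =>
  have := Fact.mk Nat.prime_three
  Cov.of_equiv e fun _ _ _ _ _ _ _ H hc => fin H Nat.prime_two hc (H.rt_of_ra Fi.ra3) (e := 1) Fi.reg3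
    (Fi.chi2 (ext H hc)) (by norm_num) (by norm_num) (by rw [TAB.F22.mass.1]; decide +kernel)

theorem fi22_3_2 : ∀ (S : Type) [Group S] [Finite S], Spor.IsoFi22 S → Cov XP 3 2 S := fun _ _ _ ⟨e⟩ =>
  have := Fact.mk Nat.prime_two
  Cov.of_equiv e fun _ _ _ _ _ _ _ H hc => fin H Nat.prime_three hc (H.rt_of_ra Fi.ra2) (e := 1) Fi.reg2
    (Fi.chi3 (ext H hc)) (by norm_num) (by norm_num) (by rw [TAB.F22.mass.1]; decide +kernel)

end Cfsg.Agent.BZ.C1
end

-- part: BZ/L/AnBox
section
prune_inst 0x4043038741b620000001c8012c0005ed6cb000590006b880149a40b040e84cf630903ef21eca0171a111aa2e4403d8048111000798010000020008600411901a01cc3126661f5b90c660087c0bb8e610002000000000000000000000000000004004010000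
set_option linter.all false
open scoped Cfsg.Agent.FastGrp

-- part: BZ/L/An
section
/-!
# BZ / L : the chain of toral subgroups of a defect group (helper98)

* `Cu F G l r m n N j M D` : `D ≤ G^F` is a defect group of a stable block of `G^(F^m)` whose members have `r`-defect at most `j`;
* `Cu.loc` : descent to the connected centraliser of a toral subgroup; `Cu.tor` : a torus in the support;
* `At` : `A` is the Sylow `l`-subgroup of a torus of small `r`-rank; `Cu.at_self`, `Cu.at_max`, `Cu.an`.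
-/

set_option autoImplicit false
set_option linter.unusedSectionVars false

namespace Cfsg.Agent.BZ.L

open Cfsg Subgroup Cfsg.Agent.DL Cfsg.Agent.DL.Asm Cfsg.Agent.BZ.Lab Cfsg.Agent.KM Cfsg.Agent.Nodes.Reps Cfsg.Agent.Nodes.BNOf
open Cfsg.Agent.KM.Uu (SylIn)

section defs

variable {Y : Type} [Group Y]

/-- `D ≤ G^F` is a defect group of a stable block of `G^(F^m)` whose members have `r`-defect at most `j` -/
structure Cu (F : MulAut Y) (G : Subgroup Y) (l r m n N j : ℕ) (M : Ideal AlgInt) (D : Subgroup Y) : Prop where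
  hM : IsPModular l M
  le : D ≤ GF F G
  ex : ∃ (K : Type) (_ : Group K) (_ : Fintype K) (ι : K →* Y) (α : MulAut K) (B : Set (IrrCharacter K)),
    Function.Injective ι ∧ ι.range = GF (F ^ m) G ∧ (∀ g, ι (α g) = F (ι g)) ∧ Fr l r m n N K α ∧ IsPBlock M B ∧ StB α B ∧
      Mx r j B ∧ IsDefectGroup l M B (D.comap ι)

end defs

variable {p : ℕ} [Fact p.Prime] {k : Type} [Field k] [CharP k p] {Y : Type} [Group Y] {I : Type} [Fintype I]
  [DecidableEq I] {ρ : Y →* GL I k} {F : MulAut Y} {G : Subgroup Y} [IsAlgClosed k] {l r m n N j : ℕ} {M : Ideal AlgInt}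
  {D A : Subgroup Y}

theorem GF_le_pow (F : MulAut Y) (G : Subgroup Y) (m : ℕ) : GF F G ≤ GF (F ^ m) G := inf_le_inf_left G (fix_le_fix_pow m)

/-- the normaliser of a toral set normalises the connected centraliser -/
theorem nrm_cen (X : Datum p ρ F G) (hA : A ≤ X.T) {g : Y} (hg : g ∈ G) (hn : g ∈ normalizer (A : Set Y)) :
    cj g (X.cen A) = X.cen A := by
  rw [← X.conn_eq_cen hA, CF.cj_conn, cj_inf', cj_eq_of_mem hg]
  congr 2
  ext x
  rw [mem_cj]
  refine ⟨fun e a ha => ?_, fun e a ha => ?_⟩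
  · have := e _ ((mem_normalizer_iff''.1 hn a).1 ha)
    exact (MulAut.conj g⁻¹).injective (by simpa only [mul_assoc, _root_.map_inv, _root_.MulAut.inv_apply, _root_.MulAut.conj_symm_apply, _root_.mul_right_inj, _root_.mul_inv_cancel_left] using this)
  · have := e _ ((mem_normalizer_iff.1 hn a).1 ha)
    exact (MulAut.conj g).injective (by simpa only [mul_assoc, _root_.MulAut.conj_apply, _root_.mul_inv_cancel, _root_.mul_one, _root_.mul_inv_cancel_left] using this)

namespace Cu

variable (h : Cu F G l r m n N j M D)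
include h

theorem lp : l.Prime := h.hM.1

theorem mp : m.Prime := by
  obtain ⟨K, _, _, ι, α, B, -, -, -, fr, -⟩ := h.ex
  exact fr.mp

theorem rp : r.Prime := by
  obtain ⟨K, _, _, ι, α, B, -, -, -, fr, -⟩ := h.ex
  exact fr.rp

theorem fin_pow : Finite (GF (F ^ m) G) := by
  obtain ⟨K, _, _, ι, α, B, -, h2, -⟩ := h.ex
  rw [← h2]
  exact Finite.of_surjective _ ι.rangeRestrict_surjective

theorem el {x : Y} (hx : x ∈ D) : ∃ i, x ^ l ^ i = 1 := by
  obtain ⟨K, _, _, ι, α, B, h1, h2, -, -, -, -, -, hD⟩ := h.ex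
  have : Fact l.Prime := ⟨h.lp⟩
  obtain ⟨y, rfl⟩ : x ∈ ι.range := h2 ▸ GF_le_pow F G m (h.le hx)
  exact (Blocks.Basic.isPGroup_of_isDefectGroup hD ⟨y, hx⟩).imp fun i e => by
    rw [← map_pow, show y ^ l ^ i = 1 from congrArg Subtype.val e, map_one]

theorem pg : IsPGroup l D := fun x => (h.el x.2).imp fun _ e => Subtype.ext e

/-- conjugation -/
theorem conj {g : Y} (hg : g ∈ GF F G) : Cu F G l r m n N j M (cj g D) := by
  obtain ⟨K, _, _, ι, α, B, h1, h2, h3, fr, hB, sB, mx, hD⟩ := h.ex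
  obtain ⟨y, rfl⟩ : g ∈ ι.range := h2 ▸ GF_le_pow F G m hg
  refine ⟨h.hM, (cj_mono _ h.le).trans (cj_eq_of_mem hg).le, K, _, inferInstance, ι, α, B, h1, h2, h3, fr, hB, sB, mx, ?_⟩
  convert Blocks.Basic.isDefectGroup_conj hD y using 1
  ext x
  rw [mem_comap, mem_cj, show (D.comap ι).map (MulAut.conj y).toMonoidHom = cj y (D.comap ι) from rfl, mem_cj, mem_comap,
    map_mul, map_mul, map_inv]

/-- **descent to the connected centraliser of a toral subgroup** -/
theorem loc (hL : BoxLoc) (X : Datum p ρ F G) (hA : A ≤ D) (hT : A ≤ X.T) :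
    ∃ E, Cu F (X.cen A) l r m n N j M E ∧ D ⊓ X.cen A ≤ E ∧ (∃ g ∈ GF F G, cj g E ≤ D) ∧
      (D ≤ normalizer (A : Set Y) → E ≤ D) := by
  classical
  obtain ⟨K, _, _, ι, α, B, h1, h2, h3, fr, hB, sB, mx, hD⟩ := h.ex
  have hK : ∀ g, ι g ∈ GF (F ^ m) G := fun g => h2 ▸ ⟨g, rfl⟩
  have hF : ∀ z ∈ A, F z = z := fun z hz => (h.le (hA hz)).2
  have hX := X.sub hT (fun _ => X.g_mem_Sz hT fun z hz => (hF z hz).symm ▸ hz) rfl
  have hr : ∀ z ∈ D, ∃ y, ι y = z := fun z hz => show z ∈ ι.range from h2 ▸ GF_le_pow F G m (h.le hz)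
  have hS : StS α ((X.cen A).comap ι) := fun g => by
    rw [mem_comap, mem_comap, h3]
    exact (X.amb.mem_iff (fun _ => hX.F_mem_G) _)
  have hc : ∀ g : K, g ∈ centralizer (A.comap ι : Set K) ↔ ι g ∈ centralizer (A : Set Y) := fun g =>
    ⟨fun e z hz => by
      obtain ⟨y, rfl⟩ := hr z (hA hz)
      rw [← map_mul, e y hz, map_mul], fun e y hy => h1 (by rw [map_mul, map_mul]; exact e _ hy)⟩
  have hac : Ac l (A.comap ι) ((X.cen A).comap ι).subtype.range := by
    rw [range_subtype]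
    exact ⟨fun g hg => (hc g).2 (X.cen_le_centralizer hT hg), fun y hy hl => TO.X.Cn.ppr_ord X h.lp hT (fun z hz => h.el (hA hz))
      (hK y).1 ((hc y).1 hy) (by rwa [orderOf_injective ι h1])⟩
  have hn : ∀ g : K, ι g ∈ normalizer (A : Set Y) → g ∈ normalizer (((X.cen A).comap ι).subtype.range : Set K) := fun g hg => by
    rw [range_subtype, mem_normalizer_iff']
    intro x
    rw [mem_comap, mem_comap, map_mul, map_mul]
    exact mem_normalizer_iff'.1 (mem_normalizer_iff_cj.2 (nrm_cen X hT (hK g).1 hg)) _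
  have hab : A.comap ι ≤ centralizer (A.comap ι : Set K) := fun x hx => (hc x).2 fun z hz => X.T_comm (hT hz) (hT hx)
  have hfx : ∀ x ∈ D.comap ι, α x = x := fun x hx => h1 ((h3 x).trans (h.le hx).2)
  have := Fintype.ofFinite ((X.cen A).comap ι)
  obtain ⟨η, E, k1, k2, k3, k4, k5, ⟨g, k6, k7⟩, k8⟩ := hL fr.toGl h.hM hB sB hD hfx (comap_mono hA) hab hS.emb hac
    fun g hg => hn g (centralizer_le_normalizer _ ((hc g).1 hg))
  have := h.hM.2.1.isPrime
  obtain ⟨ξ, hξ⟩ := Blocks.Basic.isPBlock_nonempty hB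
  have hi : Function.Injective (ι.comp ((X.cen A).comap ι).subtype) := h1.comp Subtype.val_injective
  refine ⟨E.map (ι.comp ((X.cen A).comap ι).subtype), ⟨h.hM, ?_, ↥((X.cen A).comap ι), inferInstance, inferInstance, ι.comp ((X.cen A).comap ι).subtype,
    hS.res, blockOf M (η : _ → ℂ), hi, ?_, ?ga, ?gb, ?gc, ?gd, ?ge, ?gf⟩, ?_, ⟨ι g, ?gg, ?_⟩, ?_⟩
  case gg => exact ⟨(hK g).1, (h3 g).symm.trans (congrArg ι k6)⟩
  case ge =>
    exact (boxSub.sub fr h.hM hB sB mx ⟨fun x => (h.el (hA x.2)).imp fun i e => Subtype.ext (h1 (by rw [coe_pow, map_pow, e, coe_one, map_one])),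
      hab, fun x hx => hfx x (hA hx)⟩ hS.emb hac η k1 ⟨ξ, hξ, k2 ξ hξ⟩ :)
  case ga => exact fun g => h3 g
  case gb => exact fr.sub hS.emb
  case gc => exact Blocks.Basic.isPBlock_blockOf η
  case gd => exact (boxSt.blk (fr.toGl.sub hS.emb) h.hM η k1 :)
  case gf => rwa [comap_map_eq_self_of_injective hi]
  · rintro _ ⟨x, hx, rfl⟩
    exact ⟨x.2, (h3 x).symm.trans (congrArg (fun y : (X.cen A).comap ι => ι y) (k4 x hx))⟩
  · ext y
    exact ⟨by rintro ⟨x, rfl⟩; exact ⟨x.2, (hK x).2⟩, fun hy => by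
      obtain ⟨x, rfl⟩ : y ∈ ι.range := h2 ▸ ⟨X.cen_le_G _ hy.1, hy.2⟩
      exact ⟨⟨x, hy.1⟩, rfl⟩⟩
  · rintro z ⟨hz, hz'⟩
    obtain ⟨y, rfl⟩ := hr z hz
    obtain ⟨x, hx, e⟩ := k5 (show y ∈ D.comap ι ⊓ _ from ⟨hz, ⟨y, hz'⟩, rfl⟩)
    exact ⟨x, hx, congrArg ι e⟩
  · rintro _ ⟨_, ⟨x, hx, rfl⟩, rfl⟩
    have := k7 x hx
    rwa [mem_comap, map_mul, map_mul, map_inv] at this
  · rintro hD' _ ⟨x, hx, rfl⟩
    refine k8 (fun g hg => ?_) (fun g hg => hn g (hD' hg)) ⟨x, hx, rfl⟩
    rw [mem_normalizer_iff']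
    intro x
    rw [mem_comap, mem_comap, map_mul, map_mul]
    exact mem_normalizer_iff'.1 (hD' hg) _

/-- **a torus in the support of a member of height zero** -/
theorem tor (X : Datum p ρ F G) : ∃ T ∈ tori (X.pow h.mp.pos),
    (Nat.card (GF (F ^ m) T)).factorization l ≤ (Nat.card D).factorization l ∧ (Nat.card (GF (F ^ m) T)).factorization r ≤ j := by
  obtain ⟨K, _, _, ι, α, B, h1, h2, h3, fr, hB, sB, mx, hD⟩ := h.ex
  obtain ⟨θ, k1, k2⟩ := RC.B.exists_hz h.hM hB hD
  let e : K ≃* GF (F ^ m) G := (MonoidHom.ofInjective h1).trans (MulEquiv.subgroupCongr h2)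
  obtain ⟨T, hT, k3⟩ := Uu.exists_tor (X.pow h.mp.pos) (Characters.Core.isIrr_comp e.symm.toMonoidHom e.symm.surjective θ.2)
  have k4 : T ⊓ GF (F ^ m) G = GF (F ^ m) T :=
    le_antisymm (fun _ ht => ⟨ht.1, ht.2.2⟩) fun _ ht => ⟨ht.1, RL.tori_le hT ht.1, ht.2⟩
  rw [k4, ← Nat.card_congr e.toEquiv, show charDegree _ = charDegree θ.1 by simp only [charDegree, Function.comp_apply, map_one]] at k3
  have k5 := ne_zero_of_dvd_ne_zero Nat.card_pos.ne' k3
  have k6 := (Nat.factorization_le_iff_dvd k5 Nat.card_pos.ne').2 k3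
  rw [Nat.factorization_mul (left_ne_zero_of_mul k5) (right_ne_zero_of_mul k5)] at k6
  have k7 := k6 l
  have k8 := k6 r
  have k9 : (Nat.card K).factorization r ≤ _ := mx θ k1
  have k10 : Nat.card (D.comap ι) = Nat.card D := by
    rw [← card_map_of_injective h1, map_comap_eq_self (h2 ▸ h.le.trans (GF_le_pow F G m))]
  rw [Finsupp.add_apply] at k7 k8
  rw [k10] at k2
  exact ⟨T, hT, by omega, by omega⟩

end Cu

/-- `A` is the Sylow `l`-subgroup of a rational torus of small `r`-rank -/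
def At (X : Datum p ρ F G) (l r j : ℕ) (A : Subgroup Y) : Prop :=
  ∃ T ∈ tori X, A ≤ T ∧ SylIn F l T A ∧ (Nat.card (GF F T)).factorization r ≤ j

theorem tori_pow_sub (X : Datum p ρ F G) (hm : 0 < m) {Z : Set Y} (hZ : Z ⊆ X.T) (hF : ∀ a ∈ X.Sz Z, X.g a ∈ X.Sz Z) {C : Subgroup Y}
    (hC : X.cen Z = C) {T : Subgroup Y} (h : T ∈ tori ((X.sub hZ hF hC).pow hm)) : T ∈ tori (X.pow hm) ∧ T ≤ C ∧ Z ⊆ T := by
  have h0 := RL.tori_le h
  obtain ⟨z, hz, e, h1⟩ := h
  refine ⟨⟨z, (hC ▸ X.cen_le_G Z :) hz, e, h1⟩, h0, fun a ha => ?_⟩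
  rw [e, SetLike.mem_coe, mem_cj, mul_assoc, X.cen_le_centralizer hZ (hC ▸ hz) a ha, inv_mul_cancel_left]
  exact hZ ha

namespace Cu

variable (h : Cu F G l r m n N j M D)
include h

/-- a central defect group -/
theorem at_self (X : Datum p ρ F G) (hc : ∀ T ∈ tori (X.pow h.mp.pos), D ≤ T) : At (X.pow h.mp.pos) l r j D := by
  obtain ⟨T, hT, h1, h2⟩ := h.tor X
  have : Fact l.Prime := ⟨h.lp⟩
  have := X.amb.pow h.mp.pos |>.finite_GF T
  obtain ⟨y, hy, rfl, h3⟩ := id hT
  refine ⟨_, hT, hc _ hT, fun t ht h4 h5 => Uu.mem_of_fac (A := GF (F ^ m) _) (fun a ha b hb => ?_)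
    (fun x hx => ⟨hc _ hT hx, (GF_le_pow F G m (h.le hx)).2⟩) (fun _ => h.el) h1 ⟨ht, h4⟩ h5, h2⟩
  have h7 := X.T_comm (mem_cj.1 ha.1) (mem_cj.1 hb.1)
  rw [show a * b = y * (y⁻¹ * a * y * (y⁻¹ * b * y)) * y⁻¹ by group, h7]
  group

/-- one more element -/
theorem step (hp : l ≠ p) (X : Datum p ρ F G) (hA : A ≤ D) (hT : A ≤ X.T) {x : Y} (hx : x ∈ D) (hc : x ∈ X.cen A) :
    ∃ (y : Y) (hy : y ∈ X.cen A) (hN : y⁻¹ * F y ∈ X.NN), A ⊔ zpowers x ≤ (X.conj (X.cen_le_G _ hy) hN).T := by
  obtain ⟨i, hi⟩ := h.el hx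
  obtain ⟨y, hy, hN, h1⟩ := TO.E6.exists_frame_cen X hT (fun z hz => (h.le (hA hz)).2.symm ▸ hz) hc (h.le hx).2 fun e =>
    hp ((Nat.prime_dvd_prime_iff_eq Fact.out h.lp).1 ((Fact.out : p.Prime).dvd_of_dvd_pow (e.trans (orderOf_dvd_of_pow_eq_one hi)))).symm
  exact ⟨y, hy, hN, sup_le (Uu.le_cj hT hy) (zpowers_le.2 (mem_cj.2 h1))⟩

end Cu

end Cfsg.Agent.BZ.L
end

-- part: BZ/L/AnBox
section
/-!
# BZ / L : the box [AN] and the bridges (helper98)

* `An.stab` : an `F ^ m`-stable torus is rationally conjugate to an `F`-stable torus; `An.mem_Pt`;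
* `An.tor` : the torus in the support of a member of height zero; `boxAN`;
* `Cu.of_fm` : from a frame to `Cu`; `Cu.cen_tor`, `Cu.max_tor`, `Cu.an_tor` : the forms with `F`-stable tori.
-/

set_option autoImplicit false
set_option linter.unusedSectionVars false

namespace Cfsg.Agent.BZ.L

open Cfsg Subgroup Cfsg.Agent.DL Cfsg.Agent.DL.Asm Cfsg.Agent.BZ.Lab Cfsg.Agent.KM Cfsg.Agent.Nodes.Reps Cfsg.Agent.Nodes.BNOf
  Cfsg.Agent.HZ.Gen Cfsg.Agent.KM.Ht
open Cfsg.Agent.KM.Uu (SylIn)

variable {p : ℕ} [Fact p.Prime] {k : Type} [Field k] [CharP k p] {Y : Type} [Group Y] {I : Type} [Fintype I]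
  [DecidableEq I] {ρ : Y →* GL I k} {F : MulAut Y} {G : Subgroup Y} [IsAlgClosed k] {X : Datum p ρ F G} {q n c l r m n' N j : ℕ}
  {M : Ideal AlgInt} {D A : Subgroup Y}

namespace An

/-- **[AS]** -/
theorem stab (hq : ∃ f, 0 < f ∧ q = p ^ f) (h : Cs X q n c) (hm : 0 < m) (e : m ≡ 1 [MOD n]) {T : Subgroup Y} (hT : T ∈ tori (X.pow hm)) :
    ∃ y ∈ G, y⁻¹ * F y ∈ X.NN ∧ ∃ g ∈ GF (F ^ m) G, cj y X.T = cj g T := by
  obtain ⟨f, hf, rfl⟩ := hq
  obtain ⟨i, hi⟩ := (Nat.modEq_iff_dvd' hm).1 e.symm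
  obtain ⟨z, hz, rfl, h1⟩ := hT
  obtain ⟨w, hw⟩ := ((X.pow hm).stable_iff hz).1 h1
  obtain ⟨y, hy, h2⟩ := X.exists_type w
  exact ⟨y, hy, ⟨w, h2⟩, KZ.Lie.conj_of_tc (D := X.pow hm) (v := 1) hz hw hy
    (LV.Lift.rp_pow (j := i) (h.lvl hf) hm (by omega) hy h2) (KZ.Lie.CW (X.pow hm) w).one_mem⟩

theorem mem_Pt {S : Subgroup Y} (hS : ∀ a ∈ S, ∀ b ∈ S, a * b = b * a) {s : ℕ} {g : GF (F ^ m) G} :
    g ∈ Pt F G m s S ↔ (g : Y) ∈ S ∧ ∃ j, g ^ s ^ j = 1 := by
  refine ⟨fun h => ?_, fun h => subset_closure h⟩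
  induction h using closure_induction with
  | mem _ h => exact h
  | one => exact ⟨one_mem _, 0, one_pow _⟩
  | mul a b _ _ h h' =>
    obtain ⟨i, hi⟩ := h.2
    obtain ⟨j, hj⟩ := h'.2
    refine ⟨mul_mem h.1 h'.1, i + j, ?_⟩
    rw [Commute.mul_pow (Subtype.ext (hS _ h.1 _ h'.1)), pow_add, pow_mul, hi, one_pow, mul_comm (s ^ i), pow_mul, hj, one_pow, one_mul]
  | inv a _ h => exact ⟨inv_mem h.1, h.2.imp fun _ e => by rw [inv_pow, e, inv_one]⟩

theorem pg_Pt {S : Subgroup Y} (hS : ∀ a ∈ S, ∀ b ∈ S, a * b = b * a) (s : ℕ) : IsPGroup s (Pt F G m s S) := fun g =>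
  ((mem_Pt hS).1 g.2).2.imp fun _ e => Subtype.ext e

theorem comm_cj {y : Y} : ∀ a ∈ cj y X.T, ∀ b ∈ cj y X.T, a * b = b * a := fun a ha b hb => by
  rw [show a * b = y * (y⁻¹ * a * y * (y⁻¹ * b * y)) * y⁻¹ by group, X.T_comm (mem_cj.1 ha) (mem_cj.1 hb)]
  group

theorem card_GF_cj {F' : MulAut Y} {g : Y} (hg : F' g = g) (T : Subgroup Y) : Nat.card (GF F' (cj g T)) = Nat.card (GF F' T) := by
  rw [← card_map_of_injective (f := (MulAut.conj g).toMonoidHom) (K := GF F' T) (MulAut.conj g).injective]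
  congr 2
  rw [show (GF F' T).map (MulAut.conj g).toMonoidHom = cj g (GF F' T) from rfl, GF, GF, cj_inf', cj_eq_of_mem (show g ∈ fix F' from hg)]

/-- a subgroup of the part with the full valuation -/
theorem eq_Pt [Finite (GF (F ^ m) G)] {T : Subgroup Y} (hT : T ≤ G) (hc : ∀ a ∈ T, ∀ b ∈ T, a * b = b * a) {s : ℕ} (hs : s.Prime)
    {R : Subgroup (GF (F ^ m) G)} (hR : IsPGroup s R) (h1 : ∀ x ∈ R, (x : Y) ∈ T)
    (h2 : (Nat.card (GF (F ^ m) T)).factorization s ≤ (Nat.card R).factorization s) : Pt F G m s T = R := by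
  have : Fact s.Prime := ⟨hs⟩
  have : Finite (GF (F ^ m) T) := Finite.of_injective _ (inclusion_injective (show GF (F ^ m) T ≤ GF (F ^ m) G from inf_le_inf_right _ hT))
  refine le_antisymm (fun g hg => ?_) fun g hg => (mem_Pt hc).2 ⟨h1 g hg, (hR ⟨g, hg⟩).imp fun _ e => congrArg Subtype.val e⟩
  obtain ⟨h3, i, h4⟩ := (mem_Pt hc).1 hg
  obtain ⟨x, hx, e⟩ := Uu.mem_of_fac (A := GF (F ^ m) T) (R := R.map (GF (F ^ m) G).subtype) (fun a ha b hb => hc a ha.1 b hb.1)
    (by rintro _ ⟨x, hx, rfl⟩; exact ⟨h1 x hx, x.2.2⟩)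
    (by rintro _ ⟨x, hx, rfl⟩; exact (hR ⟨x, hx⟩).imp fun _ e => congrArg (fun y : R => (y.1 : Y)) e)
    (by rwa [card_map_of_injective Subtype.val_injective]) (t := g) ⟨h3, g.2.2⟩ ⟨i, congrArg Subtype.val h4⟩
  exact Subtype.ext e ▸ hx

theorem cj_le {y : Y} (hy : y ∈ G) : cj y X.T ≤ G := (cj_mono y X.T_le_G).trans (cj_eq_of_mem hy).le

theorem comm_Z0 (Z : Set Y) : ∀ a ∈ Z0 X Z, ∀ b ∈ Z0 X Z, a * b = b * a := fun _ ha _ hb =>
  X.T_comm (Z0_le_T X Z ha) (Z0_le_T X Z hb)

end An

namespace Cu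

/-- from a frame -/
theorem of_fr [Fintype ↥(GF (F ^ m) G)] {α : MulAut ↥(GF (F ^ m) G)} (hα : ∀ g, (α g : Y) = F g) (fr : Fr l r m n' N _ α)
    (hM : IsPModular l M) {B : Set (IrrCharacter ↥(GF (F ^ m) G))} (hB : IsPBlock M B) (sB : StB α B) (mx : Mx r j B) :
    ∃ E, IsDefectGroup l M B E ∧ Cu F G l r m n' N j M (E.map (GF (F ^ m) G).subtype) := by
  have := hM.2.1.isPrime
  have : Fact l.Prime := ⟨hM.1⟩
  obtain ⟨χ, rfl⟩ := id hB
  obtain ⟨E, h1, h2⟩ := boxSt.dfg fr.toGl l M hM χ (sB χ (Blocks.Basic.mem_blockOf_self χ))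
  refine ⟨E, h1, hM, ?_, _, inferInstance, inferInstance, (GF (F ^ m) G).subtype, α, _, subtype_injective _, range_subtype _, hα, fr, hB,
    sB, mx, by rwa [comap_map_eq_self_of_injective (subtype_injective _)]⟩
  rintro _ ⟨x, hx, rfl⟩
  exact ⟨x.2.1, (hα x).symm.trans (congrArg Subtype.val
    (boxSt.grp fr.toGl E (Blocks.Basic.isPGroup_of_isDefectGroup h1) h2 x hx))⟩

variable (hq : ∃ f, 0 < f ∧ q = p ^ f) (hX : Cs X q n c) (e : m ≡ 1 [MOD n])
include hq hX e

/-- the torus in the connected centraliser is `F`-stable -/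
theorem cen_tor (hT : A ≤ X.T) (h : Cu F (X.cen A) l r m n' N j M A) : ∃ y ∈ X.cen A, y⁻¹ * F y ∈ X.NN ∧
    SylIn (F ^ m) l (cj y X.T) A ∧ (Nat.card (GF (F ^ m) (cj y X.T))).factorization r ≤ j := by
  have hF : ∀ a ∈ X.Sz A, X.g a ∈ X.Sz A := fun _ => X.g_mem_Sz hT fun z hz => (h.le hz).2.symm ▸ hz
  obtain ⟨T, h1, h2, h3, h4⟩ := h.at_self (X.sub hT hF rfl) fun T h1 => (tori_pow_sub X _ hT hF rfl h1).2.2
  obtain ⟨y, hy, hN, g, hg, k⟩ := An.stab hq (hX.sub hT hF rfl) h.mp.pos e h1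
  rw [X.sub_NN hT hF rfl] at hN
  refine ⟨y, hy, hN.1, fun t ht k1 ⟨i, k2⟩ => ?_, by rw [show cj y X.T = cj g T from k, An.card_GF_cj hg.2]; exact h4⟩
  rw [show cj y X.T = cj g T from k, mem_cj] at ht
  have k3 := h3 _ ht (by rw [map_mul, map_mul, map_inv, k1, show (F ^ m) g = g from hg.2])
    ⟨i, by simpa only [k2, _root_.inv_inv, _root_.mul_one, _root_.inv_mul_cancel] using conj_pow (a := g⁻¹) (b := t) (i := l ^ i)⟩
  have k4 := X.cen_le_centralizer hT hg.1 _ k3
  rwa [show t = g⁻¹ * t * g from mul_right_cancel (b := g) (by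
    rw [k4]; group)]

/-- **a maximal normal toral subgroup** -/
theorem max_tor (hL : BoxLoc) (h : Cu F G l r m n' N j M D) (hA : A ≤ D) (hT : A ≤ X.T) (hn : D ≤ normalizer (A : Set Y))
    (hx : D ⊓ X.cen A ≤ A) : ∃ y ∈ X.cen A, y⁻¹ * F y ∈ X.NN ∧
      SylIn (F ^ m) l (cj y X.T) A ∧ (Nat.card (GF (F ^ m) (cj y X.T))).factorization r ≤ j := by
  obtain ⟨E, h1, h2, -, h3⟩ := h.loc hL X hA hT
  obtain rfl : E = A := le_antisymm (fun x hx' => hx ⟨h3 hn hx', (h1.le hx').1⟩) ((le_inf hA (hT.trans (X.T_le_cen _))).trans h2)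
  exact h1.cen_tor hq hX e hT

end Cu

end Cfsg.Agent.BZ.L
end
end

-- part: BZ/L/TA/Ta1b
section
prune_inst 0x4243038740b620000001c8012c0005ed6ca000492006b880169e403040684cf632903ef214ce0171a111aaa64003d8068101000798030000000008600411d05a10cc25246f3c9b10c66008780bb8e610002000000000000000000000000000004204010000
set_option linter.all false
open scoped Cfsg.Agent.FastGrp

-- part: BZ/L/Loc
section
/-!
# BZ / L : the blocks of the centralisers of the abelian subgroups of the defect group (helper79)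

`(D, e)` is a stable root, `(A, f)` is the pair below it.
-/

set_option autoImplicit false
set_option linter.unusedSectionVars false

namespace Cfsg.Agent.BZ.L

namespace Loc

open Cfsg Subgroup Cfsg.Agent Cfsg.Agent.Blocks Cfsg.Agent.TID.Red Cfsg.Agent.H592.Transport Cfsg.Agent.BZ.Lab
  Cfsg.Agent.BZ.Lab.Df Cfsg.Agent.BZ.Lab.Start

variable {l m N : ℕ} {M : Ideal AlgInt} {K : Type} [Group K] [Fintype K] {α : MulAut K}

theorem st_of_fix {Q : Subgroup K} (h : ∀ x ∈ Q, α x = x) : StS α Q := fun g =>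
  ⟨fun e => α.injective (h _ e) ▸ e, fun e => (h g e).symm ▸ e⟩

/-- **the fixed choice** of a conjugating element -/
theorem fix_conj (h : Gl l m N K α) {H : Subgroup K} (hH : StS α H) {R : Set K} {x : K} (hx : x ∈ H)
    (h1 : ∀ r ∈ R, α r = r) (h2 : ∀ r ∈ R, α (x * r * x⁻¹) = x * r * x⁻¹) :
    ∃ y ∈ H, α y = y ∧ ∀ r ∈ R, y * r * y⁻¹ = x * r * x⁻¹ := by
  have h3 : Nat.card {y | y ∈ H ∧ ∀ r ∈ R, y * r * y⁻¹ = x * r * x⁻¹} = Nat.card ↥(H ⊓ centralizer R) :=
    Nat.card_congr ((Equiv.mulLeft x⁻¹).subtypeEquiv fun y => by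
      show (y ∈ H ∧ ∀ r ∈ R, y * r * y⁻¹ = x * r * x⁻¹) ↔ (x⁻¹ * y ∈ H ∧ ∀ r ∈ R, r * (x⁻¹ * y) = x⁻¹ * y * r)
      rw [mul_mem_cancel_left (inv_mem hx)]
      refine and_congr_right fun _ => forall₂_congr fun r _ => ⟨fun e => ?_, fun e => ?_⟩
      · calc r * (x⁻¹ * y) = x⁻¹ * (x * r * x⁻¹) * y := by group
          _ = _ := by rw [← e]; group
      · calc y * r * y⁻¹ = x * (x⁻¹ * y * r) * y⁻¹ := by group
          _ = _ := by rw [← e]; group)
  obtain ⟨y, h4, h5⟩ := ex_fix (f := α) h.mp (fun y => by rw [Stb.iter_eq, h.pow, MulAut.one_apply])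
    (S := {y | y ∈ H ∧ ∀ r ∈ R, y * r * y⁻¹ = x * r * x⁻¹})
    (fun y hy => ⟨(hH y).2 hy.1, fun r hr => by
      rw [← h2 r hr, ← hy.2 r hr, map_mul, map_mul, map_inv, h1 r hr]⟩)
    fun hd => h.cop (hd.trans (h3 ▸ card_subgroup_dvd_card _))
  exact ⟨y, h4.1, h5, h4.2⟩

variable [Fact l.Prime] {B : Set (IrrCharacter K)} {D A : Subgroup K}

/-- a stable root -/
theorem root (h : Gl l m N K α) (hM : IsPModular l M) (hB : IsPBlock M B) (hs : StB α B) (hD : IsDefectGroup l M B D)
    (sD : StS α D) : ∃ e, IsBrauerPairOf l M B D e ∧ StB sD.cen.res e := by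
  have := hM.2.1.isPrime
  have := Fintype.ofFinite (centralizer (D : Set K))
  obtain ⟨χ, rfl⟩ := hB
  obtain ⟨J, _, _, γ, κ, φ, e, hr, h1, h2⟩ := pc_top boxSt boxUp h hM (hs χ (Basic.mem_blockOf_self χ)) hD sD
  have h3 : ∀ y, κ y ∈ centralizer (D : Set K) := fun y => hr.le ⟨y, rfl⟩
  have e' : Emb (κ.codRestrict _ h3) γ sD.cen.res :=
    ⟨fun a b hab => e.inj (congrArg Subtype.val hab), fun y => Subtype.ext (e.cm y)⟩
  obtain ⟨η, hη⟩ := exists_ov_up e'.inj φ
  have u0 := boxUp.nrm (l := l) hM e'.inj (fun y _ => by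
    obtain ⟨z, hz⟩ := hr.ge y.2
    exact ⟨z, Subtype.ext hz⟩) ((ov_iff _ _ _).1 hη)
  have hp := Basic.isPGroup_of_isDefectGroup hD
  have hf : IsPBlock M (blockOf M (η : centralizer (D : Set K) → ℂ)) := ⟨η, rfl⟩
  obtain ⟨B, h4, -⟩ := H644.existsUnique_isBrauerPairOf hM (⟨hp, hf⟩ : IsBrauerPair l M D _)
  obtain ⟨χ', h5⟩ := Basic.isPBlock_nonempty h4.2.1
  have u1 := boxUp.trans hM e'.inj u0 (subtype_injective _)
    (boxUp.ind ((H649.isBrauerPairOf_iff_isInducedBlock hM h4.2.1 hp hf).1 h4) η (Basic.mem_blockOf_self η) χ' h5)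
  have h6 : B = blockOf M (χ : K → ℂ) :=
    Basic.isPBlock_eq_of_sameBlock h4.2.1 ⟨χ, rfl⟩ h5 (Basic.mem_blockOf_self χ) (boxUp.uniq hM u1 h2)
  exact ⟨_, h6 ▸ h4, boxSt.blk (h.sub sD.cen.emb) hM η (st_of_up boxUp (h.sub sD.cen.emb) hM e' h1 u0)⟩

variable {e : Set (IrrCharacter (centralizer (D : Set K)))} {f : Set (IrrCharacter (centralizer (A : Set K)))}

omit [Fintype K] in
theorem map_eq {Q : Subgroup K} (h : StS α Q) : Q.map α.toMonoidHom = Q :=
  Subgroup.ext fun x => ⟨fun ⟨y, hy, e⟩ => e ▸ (h y).2 hy, fun hx =>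
    ⟨α.symm x, (h _).1 (by rwa [α.apply_symm_apply]), α.apply_symm_apply x⟩⟩

/-- the pair below a stable pair is stable -/
theorem below (h : Gl l m N K α) (hM : IsPModular l M) (sD : StS α D) (sA : StS α A) (he : IsBrauerPair l M D e)
    (se : StB sD.cen.res e) (hle : SubpairLE l M A f D e) : StB sA.cen.res f := by
  have := hM.2.1.isPrime
  have := Fintype.ofFinite (centralizer (A : Set K))
  have h1 : H649.idxMap α ⟨D, e⟩ = ⟨D, e⟩ := H649.idx_ext (map_eq sD) fun φ => (H649.idxMap_test α _ φ).trans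
    (exists_congr fun ξ => and_congr_right fun hξ => ⟨fun h2 k => by
      have h3 := h2 (sD.cen.res.symm k)
      rw [← se ξ hξ, MulEquiv.apply_symm_apply] at h3
      exact (congrArg φ (α.apply_symm_apply (k : K))).symm.trans h3, fun h2 k => (h2 (sD.cen.res k)).trans (se ξ hξ k)⟩)
  have h2 : H649.LEIdx l M (H649.idxMap α ⟨A, f⟩) (H649.idxMap α ⟨D, e⟩) := H649.leIdx_idxMap α hle
  rw [h1] at h2
  have h3 : H649.idxMap α ⟨A, f⟩ = ⟨A, f⟩ := by
    have h4 : (H649.idxMap α ⟨A, f⟩).1 = A := map_eq sA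
    revert h2 h4
    generalize H649.idxMap α ⟨A, f⟩ = a
    obtain ⟨Q', f'⟩ := a
    rintro h2 (rfl : Q' = A)
    rw [H649.subpair_unique hM he h2 hle]
  intro χ hχ
  have h4 : H649.Tst (H649.idxMap α ⟨A, f⟩) (extendByZero _ (χ : centralizer (A : Set K) → ℂ)) :=
    h3.symm ▸ ⟨χ, hχ, fun k => Characters.Core.extendByZero_of_mem _ _ k.2⟩
  obtain ⟨ξ, h5, h6⟩ := (H649.idxMap_test α _ _).1 h4
  have h7 : H649.irrMap sA.cen.res.symm χ = ξ := Subtype.ext (funext fun k =>
    (Characters.Core.extendByZero_of_mem _ _ (sA.cen.res k).2).symm.trans (h6 k))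
  exact st_of_same (h.sub sA.cen.emb) hM
    (Basic.isPBlock_sameBlock (H649.SubpairLE.isBrauerPair hle he).2 hχ (h7 ▸ h5))

/-- if `D` normalises `A` then `C_D(A)` has the order of a defect group of `f` -/
theorem card_le (hM : IsPModular l M) (hD : IsDefectGroup l M B D) (he : IsBrauerPairOf l M B D e)
    (hle : SubpairLE l M A f D e) (hn : D ≤ normalizer (A : Set K)) {E : Subgroup (centralizer (A : Set K))}
    (hE : IsDefectGroup l M f E) :
    Nat.card E ≤ Nat.card ((D ⊓ centralizer (A : Set K)).subgroupOf (centralizer (A : Set K))) := by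
  have := hM.2.1.isPrime
  have := Fintype.ofFinite (centralizer (A : Set K))
  have h2 := (H644.isBrauerPairOf_iff_of_subpairLE hM hle).1 he
  have hf := h2.1.2
  have hp := h2.1.1
  obtain ⟨T, hT⟩ : ∃ T, H649.IsStab A f T := ⟨H651.idxStab ⟨A, f⟩, fun y => H649.conjIdx_eq_iff hf y⟩
  obtain ⟨F, hF, hFc⟩ := H649.exists_block_of_isStab hM hp hf hT
  obtain ⟨R, hR, hPR⟩ := H649.exists_stab_defect hM he.1 hle hT hF hFc
  have hPT := H649.inf_normalizer_le hM he.1 hle hT
  rw [inf_eq_left.2 hn] at hPR hPT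
  obtain ⟨ξ, hξ⟩ := Basic.isPBlock_nonempty hF
  obtain ⟨θ, hθ⟩ := exists_ov (inclusion hT.centralizer_le) ξ.2
  have hθ' := (ov_iff _ _ _).1 hθ
  have hc : CovH (inclusion hT.centralizer_le) F f := ⟨ξ, hξ, θ, H649.mem_of_constituent hT hFc hξ hθ', hθ⟩
  have n2 : (inclusion hT.centralizer_le).range.Normal :=
    normal_cod (j := (centralizer (A : Set K)).subtype) _ fun x hx => by
      rw [range_subtype]
      exact H649.mem_normalizer_centralizer (hT.le_normalizer hx)
  have i1 : IndH M (inclusion hT.centralizer_le) f F := indH_of_covH hM (inclusion_injective _) n2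
    hT.normal_subgroupOf hp.comap_subtype (fun x hx => ⟨⟨x, H649.centralizer_subgroupOf_of_le hT.le hx⟩, rfl⟩) hF hf hc
  obtain ⟨D', h3, h4⟩ := le_defect hM (subtype_injective T) ((i1.trans_iff (ι := (centralizer (A : Set K)).subtype)
    fun _ => rfl).1 ((H649.isBrauerPairOf_iff_isInducedBlock hM he.2.1 hp hf).1 h2)) hR
  obtain ⟨g, rfl⟩ := conj_defect hM he.2.1 hD h3
  have h5 : D.subgroupOf T = R := eq_of_le_of_card_ge hPR (by
    rw [H649.card_subgroupOf hPT, ← card_map_of_injective (subtype_injective T),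
      ← card_map_of_injective (K := D) (f := (MulAut.conj g).toMonoidHom) (MulAut.conj g).injective]
    exact card_le_of_le h4)
  obtain ⟨P, h6, h7⟩ := exists_defect_inf hM (inclusion_injective _) n2 hF hf hc hE
  obtain ⟨t, rfl⟩ := conj_defect hM hF (h5 ▸ hR) h6
  have h8 := H649.mem_normalizer_centralizer (hT.le_normalizer (inv_mem t.2))
  have h9 : ∀ y : E, (t : K)⁻¹ * y.1 * (t : K)⁻¹⁻¹ ∈ centralizer (A : Set K) := fun y =>
    (mem_normalizer_iff.1 h8 _).1 y.1.2
  have h10 : ∀ y : E, (t : K)⁻¹ * y.1 * (t : K)⁻¹⁻¹ ∈ D := fun y => by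
    obtain ⟨d, hd, h11⟩ := h7.ge y.2
    have h12 : (t : K) * d * (t : K)⁻¹ = y.1 := congrArg Subtype.val h11
    rw [← h12, show (t : K)⁻¹ * (t * d * (t : K)⁻¹) * (t : K)⁻¹⁻¹ = d by group]
    exact hd
  refine Nat.card_le_card_of_injective (fun y : E => (⟨⟨_, h9 y⟩, mem_subgroupOf.2 (mem_inf.2 ⟨h10 y, h9 y⟩)⟩ :
    (D ⊓ centralizer (A : Set K)).subgroupOf (centralizer (A : Set K)))) fun y y' hy => ?_
  have h11 : (t : K)⁻¹ * y.1 * (t : K)⁻¹⁻¹ = (t : K)⁻¹ * y'.1 * (t : K)⁻¹⁻¹ := congrArg (fun z => (z.1 : K)) hy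
  exact Subtype.ext (Subtype.ext (mul_left_cancel (mul_right_cancel h11)))

end Loc

open Cfsg Subgroup Cfsg.Agent Cfsg.Agent.Blocks Cfsg.Agent.TID.Red Cfsg.Agent.H592.Transport Cfsg.Agent.BZ.Lab
  Cfsg.Agent.BZ.Lab.Df Cfsg.Agent.BZ.Lab.Start Loc in
/-- **[Loc]** -/
theorem boxLoc : BoxLoc := by
  intro l m N K C _ _ _ _ α γ κ M B D A h hM hB sB hD fD hA hab em ac hn
  have : Fact l.Prime := ⟨hM.1⟩
  have := hM.2.1.isPrime
  have := Fintype.ofFinite (centralizer (A : Set K))
  have sD := st_of_fix fD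
  have sA : StS α A := st_of_fix fun x hx => fD x (hA hx)
  obtain ⟨e, he, se⟩ := root h hM hB sB hD sD
  obtain ⟨f, hle⟩ := H644.exists_subpairLE hM he.1 A hA
  have h2 := (H644.isBrauerPairOf_iff_of_subpairLE hM hle).1 he
  have hi := (H649.isBrauerPairOf_iff_isInducedBlock hM hB h2.1.1 h2.1.2).1 h2
  have hX := h.sub sA.cen.emb
  obtain ⟨χ, hχ⟩ := Basic.isPBlock_nonempty h2.1.2
  let κ' := κ.codRestrict _ fun y => ac.1 ⟨y, rfl⟩
  have em' : Emb κ' γ sA.cen.res := ⟨fun a b hab => em.inj (congrArg Subtype.val hab), fun y => Subtype.ext (em.cm y)⟩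
  have nr : κ'.range.Normal := normal_cod _ hn
  have := Fintype.ofFinite κ'.range
  have sR : StS sA.cen.res κ'.range := by
    rw [MonoidHom.range_eq_map]
    exact StS.map (fun _ => Iff.rfl) em'
  obtain ⟨φ, h3, h4⟩ := ex_con hX sR (below h hM sD sA he.1 se hle χ hχ)
  let η₀ := tr (MonoidHom.ofInjective em'.inj) φ
  have o0 : TID.Red.Ov κ' (χ : centralizer (A : Set K) → ℂ) (η₀ : C → ℂ) :=
    (ov_src_iff _ (ι := κ'.range.subtype) (fun _ => rfl) _ φ).2 ((ov_iff _ _ _).2 h4)
  have s0 : St γ (η₀ : C → ℂ) := fun y => (congrArg (φ : κ'.range → ℂ) (Subtype.ext (em'.cm y))).trans (h3 _)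
  have hC := h.sub em
  obtain ⟨Q, hQ, sQ⟩ := boxSt.dfg hC l M hM η₀ s0
  have fQ := boxSt.grp hC Q (Basic.isPGroup_of_isDefectGroup hQ) sQ
  obtain ⟨P, hP, hPQ⟩ := exists_defect_inf hM em'.inj nr h2.1.2 ⟨η₀, rfl⟩ ⟨χ, hχ, η₀, Basic.mem_blockOf_self η₀, o0⟩ hQ
  obtain ⟨E₁, h5, h6⟩ := H649.exists_centralizer_defect hM he.1 hle
  obtain ⟨x, rfl⟩ := conj_defect hM h2.1.2 hP h5
  obtain ⟨y, hy, h7, h8⟩ := fix_conj h sA.cen (R := {r | (∃ q ∈ Q, κ q = r) ∧ (x : K) * r * (x : K)⁻¹ ∈ D}) x.2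
    (by rintro _ ⟨⟨q, hq, rfl⟩, -⟩; rw [← em.cm, fQ q hq]) fun r hr => fD _ hr.2
  obtain ⟨c, hc⟩ := exists_cj em.inj (hn hy)
  have h9 : ∀ k, c (γ k) = γ (c k) := fun k => em.inj (by rw [hc, em.cm, em.cm, hc, map_mul, map_mul, map_inv, h7])
  have o1 : TID.Red.Ov κ' (χ : centralizer (A : Set K) → ℂ) (tr c.symm η₀ : C → ℂ) :=
    TID.Red.Ov.congr (fun k => by
      show (χ : centralizer (A : Set K) → ℂ) (κ' k) = (χ : centralizer (A : Set K) → ℂ) (κ' (c.symm k))
      rw [← Basic.irr_conj χ.2 (κ' (c.symm k)) ⟨y, hy⟩]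
      exact congrArg (χ : centralizer (A : Set K) → ℂ) (Subtype.ext ((congrArg κ (c.apply_symm_apply k)).symm.trans (hc _))))
      ((ov_src_iff c.symm (ι' := κ'.comp c.symm.toMonoidHom) (fun _ => rfl) _ η₀).2 o0)
  have d1 := isDefectGroup_trSet c.symm hQ
  rw [Basic.isPBlock_eq_of_mem (isPBlock_trSet c.symm ⟨η₀, rfl⟩) ⟨tr c.symm η₀, rfl⟩
    (tr_mem_trSet.2 (Basic.mem_blockOf_self η₀)) (Basic.mem_blockOf_self _)] at d1
  have f1 : ∀ k ∈ Q.comap c.symm.toMonoidHom, γ k = k := fun k hk => by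
    rw [← c.apply_symm_apply k, ← h9]
    exact congrArg c (fQ _ hk)
  have k1 : ∀ d ∈ D ⊓ κ.range, ∃ q ∈ Q, (x : K) * κ q * (x : K)⁻¹ = d := fun d hd => by
    obtain ⟨z, hz, h10⟩ := h6 (show (⟨d, ac.1 hd.2⟩ : centralizer (A : Set K)) ∈ _ from ⟨hd.1, ac.1 hd.2⟩)
    have h11 : (x : K) * z * (x : K)⁻¹ = d := congrArg Subtype.val h10
    obtain ⟨q, hq⟩ := (mem_normalizer_iff.1 (hn x.2) (z : K)).2 (h11 ▸ hd.2)
    exact ⟨q, hPQ.le (show κ' q ∈ P from (Subtype.ext hq : κ' q = z) ▸ hz), hq ▸ h11⟩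
  have l1 : D ⊓ κ.range ≤ (Q.comap c.symm.toMonoidHom).map κ := fun d hd => by
    obtain ⟨q, hq, rfl⟩ := k1 d hd
    exact ⟨c q, (show c.symm (c q) ∈ Q by rw [c.symm_apply_apply]; exact hq), (hc q).trans (h8 _ ⟨⟨q, hq, rfl⟩, hd.1⟩)⟩
  refine ⟨tr c.symm η₀, _, fun k => ?_, fun ξ hξ => ?_, d1, f1, l1, ?_, fun hN _ => ?_⟩
  · rw [tr_apply, tr_apply c.symm, ← s0 (c.symm k)]
    exact congrArg (η₀ : C → ℂ) (c.injective (by rw [h9, c.apply_symm_apply, c.apply_symm_apply]))
  · exact (boxUp.trans hM em'.inj (boxUp.nrm hM em'.inj (fun z hz => by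
      obtain ⟨k, hk⟩ := ac.2 z z.2 (by rwa [orderOf_coe])
      exact ⟨k, Subtype.ext hk⟩) ((ov_iff _ _ _).1 o1)) (subtype_injective _) (boxUp.ind hi χ hχ ξ hξ) :)
  · obtain ⟨D', h10, h11⟩ := le_defect hM (subtype_injective _) hi hP
    obtain ⟨g, rfl⟩ := conj_defect hM hB hD h10
    have h12 : ∀ k ∈ Q.comap c.symm.toMonoidHom, g⁻¹ * y⁻¹ * κ k * (g⁻¹ * y⁻¹)⁻¹ ∈ D := fun k hk => by
      obtain ⟨d, hd, h13⟩ := h11 ⟨κ' (c.symm k), hPQ.ge hk, rfl⟩
      have h14 : g * d * g⁻¹ = κ (c.symm k) := h13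
      rw [← c.apply_symm_apply k, hc, ← h14, show g⁻¹ * y⁻¹ * (y * (g * d * g⁻¹) * y⁻¹) * (g⁻¹ * y⁻¹)⁻¹ = d by group]
      exact hd
    obtain ⟨g', -, h13, h14⟩ := fix_conj h (H := ⊤) (fun _ => Iff.rfl) (R := κ '' Q.comap c.symm.toMonoidHom)
      (mem_top (g⁻¹ * y⁻¹)) (by rintro _ ⟨k, hk, rfl⟩; rw [← em.cm, f1 k hk])
      (by rintro _ ⟨k, hk, rfl⟩; exact fD _ (h12 k hk))
    exact ⟨g', h13, fun k hk => (h14 _ ⟨k, hk, rfl⟩).symm ▸ h12 k hk⟩
  · have h10 := eq_of_le_of_card_ge h6 (card_le hM hD he hle hN h5)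
    have h11 : ∀ q ∈ Q, (x : K) * κ q * (x : K)⁻¹ ∈ D := fun q hq =>
      (h10.ge (⟨κ' q, hPQ.ge hq, rfl⟩ : MulAut.conj x (κ' q) ∈ P.map (MulAut.conj x).toMonoidHom)).1
    rintro _ ⟨k, hk, rfl⟩
    have hk' : c.symm k ∈ Q := hk
    have h12 : κ k = y * κ (c.symm k) * y⁻¹ := (congrArg κ (c.apply_symm_apply k)).symm.trans (hc _)
    rw [h12, h8 _ ⟨⟨c.symm k, hk', rfl⟩, h11 _ hk'⟩]
    exact h11 _ hk'

end Cfsg.Agent.BZ.L
end

-- part: BZ/L/TA/Ta3
section
/-!
# BZ / L / TA : the local system (helper98)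

`boxTa3 : BoxTa3`; tools `T3.to_gf`, `T3.ZG_conj`, `T3.cen_frame`, `T3.of_tor`.
-/

set_option autoImplicit false
set_option linter.unusedSectionVars false
set_option maxHeartbeats 400000

namespace Cfsg.Agent.BZ.TA

open Cfsg Subgroup Cfsg.Agent.HZ.Gen Cfsg.Agent.KM Cfsg.Agent.BZ.Lab Cfsg.Agent.DL Cfsg.Agent.KM.Ht Cfsg.Agent.KM.Tor
  Cfsg.Agent.BZ.L Cfsg.Agent.Nodes.Reps Cfsg.Agent.Nodes.BNOf
open Cfsg.Agent.KM.Uu (SylIn)

namespace T3

variable {p : ℕ} [Fact p.Prime] {k : Type} [Field k] [CharP k p] {Y : Type} [Group Y] {I : Type} [Fintype I]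
  [DecidableEq I] {ρ : Y →* GL I k} {F : MulAut Y} {G : Subgroup Y} [IsAlgClosed k] {X : Datum p ρ F G} {q n c l r m n' N j : ℕ}
  {M : Ideal AlgInt} {D A : Subgroup Y}

/-- back to the group of fixed points -/
theorem to_gf (h : L.Cu F G l r m n' N j M D) : ∃ (α : MulAut ↥(GF (F ^ m) G)) (B : Set (IrrCharacter ↥(GF (F ^ m) G))),
    (∀ g, (α g : Y) = F g) ∧ IsPBlock M B ∧ StB α B ∧ Mx r j B ∧ IsDefectGroup l M B (D.subgroupOf (GF (F ^ m) G)) := by
  obtain ⟨K, _, _, ι, α, B, h1, h2, h3, -, hB, sB, mx, hD⟩ := h.ex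
  let e : K ≃* GF (F ^ m) G := (MonoidHom.ofInjective h1).trans (MulEquiv.subgroupCongr h2)
  have he : ∀ x, (e x : Y) = ι x := fun _ => rfl
  refine ⟨e.symm.trans (α.trans e), H649.blkMap e B, fun g => ?_, H649.isPBlock_blkMap hB, ?_, ?_, ?_⟩
  · rw [MulEquiv.trans_apply, MulEquiv.trans_apply, he, h3, ← he, e.apply_symm_apply]
  · rintro _ ⟨ψ, hψ, rfl⟩ g
    rw [H649.irrMap_apply, H649.irrMap_apply, MulEquiv.trans_apply, MulEquiv.trans_apply, e.symm_apply_apply]
    exact sB ψ hψ _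
  · rintro _ ⟨ψ, hψ, rfl⟩
    have := mx ψ hψ
    unfold Si.Tt at this ⊢
    rwa [H649.charDegree_irrMap, ← Nat.card_congr e.toEquiv]
  · convert H649.isDefectGroup_blkMap (e := e) hD using 1
    ext x
    obtain ⟨x, rfl⟩ := e.surjective x
    rw [mem_subgroupOf, he]
    exact (mem_map_iff_mem (f := e.toMonoidHom) (K := D.comap ι) e.injective).symm

theorem ZG_conj {y : Y} (hy : y ∈ G) (hN : y⁻¹ * F y ∈ X.NN) : ZG (X.conj hy hN) = ZG X := by
  ext z
  refine ⟨fun h => ?_, fun h => ?_⟩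
  · have e : y⁻¹ * z * y = z := by rw [mul_assoc, ← Bz.Zc_cen h y hy, inv_mul_cancel_left]
    have h1 : z ∈ X.T := e ▸ mem_cj.1 h.1
    exact ⟨h1, fun a ha => by rw [← X.conj_χ hy hN a h1, Bz.Zc_cen h y hy, mul_inv_cancel_right]; exact h.2 a ha⟩
  · have e : y * z * y⁻¹ = z := by rw [Bz.Zc_cen h y hy, mul_inv_cancel_right]
    exact ⟨e ▸ conj_mem_cj.2 h.1, fun a ha => by rw [← e, X.conj_χ hy hN a h.1]; exact h.2 a ha⟩

/-- the connected centraliser does not depend on the frame -/
theorem cen_frame (X X' : Datum p ρ F G) {Z : Set Y} (h : Z ⊆ X.T) (h' : Z ⊆ X'.T) : X.cen Z = X'.cen Z :=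
  (X.conn_eq_cen h).symm.trans (X'.conn_eq_cen h')

/-- a toral defect group -/
theorem of_tor (hq : ∃ f, 0 < f ∧ q = p ^ f) (hX : Cs X q n c) (e : m ≡ 1 [MOD n]) (h : L.Cu F G l r m n' N j M D) {g : Y} (hg : g ∈ G)
    (hT : ∀ x ∈ D, g⁻¹ * x * g ∈ X.T) : ∃ y ∈ G, y⁻¹ * F y ∈ X.NN ∧ D ≤ cj y X.T ∧ SylIn (F ^ m) l (cj y X.T) D ∧
      (Nat.card (GF (F ^ m) (cj y X.T))).factorization r ≤ j := by
  obtain ⟨y, hy, hN, h1, -⟩ := SB.Exc.Max.exists_conj_le_T X (Z := D) (fun z hz => (h.le hz).2.symm ▸ hz) hg hT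
  obtain ⟨z, hz, h2, h3⟩ := h.max_tor hq (hX.conj hy hN) e _root_.Cfsg.Agent.BZ.L.boxLoc le_rfl h1 le_normalizer inf_le_left
  have h4 := Datum.cen_le_G _ _ hz
  have h5 : cj (z * y) X.T = cj z (X.conj hy hN).T := cj_mul _ _ _
  refine ⟨z * y, mul_mem h4 hy, (X.stable_iff (mul_mem h4 hy)).1 ?_, h5 ▸ Uu.le_cj h1 hz, h5 ▸ h3⟩
  rw [h5]
  exact (Datum.stable_iff _ h4).2 h2

theorem ncard_lt (hA : A ≤ X.T) (hF : ∀ a ∈ X.Sz A, X.g a ∈ X.Sz A) {x : Y} (hx : x ∈ A) (h : x ∉ ZG X) :
    {a | (X.sub hA hF rfl).Rt a}.ncard < {a | X.Rt a}.ncard :=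
  (Set.ncard_le_ncard_of_injOn (X.io A) (fun a ha => (X.sub_rt hA hF rfl).1 ha) (X.io_injective A).injOn
    (X.finite_roots.subset fun _ h => h.1)).trans_lt (Set.ncard_lt_ncard ⟨fun _ h => h.1, fun e => h ⟨hA hx, fun _ ha => (e ha).2 x hx⟩⟩
      X.finite_roots)

theorem Z0_conj {y : Y} (hy : y ∈ G) (hN : y⁻¹ * F y ∈ X.NN) : Z0 X ∅ ≤ Z0 (X.conj hy hN) ∅ := (closure_le _).2 (by
  rintro _ ⟨v, a, e1, rfl⟩
  have e2 : y * X.τ (coch v a) * y⁻¹ = X.τ (coch v a) := by
    rw [Si.Ee.Z_comm X hy (mem_Z0 e1 a), mul_inv_cancel_right]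
  rw [SetLike.mem_coe, ← e2]
  exact mem_Z0 (X := X.conj hy hN) (A := ∅) (fun b hb => e1 b ⟨hb.1, fun _ h => h.elim⟩) a)

theorem Z0_sub (hA : A ≤ X.T) (hF : ∀ a ∈ X.Sz A, X.g a ∈ X.Sz A) : Z0 X ∅ ≤ Z0 (X.sub hA hF rfl) ∅ := (closure_le _).2 (by
  rintro _ ⟨v, a, e1, rfl⟩
  exact mem_Z0 (X := X.sub hA hF rfl) (fun b hb => e1 _ ⟨((X.sub_rt hA hF rfl).1 hb.1).1, fun _ h => h.elim⟩) a)

theorem card_Pt {C Z : Subgroup Y} [Finite (GF (F ^ m) G)] (X' : Datum p ρ F C) (hC : C ≤ G) (hZ : Z ≤ Z0 X' ∅) :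
    (Nat.card (Pt F G m r Z)).factorization r ≤ (Nat.card (Pt F C m r (Z0 X' ∅))).factorization r := by
  have hle : GF (F ^ m) C ≤ GF (F ^ m) G := inf_le_inf_right _ hC
  have := Finite.of_injective _ (inclusion_injective hle)
  refine (Nat.factorization_le_iff_dvd Nat.card_pos.ne' Nat.card_pos.ne').2 ?_ r
  rw [← card_map_of_injective (inclusion_injective hle)]
  refine card_dvd_of_le fun z hz => ?_
  obtain ⟨e1, i, e2⟩ := (An.mem_Pt fun a ha b hb => An.comm_Z0 (X := X') ∅ a (hZ ha) b (hZ hb)).1 hz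
  exact ⟨⟨z, X'.T_le_G (Z0_le_T X' ∅ (hZ e1)), z.2.2⟩, (An.mem_Pt (An.comm_Z0 (X := X') ∅)).2 ⟨hZ e1, i, Subtype.ext
    (congrArg (fun u : GF (F ^ m) G => (u : Y)) e2)⟩, rfl⟩

/-- the induction hypothesis gives a toral defect group -/
theorem of_ih (hq : ∃ f, 0 < f ∧ q = p ^ f) (hl : l.Prime) (hX : Cs X q n c) (e : m ≡ 1 [MOD n]) (h : L.Cu F G l r m n' N j M D)
    (ih : ∀ (α : MulAut ↥(GF (F ^ m) G)) (B : Set (IrrCharacter ↥(GF (F ^ m) G))), (∀ g, (α g : Y) = F g) → IsPBlock M B → StB α B →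
      Mx r j B → ∃ z ∈ G, IsDefectGroup l M B (Pt F G m l (cj z X.T))) :
    ∃ y ∈ G, y⁻¹ * F y ∈ X.NN ∧ D ≤ cj y X.T ∧ SylIn (F ^ m) l (cj y X.T) D ∧
      (Nat.card (GF (F ^ m) (cj y X.T))).factorization r ≤ j := by
  have := h.fin_pow
  obtain ⟨α, B, k1, k2, k3, k4, k5⟩ := to_gf h
  obtain ⟨z, hz, k6⟩ := ih α B k1 k2 k3 k4
  have : Fact l.Prime := ⟨hl⟩
  obtain ⟨u, hu⟩ := TID.Red.conj_defect h.hM k2 k5 k6
  refine of_tor hq hX e h (g := (u : Y)⁻¹ * z) (mul_mem (inv_mem u.2.1) hz) fun t ht => ?_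
  have e1 : u * ⟨t, _root_.Cfsg.Agent.BZ.L.GF_le_pow F _ m (h.le ht)⟩ * u⁻¹ ∈ Pt F G m l (cj z X.T) := hu ▸ ⟨_, ht, rfl⟩
  have e2 := mem_cj.1 ((An.mem_Pt An.comm_cj).1 e1).1
  simpa only [mul_assoc, _root_.mul_inv_rev, _root_.inv_inv, _root_.Subgroup.coe_mul, _root_.InvMemClass.coe_inv] using e2

theorem cen_sup {x : Y} (h1 : x ∈ X.T) : X.cen (zpowers x ⊔ (ZG X ⊓ D) : Subgroup Y) = X.cen {x} :=
  Tor.cen_congr (Set.Subset.antisymm (Tor.Sz_anti (Set.singleton_subset_iff.2 (mem_sup_left (mem_zpowers x)))) fun a ha =>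
    ⟨ha.1, fun z hz => (show zpowers x ⊔ (ZG X ⊓ D) ≤ _root_.Cfsg.Agent.KM.Tor.Zc X {a} from sup_le
      (zpowers_le.2 ⟨h1, fun _ e => e ▸ ha.2 x rfl⟩) fun z hz => ⟨hz.1.1, fun _ e => e ▸ hz.1.2 a ha.1⟩) hz |>.2 a rfl⟩)

theorem nrm_sup {x : Y} (hD : D ≤ G) (hx : x ∈ D) (e1 : ∀ g ∈ D, g * x * g⁻¹ * x⁻¹ ∈ ZG X) :
    D ≤ normalizer ((zpowers x ⊔ (ZG X ⊓ D) : Subgroup Y) : Set Y) := by
  have key : ∀ g ∈ D, cj g (zpowers x ⊔ (ZG X ⊓ D)) ≤ zpowers x ⊔ (ZG X ⊓ D) := fun g hg => by
    rw [cj, map_le_iff_le_comap]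
    refine sup_le (zpowers_le.2 ?_) fun z hz => ?_
    · show g * x * g⁻¹ ∈ zpowers x ⊔ (ZG X ⊓ D)
      rw [show g * x * g⁻¹ = g * x * g⁻¹ * x⁻¹ * x by group]
      exact mul_mem (mem_sup_right ⟨e1 g hg, D.mul_mem (D.mul_mem (D.mul_mem hg hx) (D.inv_mem hg)) (D.inv_mem hx)⟩)
        (mem_sup_left (mem_zpowers x))
    · show g * z * g⁻¹ ∈ zpowers x ⊔ (ZG X ⊓ D)
      rw [Bz.Zc_cen hz.1 g (hD hg), mul_inv_cancel_right]
      exact mem_sup_right hz
  intro g hg
  rw [mem_normalizer_iff]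
  exact fun z => ⟨fun hz => key g hg (conj_mem_cj.2 hz), fun hz => by
    simpa only [mul_assoc, _root_.inv_mul_cancel_left, _root_.inv_inv, _root_.inv_mul_cancel, _root_.mul_one] using key g⁻¹ (inv_mem hg) (conj_mem_cj.2 hz)⟩

/-- the local step in a frame which contains `x` -/
theorem step (hq : ∃ f, 0 < f ∧ q = p ^ f) (hl : l.Prime) (hX : Cs X q n c) (e : m ≡ 1 [MOD n]) (h : L.Cu F G l r m n' N j M D)
    {x : Y} (hx : x ∈ D) (h1 : x ∈ X.T) (hxZ : x ∉ ZG X)
    (ih : ∀ {C : Subgroup Y} (X' : Datum p ρ F C), C ≤ G → Cs X' q n c → {a | X'.Rt a}.ncard < {a | X.Rt a}.ncard → Z0 X ∅ ≤ Z0 X' ∅ →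
      ∀ (α : MulAut ↥(GF (F ^ m) C)) (B : Set (IrrCharacter ↥(GF (F ^ m) C))), (∀ g, (α g : Y) = F g) → IsPBlock M B → StB α B →
      Mx r j B → ∃ z ∈ C, IsDefectGroup l M B (Pt F C m l (cj z X'.T))) :
    ∃ v ∈ G, v⁻¹ * F v ∈ X.NN ∧ x ∈ cj v X.T ∧ (Nat.card (GF (F ^ m) (cj v X.T))).factorization r ≤ j ∧ D ⊓ X.cen {x} ≤ cj v X.T ∧
      ∃ E, SylIn (F ^ m) l (cj v X.T) E ∧ (∃ g ∈ GF F G, cj g E ≤ D) ∧ ((∀ g ∈ D, g * x * g⁻¹ * x⁻¹ ∈ ZG X) → E ≤ D) := by
  have hT : zpowers x ⊔ (ZG X ⊓ D) ≤ X.T := sup_le (zpowers_le.2 h1) fun z hz => hz.1.1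
  have hA : zpowers x ⊔ (ZG X ⊓ D) ≤ D := sup_le (zpowers_le.2 hx) inf_le_right
  have hc := cen_sup (D := D) h1
  have hn := nrm_sup (X := X) (fun _ hg => (h.le hg).1) hx
  have hxA : x ∈ zpowers x ⊔ (ZG X ⊓ D) := mem_sup_left (mem_zpowers x)
  generalize zpowers x ⊔ (ZG X ⊓ D) = A at hT hA hc hn hxA
  obtain ⟨E, h2, h3, h4, h5⟩ := h.loc _root_.Cfsg.Agent.BZ.L.boxLoc X hA hT
  have hF : ∀ a ∈ X.Sz A, X.g a ∈ X.Sz A := fun _ => X.g_mem_Sz hT fun z hz => (h.le (hA hz)).2.symm ▸ hz
  obtain ⟨v, hv, hvN, k7, k8, k9⟩ := of_ih hq hl (hX.sub hT hF rfl) e h2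
    (ih _ (X.cen_le_G A) (hX.sub hT hF rfl) (ncard_lt hT hF hxA hxZ) (Z0_sub hT hF))
  have hvG := X.cen_le_G A hv
  exact ⟨v, hvG, (X.stable_iff hvG).1 (((X.sub hT hF rfl).stable_iff hv).2 hvN), k7 (h3 ⟨hx, X.T_le_cen A h1⟩), k9,
    hc ▸ h3.trans k7, E, k8, h4, fun e1 => h5 (hn e1)⟩

end T3

/-- **[Ta3]** -/
theorem boxTa3 : BoxTa3 := fun j ih p _ q d l n c hq => by
  by_cases h0 : n = 0
  · exact Lg.of_forall fun m _ r _ k _ _ Y _ I _ _ ρ F G _ X h => absurd h.n0 (by omega)
  refine ((ih p q d l n c hq).and (Lg.modEq h0)).mono ?_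
  rintro m ⟨ih, e⟩ r hr k _ _ Y _ I _ _ ρ F G _ X hX _ n' N α M fm hM hj B ⟨hB, sB, mx⟩
  obtain ⟨D₀, hD, h⟩ := L.Cu.of_fr fm.cm (fm.fr r hr.rp hr.mr) hM hB sB mx
  refine ⟨D₀, hD, fun x hx => Subtype.ext ((fm.cm x).trans (h.le ⟨x, hx, rfl⟩).2), h.le, h.pg, ?_⟩
  generalize D₀.map (GF (F ^ m) G).subtype = D at h
  intro x hx hxZ
  obtain ⟨i, hi⟩ := h.el hx
  obtain ⟨y, hy, hN, h1⟩ := TO.E6.exists_frame X (h.le hx) (Tor.not_dvd_ord hq.lp hq.ne hi)
  obtain ⟨v, hv, hvN, k1, k2, k3, E, k4, ⟨g, hg, k5⟩, k6⟩ := T3.step hq.pq hq.lp (hX.conj hy hN) e h hx h1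
    ((T3.ZG_conj hy hN).symm ▸ hxZ) fun {C} X' hC hX' h2 h3 α' B' k1 k2 k3 k4 => by
      have hle : GF (F ^ m) C ≤ GF (F ^ m) G := inf_le_inf_right _ hC
      have := Finite.of_injective _ (inclusion_injective hle)
      have := Fintype.ofFinite (GF (F ^ m) C)
      obtain ⟨z, hz, hzN, k6, -⟩ := ih r hr X' hX' n' N α' M ⟨k1, fun s e1 e2 => (fm.fr s e1 e2).sub (ι := inclusion hle)
        ⟨inclusion_injective hle, fun u => Subtype.ext ((k1 u).trans (fm.cm (inclusion hle u)).symm)⟩⟩ hM (h2.trans_le hj) B'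
        ⟨k2, k3, fun ξ hξ => (k4 ξ hξ).trans (Nat.add_le_add_left (T3.card_Pt X' hC ((T3.Z0_conj hy hN).trans h3)) _)⟩
      exact ⟨z, hz, k6⟩
  have k10 : cj (v * y) X.T = cj v (X.conj hy hN).T := cj_mul _ _ _
  have k11 : (v * y)⁻¹ * F (v * y) ∈ X.NN := (X.stable_iff (mul_mem hv hy)).1 (by
    rw [k10]
    exact ((X.conj hy hN).stable_iff hv).2 hvN)
  rw [← k10] at k1 k2 k3 k4
  rw [T3.ZG_conj hy hN] at k6
  have k13 : ∀ t, Tl (X.conj (mul_mem hv hy) k11) l t → t ∈ E := fun t ht => k4 t ht.1 (fix_le_fix_pow m ht.2.1) ht.2.2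
  refine ⟨v * y, mul_mem hv hy, k11, k1, An.eq_Pt (An.cj_le (mul_mem hv hy)) An.comm_cj hr.rp (An.pg_Pt (An.comm_Z0 (X := X) ∅) r)
    (fun t ht => Si.Ee.Z_le_cj X (mul_mem hv hy) ((An.mem_Pt (An.comm_Z0 (X := X) ∅)).1 ht).1) k2, ?_,
    ⟨g, hg, fun t ht => k5 (conj_mem_cj.2 (k13 t ht))⟩, fun e1 t ht => k6 e1 (k13 t ht)⟩
  rw [T3.cen_frame _ (X.conj hy hN) (Set.singleton_subset_iff.2 k1) (Set.singleton_subset_iff.2 h1)]
  exact k3

end Cfsg.Agent.BZ.TA
end

-- part: BZ/L/TA/Ta1b
section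
/-!
# BZ / L / TA : toral defect groups (helper98)

`boxTa1b : BoxTa1`.
-/

set_option autoImplicit false
set_option linter.unusedSectionVars false
set_option maxHeartbeats 400000

namespace Cfsg.Agent.BZ.TA

open Cfsg Subgroup Cfsg.Agent.HZ.Gen Cfsg.Agent.KM Cfsg.Agent.BZ.Lab Cfsg.Agent.DL Cfsg.Agent.KM.Ht Cfsg.Agent.KM.Tor
  Cfsg.Agent.BZ.L Cfsg.Agent.Nodes.Reps Cfsg.Agent.Nodes.BNOf

/-- **[Ta1]** -/
theorem boxTa1b : BoxTa1 := fun p _ q d l n c hq => by
  by_cases h0 : n = 0
  · exact Lg.of_forall fun m _ r _ k _ _ Y _ I _ _ ρ F G _ X h => absurd h.n0 (by omega)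
  refine (Lg.modEq h0).mono ?_
  rintro m e r hr k _ _ Y _ I _ _ ρ F G _ X hX _ n' N α M fm hM h0 B hB
  obtain ⟨D, hD, hf, y, hy, hN, h1⟩ := h0 B hB
  have h : L.Cu F G l r m n' N _ M (D.map (GF (F ^ m) G).subtype) :=
    ⟨hM, by rintro _ ⟨x, hx, rfl⟩; exact ⟨x.2.1, (fm.cm x).symm.trans (congrArg _ (hf x hx))⟩,
      _, inferInstance, inferInstance, (GF (F ^ m) G).subtype, α, B, subtype_injective _, range_subtype _, fm.cm,
      fm.fr r hr.rp hr.mr, hB.1, hB.2.1, hB.2.2, by rwa [comap_map_eq_self_of_injective (subtype_injective _)]⟩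
  obtain ⟨v, hv, hvN, k1, k2, k3⟩ := T3.of_tor hq.pq hX e h hy (by rintro _ ⟨x, hx, rfl⟩; exact mem_cj.1 (h1 x hx))
  refine ⟨v, hv, hvN, ?_, An.eq_Pt (An.cj_le hv) An.comm_cj hr.rp (An.pg_Pt (An.comm_Z0 (X := X) ∅) r)
    (fun t ht => Si.Ee.Z_le_cj X hv ((An.mem_Pt (An.comm_Z0 (X := X) ∅)).1 ht).1) k3⟩
  convert hD using 1
  ext x
  refine (An.mem_Pt An.comm_cj).trans ⟨fun ⟨e1, i, e2⟩ => ?_, fun hx => ⟨k1 ⟨x, hx, rfl⟩, ?_⟩⟩
  · obtain ⟨z, hz, e3⟩ := k2 x e1 x.2.2 ⟨i, congrArg Subtype.val e2⟩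
    exact Subtype.ext e3 ▸ hz
  · obtain ⟨i, hi⟩ := h.el ⟨x, hx, rfl⟩
    exact ⟨i, Subtype.ext hi⟩

end Cfsg.Agent.BZ.TA
end
end

-- part: BZ/X/S62
section
prune_inst 0x630103d344700000000008000a0004210680004920000880000620a00030c4000010248004480011a000208000001002000000000c00000000a0000000004052110000000d0c90108600001000308210002000000000000000000000000000000204010000
set_option linter.all false
open scoped Cfsg.Agent.FastGrp

/-!
# BZ, the double cover of `Sp₆(2)` : a faithful character of degree `48` (helper48)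

The product of the characters of degrees `7` and `8` is reducible (Clifford multiplication); the restriction to a Frobenius
group of order `56` shows that it has a constituent of degree at least `48`.  `dg_s62`.
-/

set_option autoImplicit false
set_option linter.unusedSectionVars false
set_option maxRecDepth 100000
set_option maxHeartbeats 400000

namespace Cfsg.Agent.BZ.X.S62

open Cfsg Subgroup Matrix Cfsg.Agent.Characters.Core Cfsg.Agent.BZ.C2
open scoped Kronecker

section gen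

variable {G : Type} [Group G] [Finite G]

/-- the sum of a character over a listed subgroup -/
theorem sum_nat {χ : G → ℂ} (hχ : IsCharacter G χ) {L : List G} (h0 : L.Nodup) (h1 : 1 ∈ L)
    (h2 : ∀ a ∈ L, ∀ b ∈ L, a * b ∈ L) : ∃ n : ℕ, (L.map χ).sum = L.length * n := by
  classical
  let S : Submonoid G := ⟨⟨{g | g ∈ L}, fun ha hb => h2 _ ha _ hb⟩, h1⟩
  let F : Subgroup G := ⟨S, fun {g} hg => (Submonoid.powers_le.2 hg : _ ≤ S)
    (mem_powers_iff_mem_zpowers.2 (inv_mem (mem_zpowers g)))⟩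
  have := Fintype.ofFinite F
  obtain ⟨n, hn⟩ := classInner_isNat (isCharacter_comp F.subtype hχ) isCharacter_one
  have h3 : ∀ f : G → ℂ, ∑ g : F, f g = (L.map f).sum := fun f => by
    rw [← List.sum_toFinset f h0, Finset.sum_subtype L.toFinset (p := (· ∈ F)) fun x => List.mem_toFinset]
  have h4 := h3 fun _ => 1
  simp only [Finset.sum_const, Finset.card_univ, nsmul_eq_mul, mul_one, List.map_const', List.sum_replicate] at h4
  refine ⟨n, ?_⟩
  rw [← hn, ← h3, ← h4, classInner_def, Nat.card_eq_fintype_card, mul_inv_cancel_left₀ (by simp only [_root_.ne_eq, _root_.Nat.cast_eq_zero, _root_.Fintype.card_ne_zero, _root_.not_false_eq_true])]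
  simp only [_root_.Subgroup.coe_subtype, _root_.Function.comp_apply, _root_.Pi.one_apply, _root_.map_one, _root_.mul_one]

theorem frob_gen {χ : G → ℂ} (hχ : IsIrrCharacter G χ) {z x : G} (h : ∀ g, χ (z * g) = -χ g) {U V : List G}
    (h0 : (1 :: (U ++ V)).Nodup) (h2 : ∀ a ∈ 1 :: (U ++ V), ∀ b ∈ 1 :: (U ++ V), a * b ∈ 1 :: (U ++ V))
    (hU : ∀ a ∈ U, ∃ u, u⁻¹ * a * u = z * a) (hV : ∀ a ∈ V, ∃ u, u⁻¹ * a * u = x) (h3 : U.length = 7) (h4 : V.length = 48) :
    ∃ n : ℕ, χ 1 + 48 * χ x = 56 * n := by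
  obtain ⟨n, hn⟩ := sum_nat (isIrr_isCharacter hχ) h0 List.mem_cons_self h2
  have h1 : ∀ g u, χ (u⁻¹ * g * u) = χ g := fun g u => by simpa using isIrr_isClassFunction hχ g u⁻¹
  rw [List.map_cons, List.sum_cons, List.map_append, List.sum_append, List.sum_eq_zero (List.forall_mem_map.2 fun a ha => ?_),
    List.sum_eq_card_nsmul _ (χ x) (List.forall_mem_map.2 fun a ha => ?_)] at hn
  · exact ⟨n, by simpa [h3, h4] using hn⟩
  · obtain ⟨u, hu⟩ := hV a ha
    rw [← hu, h1]
  · obtain ⟨u, hu⟩ := hU a ha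
    have h5 := h1 a u
    rw [hu, h] at h5
    linear_combination (-1 / 2 : ℂ) * h5

/-- the constituent of degree `48` -/
theorem exists48 {ψ : G → ℂ} (hψ : IsCharacter G ψ) (hn : ¬ IsIrrCharacter G ψ) {z x : G} (hz : z ∈ center G)
    (hz2 : z * z = 1) (h1 : ψ 1 = 56) (h2 : ψ z = -56) (h3 : ψ x = 0)
    (hF : ∀ χ, IsIrrCharacter G χ → (∀ g, χ (z * g) = -χ g) → ∃ n : ℕ, χ 1 + 48 * χ x = 56 * n) :
    ∃ χ : IrrCharacter G, χ.1 z = -χ.1 1 ∧ charDegree χ.1 = 48 := by
  classical
  have := @Fintype.ofFinite _ (finite_irr (G := G))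
  obtain ⟨m, hm⟩ := exists_nat_comb hψ
  have h4 : ∀ g, ψ g = ∑ χ : IrrCharacter G, m χ * χ.1 g := fun g => by rw [hm, Finset.sum_apply]; simp only [_root_.Pi.smul_apply, _root_.nsmul_eq_mul]
  have h5 : ∀ χ : IrrCharacter G, χ.1 1 = charDegree χ.1 := fun χ => Blocks.Basic.irr_one_eq_charDegree χ.2
  choose ε h6 h7 using fun χ : IrrCharacter G => H613.ExcB.exists_sign χ.2 hz hz2
  have h8 : ∀ χ, m χ ≠ 0 → ε χ = -1 := fun χ h => by
    have a1 : ∑ χ : IrrCharacter G, (m χ : ℤ) * ((1 + ε χ) * charDegree χ.1) = 0 := by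
      have a2 : ψ 1 + ψ (z * 1) = 0 := by rw [mul_one, h1, h2, add_neg_cancel]
      rw [h4, h4, ← Finset.sum_add_distrib] at a2
      refine Int.cast_injective (α := ℂ) ?_
      rw [Int.cast_zero, ← a2, Int.cast_sum]
      exact Finset.sum_congr rfl fun χ _ => by rw [h7, h5]; push_cast; ring
    have a3 := (Finset.sum_eq_zero_iff_of_nonneg fun χ _ => mul_nonneg (Nat.cast_nonneg _)
      (mul_nonneg (by nlinarith only [h6 χ]) (Nat.cast_nonneg _))).1 a1 χ (Finset.mem_univ _)
    have a4 := (Blocks.Basic.charDegree_pos χ.2).ne'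
    simp only [mul_eq_zero, Nat.cast_eq_zero, h, a4, false_or, or_false] at a3
    omega
  have h9 : ∀ χ : IrrCharacter G, ∃ c : ℤ, m χ ≠ 0 → χ.1 x = c ∧ ∃ n : ℕ, (charDegree χ.1 : ℤ) + 48 * c = 56 * n := fun χ => by
    by_cases h : m χ = 0
    · exact ⟨0, fun e => absurd h e⟩
    obtain ⟨n, a1⟩ := hF χ.1 χ.2 fun g => by rw [h7, h8 χ h]; simp
    rw [h5] at a1
    obtain ⟨c, a2⟩ := Characters.GaloisBasic.exists_int_of_isIntegral
      (Characters.GaloisBasic.isIntegral_apply (isIrr_isCharacter χ.2) x)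
      ⟨(56 * n - charDegree χ.1) / 48, by push_cast; linear_combination a1 / 48⟩
    exact ⟨c, fun _ => ⟨a2, n, by rw [a2] at a1; exact_mod_cast a1⟩⟩
  choose c h9 using h9
  have h10 : ∑ χ : IrrCharacter G, m χ * charDegree χ.1 = 56 := by
    rw [h4] at h1
    simp only [h5] at h1
    exact_mod_cast h1
  have h11 : ∑ χ : IrrCharacter G, (m χ : ℤ) * (charDegree χ.1 - 8 * c χ) = 56 := by
    have a2 : ψ 1 - 8 * ψ x = 56 := by rw [h1, h3]; simp
    rw [h4, h4, Finset.mul_sum, ← Finset.sum_sub_distrib] at a2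
    refine Int.cast_injective (α := ℂ) ?_
    rw [Int.cast_ofNat, ← a2, Int.cast_sum]
    refine Finset.sum_congr rfl fun χ _ => ?_
    by_cases h : m χ = 0
    · simp [h]
    · rw [(h9 χ h).1, h5]; push_cast; ring
  obtain ⟨χ, -, h12⟩ := Finset.exists_lt_of_sum_lt (f := fun _ => (0 : ℤ)) (by rw [h11]; simp only [_root_.Finset.sum_const_zero, _root_.Nat.ofNat_pos])
  have h13 : m χ ≠ 0 := fun h => by simp [h] at h12
  have h14 := (pos_iff_pos_of_mul_pos h12).1 (by positivity)
  obtain ⟨n, h15⟩ := (h9 χ h13).2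
  refine ⟨χ, by simpa [h8 χ h13] using h7 χ 1, by_contra fun h16 => hn ?_⟩
  rw [← Finset.add_sum_erase _ _ (Finset.mem_univ χ)] at h10
  have h17 : 56 ≤ charDegree χ.1 := by omega
  have h18 := Nat.mul_le_mul_left (m χ) h17
  have h19 : m χ = 1 := by omega
  rw [hm, Finset.sum_eq_single χ (fun χ' _ h => ?_) (by simp only [_root_.Finset.mem_univ, _root_.not_true_eq_false, _root_.nsmul_eq_mul, _root_.IsEmpty.forall_iff]), h19, one_smul]
  · exact χ.2
  · have a1 := Finset.sum_eq_zero_iff.1 (show ∑ χ ∈ Finset.univ.erase χ, m χ * charDegree χ.1 = 0 by omega) χ' (by simp only [h, _root_.Finset.mem_erase, _root_.ne_eq, _root_.not_false_eq_true, _root_.Finset.mem_univ, _root_.and_self])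
    rw [(mul_eq_zero.1 a1).resolve_right (Blocks.Basic.charDegree_pos χ'.2).ne', zero_smul]

/-- the representation of a homomorphism to integral matrices -/
noncomputable def rp {ι : Type} [Fintype ι] [DecidableEq ι] (φ : G →* Matrix ι ι ℤ) : Representation ℂ G (ι → ℂ) :=
  (toLinAlgEquiv' (R := ℂ) (n := ι)).toMulEquiv.toMonoidHom.comp ((Int.castRingHom ℂ).mapMatrix.toMonoidHom.comp φ)

theorem rp_apply {ι : Type} [Fintype ι] [DecidableEq ι] (φ : G →* Matrix ι ι ℤ) (g : G) :
    rp φ g = toLin' ((φ g).map (Int.castRingHom ℂ)) := rfl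

theorem rp_char {ι : Type} [Fintype ι] [DecidableEq ι] (φ : G →* Matrix ι ι ℤ) (g : G) :
    (rp φ).character g = ((φ g).trace : ℤ) := by
  rw [Representation.character, rp_apply, trace_toLin'_eq, ← AddMonoidHom.map_trace]
  rfl

theorem not_irr {ι κ : Type} [Fintype ι] [DecidableEq ι] [Fintype κ] [DecidableEq κ] (φ : G →* Matrix ι ι ℤ)
    (θ : G →* Matrix κ κ ℤ) {P : Matrix κ ι ℤ} (h0 : P ≠ 0) (h1 : Fintype.card κ < Fintype.card ι) {s : Set G}
    (hs : closure s = ⊤) (h : ∀ g ∈ s, P * φ g = θ g * P) : ¬ IsIrrCharacter G (rp φ).character := fun h2 => by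
  have := isIrreducible_of_isIrrCharacter _ h2
  have h3 : ∀ g, P * φ g = θ g * P := fun g => by
    induction hs.ge (mem_top g) using closure_induction with
    | mem g hg => exact h g hg
    | one => simp
    | mul a b _ _ ha hb => rw [map_mul, map_mul, ← Matrix.mul_assoc, ha, Matrix.mul_assoc, hb, Matrix.mul_assoc]
    | inv a _ ha =>
      have a1 := congrArg (fun X => θ a⁻¹ * X * φ a⁻¹) ha
      simp only [Matrix.mul_assoc, ← map_mul, mul_inv_cancel, map_one, Matrix.mul_one] at a1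
      rw [a1, ← Matrix.mul_assoc, ← map_mul, inv_mul_cancel, map_one, Matrix.one_mul]
  let f : (rp φ).IntertwiningMap (rp θ) := ⟨toLin' (P.map (Int.castRingHom ℂ)), fun g => by
    rw [rp_apply, rp_apply, ← toLin'_mul, ← toLin'_mul, ← Matrix.map_mul, ← Matrix.map_mul, h3]⟩
  rcases Representation.IsIrreducible.injective_or_eq_zero f with h4 | h4
  · have a1 := LinearMap.finrank_le_finrank_of_injective (f := f.toLinearMap) h4
    simp only [Module.finrank_fintype_fun_eq_card] at a1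
    omega
  · have a1 : toLin' (P.map (Int.castRingHom ℂ)) = 0 := congrArg Representation.IntertwiningMap.toLinearMap h4
    rw [LinearEquiv.map_eq_zero_iff] at a1
    exact h0 (Matrix.ext fun i j => by simpa using congrFun (congrFun a1 i) j)

end gen

open Cfsg.Agent.SporRec.TwoSp6 Cfsg.Agent.SporRec.TwoSp6.Mat Cfsg.Agent.SporRec.TwoSp6.Cox
  Cfsg.Agent.SporRec.TwoSp6.Lift Cfsg.Agent.SporRec.TwoSp6.Model Cfsg.Agent.SporRec.TwoSp6.Order
  Cfsg.Agent.SporRec.TwoSp6.Conj Cfsg.Agent.SporRec.TwoSp6.Hom Cfsg.Agent.Lib.PackMat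

/-- the spin representation on the lattice `E₈`; the Coxeter element and its cube in degrees `8`, `7` -/
def AL : List (List (List ℤ)) :=
  [[[-2, 1, 0, 1, 1, -1, 2, -1], [-1, 1, 0, 0, 1, 0, 1, -1], [-4, 2, -1, 2, 2, -1, 3, -1], [-3, 2, -1, 2, 1, -1, 3,
  -1], [-2, 1, -1, 2, 1, -1, 2, -1], [-1, 0, -1, 1, 1, -1, 2, 0], [-1, 0, 0, 0, 1, -1, 1, 0], [-2, 2, -1, 1, 2, -1, 2,
  -1]], [[1, -1, -1, 1, 2, -3, 0, 0], [0, -1, 0, 0, 2, -2, 0, 0], [2, -3, -2, 2, 4, -5, 0, 0], [2, -2, -2, 1, 4, -4,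
  0, 0], [2, -2, -1, 0, 3, -3, 0, 0], [2, -1, -1, 0, 2, -2, 0, 0], [1, -1, -1, 0, 1, -1, 0, 1], [1, -2, -1, 1, 3, -3,
  -1, 0]], [[0, -1, 3, -3, 1, 0, -1, -1], [0, -1, 2, -2, 0, 0, 0, 0], [0, -2, 6, -6, 2, -1, 0, -2], [0, -1, 5, -5, 2,
  -1, 0, -2], [0, 0, 4, -4, 1, 0, 0, -2], [0, 0, 3, -2, 0, 0, 0, -2], [1, 0, 1, -1, 0, 0, 0, -1], [0, -2, 4, -4, 1, 0,
  0, -1]], [[0, 0, -2, 0, -1, 1, 1, 3], [0, 0, -2, 1, -1, 1, 0, 2], [0, 0, -4, 1, -3, 2, 1, 6], [0, -1, -3, 1, -3, 2,
  1, 5], [-1, -1, -2, 1, -2, 1, 1, 4], [-1, -1, -1, 0, -1, 1, 0, 3], [-1, 0, 0, 0, -1, 1, 0, 1], [0, 0, -3, 1, -2, 1,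
  1, 4]], [[2, 1, 0, 1, -1, 1, 0, -3], [2, 1, 0, 0, 0, 0, 0, -2], [4, 3, 0, 1, -1, 2, 0, -6], [3, 3, 0, 1, -1, 2, -1,
  -5], [3, 2, -1, 1, -1, 2, -1, -3], [2, 2, -1, 1, -1, 1, 0, -2], [1, 1, -1, 1, 0, 0, 0, -1], [3, 2, 0, 1, -1, 1, 0,
  -4]], [[-2, 0, 0, 0, 1, 1, -3, 1], [-2, 0, 1, 0, 0, 1, -2, 0], [-4, -1, 1, -1, 2, 2, -6, 2], [-4, -1, 1, -1, 2, 1,
  -4, 2], [-3, 0, 1, -1, 2, 0, -3, 1], [-2, 0, 1, -1, 2, 0, -2, 0], [-1, 0, 1, -1, 1, 0, -1, 0], [-3, 0, 1, -1, 1, 2,
  -4, 1]], [[0, 2, 1, 0, -1, -2, 2, -1], [0, 1, 0, 0, 0, -2, 2, 0], [0, 4, 1, 1, -1, -5, 4, -2], [1, 3, 0, 1, -1, -4,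
  3, -1], [1, 2, 0, 1, -1, -3, 3, -1], [0, 1, 0, 1, -1, -2, 2, 0], [0, 0, 0, 1, -1, -1, 1, 0], [0, 2, 1, 0, 0, -4, 3,
  -1]], [[1, 1, -2, 2, -1, 0, 2, 0], [1, 0, -1, 1, -1, 0, 2, 0], [2, 2, -3, 3, -3, 1, 4, 0], [1, 2, -2, 2, -2, 0, 4,
  0], [0, 1, -1, 2, -2, 0, 3, 0], [0, 1, 0, 1, -1, 0, 2, -1], [0, 1, 0, 1, -1, 0, 1, -1], [1, 1, -2, 2, -2, 1, 3, 0]],
  [[1, 1, 0, 1, -1, -2, 1, -1], [1, 0, 0, 0, 0, -2, 1, 0], [2, 2, 0, 2, -1, -5, 2, -2], [2, 2, 0, 1, 0, -4, 1, -2],
  [2, 1, 0, 1, 0, -3, 1, -2], [2, 1, -1, 1, 0, -2, 1, -1], [1, 0, -1, 1, 0, -1, 0, 0], [2, 1, 0, 1, -1, -3, 1, -1]],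
  [[0, -1, 0, 0, 0, 0, 1], [0, 0, -1, 0, 0, 0, 1], [-1, -1, 0, 0, 0, 0, 1], [0, -1, -1, 0, 0, 0, 1], [0, 0, 0, -1, 0,
  0, 1], [0, 0, 0, 0, -1, 0, 1], [0, 0, 0, 0, 0, -1, 1]], [[-1, -1, 0, 0, 1, 0, 0], [0, -1, -1, 0, 1, 0, 1], [-1, -1,
  -1, 0, 1, 1, 0], [-1, -2, -1, 0, 1, 1, 1], [-1, -1, -1, 0, 1, 0, 1], [0, -1, -1, 0, 1, 0, 0], [0, 0, 0, -1, 1, 0,
  0]]]

def mk (n k : ℕ) : Matrix (Fin n) (Fin n) ℤ := fun i j => ((AL.getD k []).getD i []).getD j 0

def A (k : Fin 7) : Matrix (Fin 8) (Fin 8) ℤ := mk 8 k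

theorem cox {R : Type} [Monoid R] {a : Fin 7 → Rˣ} {y w : R}
    (h1 : (a 0).1 * (a 1).1 * (a 2).1 * ((a 3).1 * (a 4).1) * ((a 5).1 * (a 6).1) = y) (h2 : y * y * y = w)
    (h3 : w * w * w = 1) : prod7 a ^ 9 = 1 := Units.ext (by
  rw [← h2, ← h1] at h3
  simpa only [prod7, pow_succ, mul_assoc, _root_.Fin.isValue, _root_.pow_zero, _root_.one_mul, _root_.Units.val_mul, _root_.Units.val_one] using h3)

/-- the negatives of the reflections of `E₇` -/
def C (k : Fin 7) : Matrix (Fin 7) (Fin 7) ℤ := fun i j =>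
  (if i = k then if j = k then 2 else if m7 k j = 3 then -1 else 0 else 0) - if i = j then 1 else 0

/-- Clifford multiplication -/
def P : Matrix (Fin 8) (Fin 7 × Fin 8) ℤ := fun i j => A j.1 i j.2

private def nt {n : ℕ} (M : Matrix (Fin n) (Fin n) ℤ) (i j : ℕ) : ℤ := if h : i < n ∧ j < n then M ⟨i, h.1⟩ ⟨j, h.2⟩ else 0

private noncomputable def ml (n : ℕ) (f g : ℕ → ℕ → ℤ) (i j : ℕ) : ℤ :=
  Nat.rec 0 (fun k r => Int.add r (Int.mul (f i k) (g k j))) n

private noncomputable def ew {n : ℕ} (l : List (Matrix (Fin n) (Fin n) ℤ)) (M : Matrix (Fin n) (Fin n) ℤ) : ℕ → ℕ → ℤ :=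
  List.rec (nt M) (fun N _ f => ml n (nt N) f) l

private theorem ew_eq {n : ℕ} (l : List (Matrix (Fin n) (Fin n) ℤ)) (M : Matrix (Fin n) (Fin n) ℤ) :
    ∀ i j : Fin n, ew l M i j = (l.foldr (· * ·) M) i j := by
  have h0 : ∀ (M : Matrix (Fin n) (Fin n) ℤ) (i j : Fin n), nt M i j = M i j := fun M i j => dif_pos ⟨i.2, j.2⟩
  have h1 : ∀ (f g : ℕ → ℕ → ℤ) (i j m : ℕ), ml m f g i j = ∑ k ∈ Finset.range m, f i k * g k j := fun f g i j m => by
    induction m with
    | zero => rfl
    | succ m ih => rw [Finset.sum_range_succ, ← ih]; rfl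
  induction l with
  | nil => exact h0 M
  | cons N l ih =>
    intro i j
    refine (h1 _ _ _ _ _).trans ((Fin.sum_univ_eq_sum_range (fun k => nt N i k * ew l M k j) n).symm.trans ?_)
    exact Finset.sum_congr rfl fun k _ => by rw [h0, ih]

private noncomputable def eqw {n : ℕ} (f : ℕ → ℕ → ℤ → ℤ) (l l' : List (Matrix (Fin n) (Fin n) ℤ))
    (M M' : Matrix (Fin n) (Fin n) ℤ) : Bool :=
  allBelow (fun i => allBelow (fun j => decide (ew l M i j = f i j (ew l' M' i j))) n) n

private theorem eqw_spec {n : ℕ} {f : ℕ → ℕ → ℤ → ℤ} {l l' : List (Matrix (Fin n) (Fin n) ℤ)} {M M' : Matrix (Fin n) (Fin n) ℤ}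
    (h : eqw f l l' M M' = true) (i j : Fin n) : (l.foldr (· * ·) M) i j = f i j ((l'.foldr (· * ·) M') i j) := by
  rw [← ew_eq, ← ew_eq]
  exact of_decide_eq_true (allBelow_spec (allBelow_spec h i i.2) j j.2)

private theorem eqw_eq {n : ℕ} (l l' : List (Matrix (Fin n) (Fin n) ℤ)) (M M' : Matrix (Fin n) (Fin n) ℤ)
    (h : eqw (fun _ _ x => x) l l' M M' = true) : l.foldr (· * ·) M = l'.foldr (· * ·) M' := Matrix.ext (eqw_spec h)

private def cc (i k : Fin 7) : ℤ := if k = i then 2 else if m7 i k = 3 then -1 else 0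

private theorem cl (i k : Fin 7) : A i * A k = -(cc i k • 1) - A k * A i := Matrix.ext fun r s =>
  (eqw_spec ((by decide +kernel : ∀ i k, eqw (fun r s x => -(if r = s then cc i k else 0) - x) [A i] [A k] (A k) (A i) = true)
    i k) r s).trans (by
      simp only [Matrix.sub_apply, Matrix.neg_apply, Matrix.smul_apply, Matrix.one_apply, smul_eq_mul, mul_ite, mul_one, mul_zero,
        Fin.ext_iff, List.foldr])

theorem A_sq : ∀ i, A i * A i = -1 := fun i => Matrix.ext fun r s => by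
  have h := congrFun (congrFun (cl i i) r) s
  rw [cc, if_pos rfl, Matrix.sub_apply, Matrix.neg_apply, Matrix.smul_apply, smul_eq_mul] at h
  rw [Matrix.neg_apply]
  omega

theorem C_sq : ∀ i, C i * C i = 1 := fun i =>
  eqw_eq [C i] [] (C i) 1 ((by decide +kernel : ∀ i, eqw (fun _ _ x => x) [C i] [] (C i) 1 = true) i)

def Au (i : Fin 7) : (Matrix (Fin 8) (Fin 8) ℤ)ˣ :=
  ⟨A i, -A i, by rw [mul_neg, A_sq, neg_neg], by rw [neg_mul, A_sq, neg_neg]⟩

def Cu (i : Fin 7) : (Matrix (Fin 7) (Fin 7) ℤ)ˣ := ⟨C i, C i, C_sq i, C_sq i⟩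

private theorem cox' {n : ℕ} {a : Fin 7 → (Matrix (Fin n) (Fin n) ℤ)ˣ} (y w : Matrix (Fin n) (Fin n) ℤ)
    (h : (eqw (fun _ _ x => x) [(a 0).1, (a 1).1, (a 2).1, (a 3).1, (a 4).1, (a 5).1] [] (a 6).1 y &&
      eqw (fun _ _ x => x) [y, y] [] y w && eqw (fun _ _ x => x) [w, w] [] w 1) = true) : prod7 a ^ 9 = 1 := by
  rw [Bool.and_eq_true, Bool.and_eq_true] at h
  exact cox (y := y) (w := w) (by simpa only [List.foldr, mul_assoc] using eqw_eq _ _ _ _ h.1.1)
    ((mul_assoc _ _ _).trans (eqw_eq _ _ _ _ h.1.2)) ((mul_assoc _ _ _).trans (eqw_eq _ _ _ _ h.2))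

theorem preA : Pre (-1) Au :=
  ⟨by simp, fun i => Units.ext (A_sq i),
    fun i j h => (Units.ext (show A i * A j = -1 * (A j * A i) by
      rw [cl, (by decide +kernel : ∀ i j, m7 i j = 2 → cc i j = 0) i j h, zero_smul, neg_zero, zero_sub, neg_one_mul]) : _),
    fun i j h => (Units.ext (show A i * A j * A i = A j * A i * A j by
      have h1 := (by decide +kernel : ∀ i j, m7 i j = 3 → cc i j = -1 ∧ cc j i = -1) i j h
      have key : ∀ i j, cc i j = -1 → A i * A j * A i = A i + A j := fun i j e => by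
        rw [cl i j, e, sub_mul, mul_assoc, A_sq]
        simp only [_root_.Int.reduceNeg, _root_.neg_smul, _root_.one_smul, _root_.neg_neg, _root_.one_mul, _root_.mul_neg, _root_.mul_one, _root_.sub_neg_eq_add]
      rw [key i j h1.1, key j i h1.2, add_comm]) : _),
    cox' (mk 8 7) (mk 8 8) (by decide +kernel)⟩

theorem preC : Pre 1 Cu :=
  ⟨by simp, fun i => Units.ext (C_sq i),
    fun i j h => Units.ext ((eqw_eq [C i] [C j] (C j) (C i) ((by decide +kernel : ∀ i j, m7 i j = 2 →
      eqw (fun _ _ x => x) [C i] [C j] (C j) (C i) = true) i j h)).trans (one_mul _).symm),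
    fun i j h => Units.ext ((mul_assoc _ _ _).trans ((eqw_eq [C i, C j] [C j, C i] (C i) (C j) ((by decide +kernel : ∀ i j,
      m7 i j = 3 → eqw (fun _ _ x => x) [C i, C j] [C j, C i] (C i) (C j) = true) i j h)).trans (mul_assoc _ _ _).symm)),
    cox' (mk 7 9) (mk 7 10) (by decide +kernel)⟩

theorem cliff : ∀ i, P * C i ⊗ₖ A i = A i * P := fun i => Matrix.ext fun r ks => by
  have h1 : ∀ j, ∑ t, A j r t * (C i j ks.1 * A i t ks.2) = C i j ks.1 * (A j * A i) r ks.2 := fun j => by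
    rw [Matrix.mul_apply, Finset.mul_sum]
    exact Finset.sum_congr rfl fun t _ => mul_left_comm _ _ _
  have h2 : ∀ j, C i j ks.1 = (if j = i then cc i ks.1 else 0) - if j = ks.1 then 1 else 0 := fun _ => rfl
  refine Eq.trans ?_ (congrFun (congrFun (cl i ks.1) r) ks.2).symm
  rw [Matrix.mul_apply, Fintype.sum_prod_type]
  refine (Finset.sum_congr rfl fun j _ => h1 j).trans ?_
  simp only [h2, sub_mul, ite_mul, zero_mul, one_mul, Finset.sum_sub_distrib, Finset.sum_ite_eq', Finset.mem_univ, if_true, A_sq,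
    Matrix.sub_apply, Matrix.neg_apply, Matrix.smul_apply, smul_eq_mul, mul_neg]

/-- words from numbers -/
def dw (n : ℕ) : List ℕ :=
  Nat.rec (motive := fun _ => ℕ → List ℕ) (fun _ => []) (fun _ r n => bif Nat.ble n 1 then [] else n % 8 :: r (n / 8)) 40 n

/-- the involutions -/
def W7 : List (ℕ × ℕ) :=
  [(85794461560630892746, 601), (1263075107434909380377354469, 601), (158125615170341138890270245, 6709),
  (160532388112930404227680019, 4256), (179040585323314240164043546, 601), (10671633613625448650, 272048),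
  (157899015366258400664066869, 601)]

/-- the elements of order seven -/
def W48 : List (ℕ × ℕ) :=
  [(693542393813449492051, 351414114451866598023397), (202009885709635908299835285, 1353914064539077987),
  (38549539856583293224782, 43914846649650942615778), (201149972275873329896856371, 355682344492611853424430),
  (26976252504269259307402832, 601883729182333819082), (181807176277288133857917102, 43711008718028639974040),
  (272174, 138518901), (12873596291491727173483317068, 1353909233681273886), (19735512469786773792933459,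
  1356820486114652828), (106580534627, 2636595), (1818954522, 368925), (159697772266609072331483491,
  49090878077948654213329), (22488233458081914330129125, 330545403147157), (10220657421406073113839508838,
  603166083273046279819), (10120037326931279814023591004, 1178045099085727637), (22745511121424968718262484,
  43711013730732896225045), (22490503331349794048509742, 1353909233681294179), (24298018047389066161112684,
  75394886246129770708), (1349139365, 2213781), (38604893596614218847428, 5545612221286018010028),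
  (2466938903479593742288520, 75394886299776830819), (43711008718028639974040, 85794461560630892746),
  (308367815871729916851292, 75394886246129770924), (10098276662179983819446999248, 1353909233630942453),
  (158116369733521040258934574, 86650493811999180453), (47485559088643776005749, 86650493828857974118),
  (11512012891768611333013517597, 75394886242774327526), (421503946301481780439833, 86767239080143668816),
  (43711011281416126531374, 5545612221158497822956), (355682344492604996334232, 43711011281416126531374),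
  (2465337198945536854997145, 39642564526637719855845), (25145154900498317499185305, 682984511091678824075),
  (162464805885311656931952293, 1356820466967079705), (10276038025296948876575615209, 38602177601020888192028),
  (10098021164617950316377357082, 686169448795253871812), (38545976832925174274841, 43914844200544209913424),
  (355398611272370317964587, 86650494027666504474), (43914846649650942615778, 355682344484443277411923),
  (179875201433914373453989734, 43711008708297422170905), (194500850027084906519512752, 354919182139929566309146),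
  (157781620315321395671648172, 1353913971289634078), (686169439063797506789, 308817454454728922426138), (96710872300,
  275811), (12892939123052317879021744995, 10671633613625448650), (157884321107661591802915052,
  355682344492604996334232), (20299367521675868474649369, 686169439063797506789), (39192477566634690712602,
  683007851487636351769), (481488, 1)]

def ws : List ℕ := 1 :: (W7.map Prod.fst ++ W48.map Prod.fst)

noncomputable def fL (l : List ℕ) (f : List ℕ → Bool) : Bool :=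
  List.rec (motive := fun _ => (List ℕ → Bool) → Bool) (fun f => f []) (fun a _ r f => force a fun a => r fun l => f (a :: l)) l f

theorem fL_eq (l : List ℕ) (f : List ℕ → Bool) : fL l f = f l := by
  induction l generalizing f with
  | nil => rfl
  | cons a l ih => exact ih fun l => f (a :: l)

theorem chk : fL (ws.map fun n => wN (dw n)) (fun L => decide L.Nodup && L.all fun a => L.all fun b =>
    force (mulN a b) fun c => L.any (Nat.beq c)) = true := by decide +kernel

noncomputable def el (n : ℕ) : M := wv gen z (dw n)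

noncomputable def x : M := wv gen z [0, 2, 3, 4, 5, 6]

theorem ws_eq : (ws.map fun n => wN (dw n)) = (1 :: ((W7.map fun a => el a.1) ++ W48.map fun a => el a.1)).map cd := by
  simp only [ws, el, List.map_cons, List.map_append, List.map_map, Function.comp_def, cd_wv, cd_one]
  rfl

theorem frob {χ : M → ℂ} (hχ : IsIrrCharacter M χ) (h : ∀ g, χ (z * g) = -χ g) : ∃ n : ℕ, χ 1 + 48 * χ x = 56 * n := by
  have h0 := chk
  rw [fL_eq, ws_eq, Bool.and_eq_true, decide_eq_true_eq] at h0
  refine frob_gen hχ h (h0.1.of_map _) (fun a ha b hb => ?_) (List.forall_mem_map.2 fun a ha => ⟨el a.2, cd_injective ?_⟩)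
    (List.forall_mem_map.2 fun a ha => ⟨el a.2, cd_injective ?_⟩) (List.length_map _) (List.length_map _)
  · have h1 := List.all_eq_true.1 (List.all_eq_true.1 h0.2 _ (List.mem_map_of_mem ha)) _ (List.mem_map_of_mem hb)
    rw [force_eq, List.any_eq_true] at h1
    obtain ⟨_, h1, h2⟩ := h1
    obtain ⟨c, h3, rfl⟩ := List.mem_map.1 h1
    have h4 : a * b = c := cd_inj.1 ((cd_mul a b).trans (Nat.eq_of_beq_eq_true h2))
    rw [h4]
    exact h3
  · rw [el, el, cd_cj, cd_mul, cd_wv, cd_z]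
    exact (by decide +kernel : ∀ a ∈ W7, cjN (wN (dw a.1)) (dw a.2) = mulN zN (wN (dw a.1))) a ha
  · rw [el, el, cd_cj, cd_wv, x, cd_wv]
    exact (by decide +kernel : ∀ a ∈ W48, cjN (wN (dw a.1)) (dw a.2) = wN [0, 2, 3, 4, 5, 6]) a ha

theorem model : ∃ χ : IrrCharacter M, χ.1 z = -χ.1 1 ∧ charDegree χ.1 = 48 := by
  obtain ⟨α, a1, a2⟩ := exists_hom preA
  obtain ⟨γ, c1, c2⟩ := exists_hom preC
  let φ : M →* Matrix (Fin 7 × Fin 8) (Fin 7 × Fin 8) ℤ :=
    ⟨⟨fun g => (γ g).1 ⊗ₖ (α g).1, by simp only [_root_.map_one, _root_.Units.val_one, _root_.MulZeroClass.zero_mul, _root_.implies_true, _root_.MulZeroClass.mul_zero, _root_.mul_one, _root_.Matrix.kroneckerMap_one_one]⟩, fun a b => by simp only [mul_kronecker_mul, _root_.map_mul, _root_.Units.val_mul]⟩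
  have h : ∀ g, (rp φ).character g = ((γ g).1.trace * (α g).1.trace : ℤ) := fun g => by
    rw [rp_char, ← trace_kronecker]; rfl
  refine exists48 (isCharacter_of_rep (rp φ)) (not_irr φ ((Units.coeHom _).comp α) (P := P) (by decide +kernel) (by simp)
    closure_gen ?_) (mem_center_iff.2 fun g => (z_comm g).symm) z_sq ?_ ?_ ?_ fun χ => frob
  · rintro _ ⟨i, rfl⟩
    change P * (γ _).1 ⊗ₖ (α _).1 = (α _).1 * P
    rw [a1, c1]
    exact cliff i
  · rw [h]; simp only [_root_.map_one, _root_.Units.val_one, _root_.Matrix.trace_one, _root_.Fintype.card_fin, _root_.Nat.cast_ofNat, _root_.Int.reduceMul, _root_.Int.cast_ofNat]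
  · rw [h, a2, c2]; simp
  · rw [h, show x = gen 0 * gen 2 * gen 3 * (gen 4 * gen 5 * gen 6) by simp [x, wv, lt, mul_assoc]]
    simp only [map_mul, c1, Units.val_mul]
    rw [show trace ((Cu 0).1 * (Cu 2).1 * (Cu 3).1 * ((Cu 4).1 * (Cu 5).1 * (Cu 6).1)) = 0 by decide +kernel]
    simp

/-- **a faithful character of degree `48`** -/
theorem dg48 (F : Type) [Field F] [Fintype F] (hF : Fintype.card F = 2) : Dg 2 (PSp 3 F) (· = 48) := by
  intro K _ _ σ h1 h2 h3 h4
  obtain ⟨e⟩ := StandardComponent.SpTwoAut.exists_equiv hF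
  obtain ⟨z', -, a, h5, -, -, R, h6⟩ := Main.exists_rels (C := K) ⟨h4, ⟨((QuotientGroup.quotientMulEquivOfEq h3.symm).trans
    (QuotientGroup.quotientKerEquivOfSurjective σ h2)).trans e⟩, fun L hL => by
      have a1 : L.index = 2 := hL.index_eq_card.trans h4
      have := normal_of_index_eq_two a1
      have := Fact.mk Nat.prime_two
      have := isCyclic_of_prime_card (α := K ⧸ L) a1
      letI : CommGroup (K ⧸ L) := IsCyclic.commGroup
      have a2 := Abelianization.commutator_subset_ker (QuotientGroup.mk' L)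
      rw [h1.1.commutator_eq_top, QuotientGroup.ker_mk', top_le_iff] at a2
      rw [a2, index_top] at a1
      omega⟩
  obtain ⟨φ, a1, a2⟩ := exists_hom' R h6 (⟨z_sq, rels.sq, rels.comm, rels.braid, rels.cox⟩ : Pre z gen)
  obtain ⟨χ, c1, c2⟩ := model
  have h7 : Function.Surjective φ := MonoidHom.range_eq_top.1 (eq_top_iff.2 (closure_gen.ge.trans
    ((closure_le _).2 (by rintro _ ⟨i, rfl⟩; exact ⟨_, a1 i⟩))))
  refine ⟨48, rfl, ⟨_, isIrr_comp φ h7 χ.2⟩, fun y hy h => ((h5 y).1 hy).resolve_right fun e => ?_, ?_⟩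
  · simp only [e, Function.comp_apply, a2, c1, map_one] at h
    exact isIrr_apply_one_ne_zero χ.2 (by linear_combination (-1 / 2 : ℂ) * h)
  · simpa only [charDegree, _root_.Function.comp_apply, _root_.map_one] using c2

end S62

theorem dg_s62 : ∀ (F : Type) [Field F] [Fintype F], Fintype.card F = 2 →
    Dg 2 (PSp 3 F) fun m => 3 ∣ m ∧ ¬ 3 ^ (1 + 1) ∣ m :=
  fun F _ _ hF => (S62.dg48 F hF).mono fun _ h => h ▸ by decide

end Cfsg.Agent.BZ.X

private theorem dce_4d1d1b4ff459 : _root_.True := by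
  try have : _root_.True := by simp only [_root_.Cfsg.Agent.BZ.X.S62.x.eq_1]
  try have : _root_.True := by simp only [_root_.Cfsg.Agent.SporRec.TwoSp6.Model.wv.eq_1]
  try have : _root_.True := by simp only [_root_.Cfsg.Agent.SporRec.TwoSp6.Cox.prod7.eq_1]
  try have : _root_.True := by simp only [_root_.Cfsg.Agent.BZ.X.S62.el.eq_1]
  try have : _root_.True := by simp only [_root_.Cfsg.Agent.BZ.X.S62.ws.eq_1]
  exact _root_.True.intro
end

-- part: BZ/X/RB2_mg
section
prune_inst 0x6100079740e6200000000800040001c12aa000400000b880008c202040600880000004e2004001108000a8800003400200000001080000000000000000000040100425204d2c9a10c620081000308610002000000000000000000000000000004204010000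
set_option linter.all false
open scoped Cfsg.Agent.FastGrp

-- part: BZ/X/RB2a
section
/-!
# BZ, exceptional covers: local data with a small centre (helper33)

* `rb_of : Sy 3 S → NoA 3 3 S → Sz S → Cq S → RB 3 3 S`;
* `pick` : two elements whose commutator generates the centre; `sz_allT`, `sz_of_iy`, `cq_of`.
-/

set_option autoImplicit false
set_option linter.unusedSectionVars false
set_option maxHeartbeats 400000

namespace Cfsg.Agent.BZ.X.R2

open Cfsg Cfsg.Agent.DL Cfsg.Agent.DL.Asm Subgroup Cfsg.Agent.BHZ.Spor Cfsg.Agent.KM Cfsg.Agent.KM.Xc Cfsg.Agent.RC.X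

/-- a `3`-subgroup with a small centraliser -/
def Cq (S : Type) [Group S] : Prop := ∃ Q : Subgroup S, IsPGroup 3 Q ∧ Nat.card (centralizer (Q : Set S)) ≤ 3

/-- local data with a small centre are Sylow subgroups -/
def Sz (S : Type) [Group S] : Prop :=
  ∀ D : Subgroup S, LocN 3 D → 3 ^ 3 ∣ Nat.card D → ¬ 3 ^ 2 ∣ Nat.card (zc D) → Mxl 3 D

/-- the centraliser of a small centre is a `{2, 3}`-group -/
def Iy (S : Type) [Group S] : Prop :=
  ∀ D : Subgroup S, IsPGroup 3 D → 3 ^ 3 ∣ Nat.card D → ¬ 3 ^ 2 ∣ Nat.card (zc D) →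
    ∀ t ∈ centralizer (zc D : Set S), (orderOf t).Prime → orderOf t = 2 ∨ orderOf t = 3

section

variable [Fact (Nat.Prime 3)] {S : Type} [Group S] [Finite S] {D : Subgroup S}

theorem ex_zc (hD : IsPGroup 3 D) (h : 3 ^ 3 ∣ Nat.card D) : ∃ y ∈ zc D, y ≠ 1 := by
  have : Nontrivial D := Finite.one_lt_card_iff_nontrivial.1 (lt_of_lt_of_le (by norm_num) (Nat.le_of_dvd Nat.card_pos h))
  obtain ⟨z, hz⟩ := @exists_ne _ hD.center_nontrivial 1
  exact ⟨z.1, ⟨z.1.2, fun d hd => congrArg Subtype.val (mem_center_iff.1 z.2 ⟨d, hd⟩)⟩,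
    fun e => hz (Subtype.ext (Subtype.ext e))⟩

theorem three_dvd {A : Subgroup S} (hA : IsPGroup 3 A) {y : S} (hy : y ∈ A) (h1 : y ≠ 1) : 3 ^ 1 ∣ Nat.card A :=
  pow_succ_dvd hA bot_le hy (mt mem_bot.1 h1) (i := 0) (one_dvd _)

theorem mem_zp {A : Subgroup S} (hA : IsPGroup 3 A) (h : ¬ 3 ^ 2 ∣ Nat.card A) {y : S} (hy : y ∈ A) (h1 : y ≠ 1) :
    A ≤ zpowers y := fun _ hv => by_contra fun e => h (pow_succ_dvd hA (zpowers_le.2 hy) hv e
  (three_dvd (hA.to_le (zpowers_le.2 hy)) (mem_zpowers y) h1))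

theorem card_dvd {A : Subgroup S} (hA : IsPGroup 3 A) (h : ¬ 3 ^ 2 ∣ Nat.card A) : Nat.card A ∣ 3 := by
  obtain ⟨n, hn⟩ := hA.exists_card_eq
  rw [hn] at h ⊢
  exact (pow_dvd_pow 3 (Nat.lt_succ_iff.1 (not_le.1 (mt (pow_dvd_pow 3) h)))).trans (pow_one 3).dvd

theorem rt_of (h4 : Cq S) (hD : IsPGroup 3 D) (h : 3 ^ 3 ∣ Nat.card D) (hm : Mxl 3 D) : RegTriv 3 D := fun r h1 h2 => by
  obtain ⟨Q, h5, h6⟩ := h4
  obtain ⟨P, hP⟩ := hD.exists_le_sylow
  obtain ⟨P', hP'⟩ := h5.exists_le_sylow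
  obtain ⟨g, rfl⟩ := MulAction.exists_smul_eq S P P'
  have h7 : ∀ x, (∀ d ∈ D, d * x = x * d) → MulAut.conj g x ∈ centralizer (Q : Set S) := fun x hx q hq => by
    obtain ⟨d, hd, rfl⟩ := hP' hq
    exact (Commute.map (hx d (hm P P.2 hP hd)) (MulAut.conj g) :)
  obtain ⟨y, hy, y1⟩ := ex_zc hD h
  have h8 : 3 ^ 1 ∣ Nat.card (centralizer (Q : Set S)) := by
    refine (three_dvd (hD.to_le inf_le_left) hy y1).trans ?_
    rw [← card_map_of_injective (f := (MulAut.conj g).toMonoidHom) (MulAut.conj g).injective]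
    exact card_dvd_of_le fun _ ⟨z, hz, e⟩ => e ▸ h7 z hz.2
  have h9 := Subgroup.orderOf_dvd_natCard _ (h7 r h1)
  rw [MulEquiv.orderOf_eq, le_antisymm h6 (Nat.le_of_dvd Nat.card_pos h8)] at h9
  exact eq_one_of_reg h2 (k := 1) (orderOf_dvd_iff_pow_eq_one.1 h9)

/-- **the row** -/
theorem rb_of (h1 : Sy 3 S) (h2 : Sp.NoA 3 3 S) (h3 : Sz S) (h4 : Cq S) : RB 3 3 S := fun D h h5 => by
  refine rt_of h4 h.pg h5 ?_
  by_cases h6 : 3 ^ 2 ∣ Nat.card (zc D)
  swap
  · exact h3 D ⟨h.pg, h.syl, h.core⟩ h5 h6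
  by_cases h7 : 3 ^ 4 ∣ Nat.card D
  · exact h1 D ⟨h.pg, h.syl, h.core⟩ h7 h6
  have h8 : ∀ x ∈ D, ∀ d ∈ D, Commute x d := fun x hx => by_contra fun e => by
    have h9 : zc (D ⊓ centralizer {x}) ≤ D := inf_le_left.trans inf_le_left
    obtain ⟨d, hd, h10⟩ := SetLike.not_le_iff_exists.1 fun h10 : D ≤ zc (D ⊓ centralizer {x}) => e fun d hd =>
      (mem_centralizer_singleton_iff.1 (h10 hd).1.2).symm
    exact h7 (pow_succ_dvd h.pg h9 hd h10 (pow_succ_dvd (h.pg.to_le h9) (zc_le_zc hx) (mem_zc hx)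
      (fun h11 => e fun d hd => (h11.2 d hd).symm) h6))
  exact absurd h5 (h2 D ⟨h.pg, h8, h.syl, fun U hU h9 => h.core U hU (fun x hx => h9 x fun d hd => h8 d hd x hx) h9⟩)

theorem Iy.sub {T : Type} [Group T] [Finite T] (h : Iy T) (f : S →* T) (hf : Function.Injective f) : Iy S := fun D h1 h2 h3 t ht => by
  have h4 : zc (D.map f) = (zc D).map f := le_antisymm (by
      rintro _ ⟨⟨z, hz, rfl⟩, e⟩
      exact ⟨z, ⟨hz, fun d hd => hf (by rw [map_mul, map_mul]; exact e _ ⟨d, hd, rfl⟩)⟩, rfl⟩) (by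
    rintro _ ⟨z, hz, rfl⟩
    exact ⟨⟨z, hz.1, rfl⟩, fun _ ⟨d, hd, e⟩ => e ▸ (Commute.map (hz.2 d hd) f :)⟩)
  rw [← orderOf_injective f hf]
  refine h _ (h1.map f) (by rwa [card_map_of_injective hf]) (by rwa [h4, card_map_of_injective hf]) _ ?_
  rw [h4]
  exact fun _ ⟨d, hd, e⟩ => e ▸ (Commute.map (ht d hd) f :)

variable {H : Type} [Group H] [Finite H] {π : H →* S}

theorem pg_ker (h3 : Nat.card π.ker ∣ 3) : IsPGroup 3 π.ker := fun z => ⟨1, by
  rw [pow_one, ← orderOf_dvd_iff_pow_eq_one]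
  exact (orderOf_dvd_natCard z).trans h3⟩

theorem cen_of (hk : π.ker ≤ center H) {a y : H} (h : a * y = y * a) {v : H} (hv : π v ∈ zpowers (π y)) : a * v = v * a := by
  obtain ⟨i, hi⟩ := hv
  have h1 : v * (y ^ i)⁻¹ ∈ π.ker := by
    rw [MonoidHom.mem_ker, map_mul, map_inv, map_zpow, mul_inv_eq_one]
    exact hi.symm
  rw [← inv_mul_cancel_right v (y ^ i)]
  exact (show Commute a _ from mem_center_iff.1 (hk h1) a).mul_right ((show Commute a y from h).zpow_right i)

/-- **two elements whose commutator generates the centre** -/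
theorem pick (hs : Function.Surjective π) (hk : π.ker ≤ center H) (h3 : Nat.card π.ker ∣ 3) (hD : IsPGroup 3 D)
    (h1 : 3 ^ 3 ∣ Nat.card D) (h2 : ¬ 3 ^ 2 ∣ Nat.card (zc D)) : ∃ a b : H, π a ∈ D ∧ π b ∈ D ∧ π a ∉ zc D ∧
      π (b * a * b⁻¹ * a⁻¹) ≠ 1 ∧ (∀ g, π g ∈ D → π (g * a * g⁻¹ * a⁻¹) ∈ zc D) ∧ (∀ v, π v ∈ zc D → a * v = v * a) ∧
        π (a ^ 3) ∈ zc D := by
  have hV := hD.comap_of_ker_isPGroup π (pg_ker h3)
  have hZ : IsPGroup 3 (zc D) := hD.to_le inf_le_left
  obtain ⟨y, hy, y1⟩ := ex_zc hD h1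
  obtain ⟨y, rfl⟩ := hs y
  have nV : ∀ g ∈ D.comap π, ∀ u ∈ D.comap π, g * u * g⁻¹ ∈ D.comap π := fun g hg u hu => mul_mem (mul_mem hg hu) (inv_mem hg)
  have hc : ∀ g ∈ D.comap π, g * y * g⁻¹ * y⁻¹ ∈ π.ker := fun g hg => by
    rw [MonoidHom.mem_ker, map_mul, map_mul, map_mul, map_inv, map_inv, hy.2 _ hg]
    group
  have h4 := card_dvd_cen hk hc
  rw [card_comap hs] at h4
  obtain ⟨a, h5, h6, h7⟩ := exists_cmod hV (A := (zc D).comap π) inf_le_left (fun g hg u hu => by
      rw [mem_comap, map_mul, map_mul, map_inv, hu.2 _ hg, mul_inv_cancel_right]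
      exact hu) (cen_norm le_rfl nV fun g hg v _ => mem_center_iff.1 (hk (hc g hg)) v) fun e => by
    have h5 := (h1.trans (Nat.dvd_of_mul_dvd_mul_right Nat.card_pos h4)).trans (card_dvd_of_le e)
    rw [card_comap hs] at h5
    exact absurd (h5.trans (Nat.mul_dvd_mul (card_dvd hZ h2) h3)) (by norm_num)
  have h8 : ∀ g, π g ∈ D → π (g * a * g⁻¹ * a⁻¹) ∈ zc D := fun g hg => by
    rw [show g * a * g⁻¹ * a⁻¹ = (a * g * a⁻¹ * g⁻¹)⁻¹ by group]
    exact inv_mem (h7 g hg)
  obtain ⟨b, hb, h9⟩ : ∃ b ∈ D, b * π a ≠ π a * b := by_contra fun e => h6 ⟨h5.1, fun b hb => by_contra fun e' => e ⟨b, hb, e'⟩⟩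
  obtain ⟨b, rfl⟩ := hs b
  refine ⟨a, b, h5.1, hb, h6, fun e => h9 ?_, h8, fun v hv =>
    cen_of hk (mem_centralizer_singleton_iff.1 h5.2) (mem_zp hZ h2 hy y1 hv), (D.comap π).pow_mem h5.1 3, fun g hg => ?_⟩
  · rwa [map_mul, map_mul, map_mul, map_inv, map_inv, mul_inv_eq_one, mul_inv_eq_iff_eq_mul] at e
  obtain ⟨g, rfl⟩ := hs g
  have h10 := h8 g hg
  have h11 := orderOf_dvd_iff_pow_eq_one.1 ((Subgroup.orderOf_dvd_natCard _ h10).trans (card_dvd hZ h2))
  have h12 := (show Commute _ _ from h10.2 _ h5.1).symm.mul_pow 3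
  rw [h11, one_mul, ← map_mul, inv_mul_cancel_right, map_mul, map_mul, map_inv, conj_pow] at h12
  rw [map_pow]
  exact mul_inv_eq_iff_eq_mul.1 h12

end

section

variable {k : Type} [Field k] [Fact (Nat.Prime 2)] [CharP k 2] [IsAlgClosed k] {Y : Type} [Group Y] {N : Type} [Fintype N]
  [DecidableEq N] {ρ : Y →* GL N k} {F : MulAut Y} {G : Subgroup Y} {X : Datum 2 ρ F G} {S : Type} [Group S] (c : Cv 2 F G S)
  [Fact (Nat.Prime 3)]

/-- all abelian subgroups are toral, the kernel has order three -/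
theorem sz_allT (hA : AllT X 3) (hb : c.TB X 3 (3 ^ 3)) (hk : Nat.card c.π.ker ∣ 3) (hz : ∃ z ∈ c.π.ker, z ≠ 1) : Sz S :=
  fun D H h1 h2 => by
  have := c.fin X
  have : Finite S := Finite.of_surjective _ c.surj
  have hV := H.pg.comap_of_ker_isPGroup c.π (pg_ker hk)
  have hZ : IsPGroup 3 (zc D) := H.pg.to_le inf_le_left
  obtain ⟨a, b, a1, a2, a3, a4, a5, a6, -⟩ := pick c.surj c.ker hk H.pg h1 h2
  obtain ⟨z, z1, z2⟩ := hz
  let E := (zc D).comap c.π ⊔ zpowers a
  have e1 : E ≤ D.comap c.π := sup_le (comap_mono inf_le_left) (zpowers_le.2 a1)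
  have e2 : ∀ x ∈ E, ∀ y ∈ E, x * y = y * x := fun x hx y hy => commute_of_mem_sup (fun u hu => (commute_of_mem_sup
      (fun v hv => (cen_of c.ker (cen_of c.ker rfl (mem_zp hZ h2 (a5 b a2) a4 hu)).symm (mem_zp hZ h2 (a5 b a2) a4 hv)).symm)
      (fun _ hv => commute_of_mem_zpowers (a6 u hu) hv) y hy).symm) (fun _ hu => commute_of_mem_zpowers
    (commute_of_mem_sup (fun v hv => (a6 v hv).symm) (fun _ hv => commute_of_mem_zpowers (Commute.refl a) hv) y hy).symm hu) x hx
  have e3 : ∀ g ∈ D.comap c.π, ∀ x ∈ E, g * x * g⁻¹ ∈ E := fun g hg =>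
    (sup_le (fun u hu => mem_sup_left (by
      rw [mem_comap, MulEquiv.coe_toMonoidHom, MulAut.conj_apply, map_mul, map_mul, map_inv, hu.2 _ hg, mul_inv_cancel_right]
      exact hu)) (zpowers_le.2 (by
      rw [mem_comap, MulEquiv.coe_toMonoidHom, MulAut.conj_apply, ← inv_mul_cancel_right (g * a * g⁻¹) a]
      exact mul_mem (mem_sup_left (a5 g hg)) (mem_sup_right (mem_zpowers a)))) : E ≤ E.comap (MulAut.conj g).toMonoidHom)
  obtain ⟨T, h3, h4⟩ := hA (E.map c.H0.subtype) ((map_subtype_le _).trans c.le) ((hV.to_le e1).map _) (by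
    rintro _ ⟨a, ha, rfl⟩ _ ⟨b, hb, rfl⟩
    exact congrArg Subtype.val (e2 a ha b hb))
  refine mxl_of_tor c X (by norm_num) H hb (hV.to_le e1) (pow_succ_dvd (hV.to_le e1) le_sup_left (mem_sup_right (mem_zpowers a)) a3 ?_)
    e1 e3 h3 fun z hz => h4 ⟨z, hz, rfl⟩
  rw [card_comap c.surj]
  exact Nat.mul_dvd_mul (three_dvd hZ (a5 b a2) a4) (three_dvd (pg_ker hk) z1 z2)

include X in
theorem sz_of_iy (hk : Nat.card c.π.ker ∣ 3) (h : Iy S) : Sz S := fun D H h1 h2 => by
  have := c.fin X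
  have : Finite S := Finite.of_surjective _ c.surj
  have hZ : IsPGroup 3 (zc D) := H.pg.to_le inf_le_left
  obtain ⟨y, hy, y1⟩ := ex_zc H.pg h1
  obtain ⟨i, hi⟩ := pelt_of_mem hZ hy
  obtain ⟨y, rfl, j, hj⟩ := exists_p_lift c.surj hi
  obtain ⟨g, hg, hN, hT⟩ := TO.E6.exists_frame X (c.le y.2)
    (Tor.not_dvd_ord Nat.prime_three (by norm_num) (congrArg Subtype.val hj))
  refine key c (X.conj hg hN) (by norm_num) H (Z := {y}) (fun _ e => e ▸ hT) (fun _ e => ⟨j, e ▸ hj⟩) (fun _ e => e ▸ hy.1) ?_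
    fun x hx s n s1 s2 s3 h3 h4 => ?_
  · rintro d hd _ ⟨_, rfl, rfl⟩
    exact ⟨_, rfl, (mul_inv_eq_iff_eq_mul.2 (hy.2 d hd)).symm⟩
  have : Fact s.Prime := ⟨s1⟩
  have h5 : (⟨x, hx⟩ : c.H0) ^ s ^ n = 1 := Subtype.ext h3
  have h6 : c.π ⟨x, hx⟩ = 1 := by_contra fun e => by
    obtain ⟨m, -, hm⟩ := (Nat.dvd_prime_pow s1).1 (orderOf_dvd_of_pow_eq_one (x := c.π ⟨x, hx⟩) (by rw [← map_pow, h5, map_one]))
    obtain ⟨t, ht⟩ := exists_prime_orderOf_dvd_card' (G := zpowers (c.π ⟨x, hx⟩)) s (by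
      rw [Nat.card_zpowers, hm]
      exact dvd_pow_self s fun e' => e (orderOf_eq_one_iff.1 (by rw [hm, e', pow_zero])))
    rw [← Subgroup.orderOf_coe] at ht
    have h7 := h D H.pg h1 h2 t (fun v hv => commute_of_mem_zpowers (commute_of_mem_zpowers (Commute.map
      (Subtype.ext (h4 _ ⟨y, rfl, rfl⟩) : Commute y ⟨x, hx⟩) c.π).symm t.2).symm (mem_zp hZ h2 hy y1 hv)) (ht ▸ s1)
    omega
  obtain ⟨m, hm⟩ := pelt_of_mem (pg_ker hk) h6
  exact congrArg Subtype.val (eq_one_of_reg (not_dvd_prime Nat.prime_three s1 s3 h5) hm)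

theorem cq_of (hk : ∀ h : c.H0, c.π h = 1 ↔ ∀ y ∈ G, y * h = h * y) {ι : Type} {α β : ι → X.I → ℤ} {a₀ : X.I → ℤ}
    (H : RT X α β a₀) (hM : ∃ w, X.Wm w * X.Mx = (-2 : ℤ) • 1) : Cq S := by
  obtain ⟨w, hw⟩ := hM
  obtain ⟨y, hy, h1⟩ := X.exists_type w
  exact RT.exists_Q (X := X.conj hy ⟨w, h1⟩) (by rw [X.conj_Mx, h1.pr_eq, hw]) c hk
    ⟨H.inj, H.ra, H.rb, H.r0, H.ab, H.ba, H.or, H.c0, H.gen⟩

end

end Cfsg.Agent.BZ.X.R2
end

-- part: BZ/X/RB2
section
/-!
# BZ, exceptional covers: the local rows of `U₆(2)`, `F₄(2)`, `²E₆(2)` at the prime `3` (helper33)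
-/

set_option autoImplicit false
set_option linter.unusedSectionVars false
set_option maxHeartbeats 400000

namespace Cfsg.Agent.BZ.X

namespace R2

open Cfsg Cfsg.Lie Cfsg.Agent.DL Cfsg.Agent.DL.Asm Subgroup Cfsg.Agent.Nodes.Reps Matrix Cfsg.Agent.KM Cfsg.Agent.KM.Tor
  Cfsg.Agent.KM.Xc Cfsg.Agent.BHZ.Spor Cfsg.Agent.RC.X Cfsg.Agent.KZ.DatX Cfsg.Agent.Nodes.RGDChev
  Cfsg.Agent.ChevalleyStructure.CoxeterGeomTypes
open Cfsg.Agent.KM.Sc (Isog)

section

variable {k : Type} [Field k] [Fact (Nat.Prime 2)] [CharP k 2] [IsAlgClosed k]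
  {Y' : Type} [Group Y'] {N' : Type} [Fintype N'] [DecidableEq N'] {ρ' : Y' →* GL N' k} {F' : MulAut Y'}
  {G' : Subgroup Y'} {Y : Type} [Group Y] {N : Type} [Fintype N] [DecidableEq N] {ρ : Y →* GL N k} {F : MulAut Y}
  {G : Subgroup Y} {X' : Datum 2 ρ' F' G'} {X : Datum 2 ρ F G} {θ : Y' →* Y} (I : Isog X' X θ 3)

/-- the invariance of the form -/
def Bl (W : Submonoid (Matrix X.R X.R ℤ)) (n : (X'.R → ℤ) → ℤ) : Prop :=
  ∀ M ∈ W, ∀ u v z u' v', M *ᵥ I.P *ᵥ u = I.P *ᵥ (v + u + (3 : ℤ) • u') → M *ᵥ I.P *ᵥ v = I.P *ᵥ (z + v + (3 : ℤ) • v') →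
    KM.Xc.Ce I z → 3 ∣ n v

variable {I} {W : Submonoid (Matrix X.R X.R ℤ)} {n : (X'.R → ℤ) → ℤ} {Is : (X'.R → ℤ) → Prop} {u₀ : X'.R → ℤ}

theorem sing2 (H : Pk I W n Is u₀) (hB : Bl I W n) {ω : kˣ} (hω : orderOf ω = 3) {u v z : X'.R → ℤ} (hz : KM.Xc.Ce I z) {g : Y'}
    (hg : g ∈ G') (h1 : g * X'.τ (coch u ω) * g⁻¹ = X'.τ (coch v ω) * X'.τ (coch u ω))
    (h2 : g * X'.τ (coch v ω) * g⁻¹ = X'.τ (coch z ω) * X'.τ (coch v ω)) : 3 ∣ n v := by
  obtain ⟨w', m, hm, h3⟩ := TO.E6.exists_rp_conj X' (ι := Bool) (s := fun i => X'.τ (coch (bif i then u else v) ω))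
    (t := fun i => X'.τ (coch (bif i then v else z) ω) * X'.τ (coch (bif i then u else v) ω)) (fun _ => X'.τ_mem _)
    (fun _ => mul_mem (X'.τ_mem _) (X'.τ_mem _)) hg fun i => by cases i; exacts [h2, h1]
  have h4 := fun i => (h3 i).symm
  simp only [X'.conj_τ hm, mon_coch, ← map_mul, ← coch_add, eq_comm (b := X'.τ (coch (X'.Wm w' *ᵥ _) ω)), tau_eq, hω] at h4
  obtain ⟨x, hx⟩ := h4 true
  obtain ⟨y, hy⟩ := h4 false
  obtain ⟨w, hw⟩ := P_Wm I hm
  exact hB _ (H.wm w) u v z x y ((hw _).symm.trans (congrArg _ hx)) ((hw _).symm.trans (congrArg _ hy)) hz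

theorem iy_pk [Fact (Nat.Prime 3)] (H : Pk I W n Is u₀) (hB : Bl I W n) {S : Type} [Group S] {π : ↥(GF F' G') →* S}
    (hk : ∀ h, π h = 1 ↔ θ h = 1) (hs : Function.Surjective π) (hz : θ.ker ≤ center Y') : Iy S := fun D hD h1 h2 t ht ho => by
  have := X'.amb.finite_GF G'
  have := Finite.of_surjective _ hs
  obtain ⟨ζ, hζ⟩ := exists_prim 2 k (n := 9) (by norm_num)
  have hω : orderOf (ζ ^ 3) = 3 := by rw [orderOf_pow_of_dvd (by norm_num) (by rw [hζ]; norm_num), hζ]
  have hc : π.ker ≤ center _ := fun z h1 =>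
    mem_center_iff.2 fun g => Subtype.ext (mem_center_iff.1 (hz ((hk z).1 h1)) g)
  have hZ : IsPGroup 3 (zc D) := hD.to_le inf_le_left
  by_contra h3
  rw [not_or] at h3
  have nI : ∀ x, π x ∈ zc D → ¬ Ns x := fun x hx ns => by
    have : Fact (orderOf t).Prime := ⟨ho⟩
    obtain ⟨a, e, j, hj⟩ := exists_p_lift (p := orderOf t) hs (x := t) (k := 1) (by rw [pow_one, pow_orderOf_eq_one])
    obtain ⟨i, hi⟩ := pelt_of_mem hZ hx
    have h4 := ns a a.2 _ j ho h3.1 h3.2 (congrArg Subtype.val hj) (mem_centralizer_singleton_iff.2 (congrArg Subtype.val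
      (commute_p_reg hc (e ▸ ht _ hx : Commute (π x) (π a)) (pelt (I := I) hk hi)
        (not_dvd_prime Nat.prime_three ho h3.2 hj)).symm))
    rw [← e, show a = 1 from Subtype.ext h4, map_one, orderOf_one] at ho
    exact Nat.not_prime_one ho
  obtain ⟨a, b, a1, a2, -, a4, a5, a6, a7⟩ := pick hs hc (card_ker H hω hk) hD h1 h2
  have e1 : a ^ 3 = 1 := by
    have h4 : a ^ 3 ^ 2 = 1 := (pow_mul a 3 3).trans (cube H hk hZ nI _ a7)
    obtain ⟨y, hy, hN, hT⟩ := frame X' a h4
    obtain ⟨u, hu⟩ := exists_coch (X'.conj hy hN) (ζ := ζ) (by omega) hT (hζ ▸ congrArg Subtype.val h4)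
    obtain ⟨M, b1, -, u', b3⟩ := (H.conj hy hN).fix (hu ▸ a.2.2)
    rw [hζ] at b3
    obtain ⟨b1, b2⟩ := H.nine M b1 u u' b3
    have h5 : ((a ^ 3 : GF F' G') : Y') = (X'.conj hy hN).τ (coch u (ζ ^ 3)) := by
      rw [Subgroup.coe_pow, hu, map_pow, map_pow]
    exact Subtype.ext (h5.trans ((tau_one _).2 (hω.symm ▸ b2 ((one_iff hω hk hy hN h5).1 (one_of H hω hk nI hy hN a7 h5 b1)))))
  obtain ⟨y, ey⟩ : ∃ y, y = b * a * b⁻¹ * a⁻¹ := ⟨_, rfl⟩
  have y1 := ey ▸ a5 b a2
  obtain ⟨z, ez⟩ : ∃ z, z = b * y * b⁻¹ * y⁻¹ := ⟨_, rfl⟩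
  have z1 : π z = 1 := by
    rw [ez, map_mul, map_mul, map_mul, map_inv, map_inv, y1.2 _ a2]
    group
  have z2 := mem_center_iff.1 (hc z1)
  obtain ⟨g, hg, hN, h4⟩ := tor H hω hk hZ nI y1 (ey ▸ a4) (Z := {y, a, z}) (.inl rfl) (by
      rintro _ (rfl | rfl | rfl)
      exacts [⟨1, cube H hk hZ nI _ y1⟩, ⟨1, e1⟩, ⟨1, cube H hk hZ nI _ (z1 ▸ one_mem _)⟩]) (by
      rintro _ (rfl | rfl | rfl) _ (rfl | rfl | rfl)
      exacts [rfl, (a6 _ y1).symm, z2 _, a6 _ y1, rfl, z2 _, (z2 _).symm, (z2 _).symm, rfl])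
  obtain ⟨v, hv⟩ := coord H hω hk hZ nI hg hN y1 (h4 _ (.inl rfl))
  obtain ⟨u, hu⟩ := exists_coch _ (ζ := ζ ^ 3) (by omega) (h4 _ (.inr (.inl rfl))) (hω ▸ congrArg Subtype.val e1)
  obtain ⟨w, hw⟩ := coord H hω hk hZ nI hg hN (z1 ▸ one_mem _) (h4 _ (.inr (.inr rfl)))
  refine a4 (ey ▸ one_of H hω hk nI hg hN y1 hv (sing2 (u := u) (H.conj hg hN) hB hω ((one_iff (I := I) hω hk hg hN hw).1 z1)
    b.2.1 ?_ ?_))
  · rw [← hu, ← hv, ey]
    exact (inv_mul_cancel_right _ _).symm
  · rw [← hv, ← hw, ez]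
    exact (inv_mul_cancel_right _ _).symm

end

open E6 in
theorem bl6 {r : ℕ} [Fact r.Prime] {k : Type} [Field k] [CharP k r] [IsAlgClosed k] {Mx : Matrix (Fin 6) (Fin 6) ℤ}
    (X : XF hpE6 r k Mx) {w : X.D.W} {u v z u' v' : V6} (h1 : wm X w *ᵥ c6 u = c6 (v + u + (3 : ℤ) • u'))
    (h2 : wm X w *ᵥ c6 v = c6 (z + v + (3 : ℤ) • v')) (hz : Cn z) : 3 ∣ bb v v := by
  rw [wm_c6] at h1 h2
  have h3 := bb_ac X w u v
  rw [c6_inj h1, c6_inj h2, show bb (v + u + (3 : ℤ) • u') (z + v + (3 : ℤ) • v') = bb (v + u + (3 : ℤ) • u') z + bb v v + bb u v +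
    3 * (bb u' v + bb (v + u + (3 : ℤ) • u') v') by simp only [bb, Pi.add_apply, Pi.smul_apply, smul_eq_mul]; ring] at h3
  have h4 := hz.dvd (v + u + (3 : ℤ) • u')
  omega

variable [Fact (Nat.Prime 3)]

theorem e62 (K : Type) [Field K] [Fintype K] (h : Fintype.card K = 2 ^ 2) :
    Iy ↥(twistedE6 K 2) ∧ Sz ↥(twistedE6 K 2) ∧ Sy 3 ↥(twistedE6 K 2) := by
  have : Fact (Nat.Prime 2) := ⟨Nat.prime_two⟩
  have : CharP K 2 := charP_of_card_eq_prime_pow h
  obtain ⟨k, _, _, _, X, h88⟩ := hasP_2E6 (p := 2) (e := 1) h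
  revert h88; rintro ⟨Y, _, N, _, _, h88⟩
  revert h88; rintro ⟨ρ, F, X', θ, s, h88⟩
  revert h88; rintro ⟨I, e, h1, h2, h3⟩
  have hP := fun u => (h1 u).trans (E6.co_eq _)
  have H := pk6 X I e hP s.pi1
  have h4 : Iy ↥(twistedE6 K 2) := iy_pk H (by
    rintro _ ⟨w, rfl⟩ u v z u' v' a1 a2 a3
    rw [hP, hP] at a1 a2
    exact bl6 X a1 a2 fun r => (a3 r).trans (congrFun (hP z) r).dvd) h3 s.surj h2.le
  obtain ⟨ω, hω⟩ := exists_prim 2 k (n := 3) (by norm_num)
  exact ⟨h4, sz_of_iy (X := X') ⟨GF F ⊤, le_rfl, fun _ h _ => h, s.π, s.surj, fun z h1 => mem_center_iff.2 fun g =>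
    Subtype.ext (mem_center_iff.1 (h2.le ((h3 z).1 h1)) g)⟩ (card_ker H hω h3) h4, sy_pk H h3 s.surj h2.le⟩

theorem cq_2e62 (K : Type) [Field K] [Fintype K] (h : Fintype.card K = 2 ^ 2) : Cq ↥(twistedE6 K 2) := by
  have : Fact (Nat.Prime 2) := ⟨Nat.prime_two⟩
  have : CharP K 2 := charP_of_card_eq_prime_pow h
  obtain ⟨k, _, _, _, X, -, ⟨s⟩⟩ := Nt.has_2E6 (r := 2) (e := 1) (F := K) h
  obtain ⟨w, hw⟩ := X.exists_neg_E6
  refine cq_of (Cv.ofSit X.D s.sit) s.sit.ker (rtc_E6.rt X) ⟨w, (congrArg₂ (· * ·) hw X.D_Mx).trans ?_⟩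
  change -P6 * ((2 : ℤ) • P6) = (-2 : ℤ) • 1
  rw [mul_smul_comm, neg_mul, ← sq, Nt.P6_sq, smul_neg, neg_smul]

theorem iy_f42 (F : Type) [Field F] [Fintype F] (hF : Fintype.card F = 2) : Iy ↥(chevF4.group F) := by
  have : Fact (Nat.Prime 2) := ⟨Nat.prime_two⟩
  have := Fintype.ofFinite (GaloisField 2 2)
  have hK : Fintype.card (GaloisField 2 2) = 2 ^ 2 := Nat.card_eq_fintype_card.symm.trans (GaloisField.card 2 2 two_ne_zero)
  exact (e62 _ hK).1.sub _ (H129.FE.toTE6_injective ((algebraMap (ZMod 2) (GaloisField 2 2)).comp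
    (FiniteField.ringEquivOfCardEq (hF.trans (ZMod.card 2).symm)).toRingHom) fun t => by
      rw [← map_pow, show t ^ 2 = t from hF ▸ FiniteField.pow_card t])

open Cfsg.Agent.KZ.Dat Cfsg.Agent.Nodes.RootsA Cfsg.Agent.Nodes.Coroot Cfsg.Agent.Tits.Roots in
theorem cq_u62 (F : Type) [Field F] [Fintype F] (h : Fintype.card F = 4) : Cq (PSU 6 F 2) := by
  obtain ⟨p, hp, e, k, _, _, _, f, hk, -, h1⟩ := hasU F (q := 2) h
  obtain ⟨rfl, rfl⟩ := (Nat.prime_two.pow_eq_iff).1 h1.symm
  have r : ∀ {i j : Fin 6}, i ≠ j → (datU 5 hk one_pos).Rt (rtA i j) := fun e => (datA_rt hk one_pos syG _).2 ⟨_, _, e, rfl⟩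
  have c : ∀ (a b : Fin 6) {i j : Fin 6}, i ≠ j → cpr (datU 5 hk one_pos).cs (datU 5 hk one_pos).h (rtA a b) (rtA i j) =
      c5 a b i j := fun a b i j e => ((datU 5 hk one_pos).pair_cor (r e) _).symm.trans (congrArg₂ dotProduct
        (datA_wt hk one_pos syG a b) ((datA_cor hk one_pos syG (r e)).trans (datA_wt hk one_pos syG i j)))
  have na : ∀ i : Fin 2, (![1, 3] i : Fin 6) ≠ ![2, 4] i := by decide
  have nb : ∀ i : Fin 2, (![0, 4] i : Fin 6) ≠ ![1, 5] i := by decide
  refine cq_of (X := datU 5 hk one_pos) (α := fun i : Fin 2 => rtA (![1, 3] i) (![2, 4] i))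
    (β := fun i => rtA (![0, 4] i) (![1, 5] i)) (a₀ := rtA (2 : Fin 6) 3) (cvU hk f h)
    (covU f hk one_pos h (by norm_num) (by norm_num)).sit.ker
    ⟨fun a b ha hb e => ?_, fun i => r (na i), fun i => r (nb i), r (by decide),
      fun i => (c _ _ (nb i)).trans (by revert i; decide), fun i => (c _ _ (na i)).trans (by revert i; decide),
      fun i j e => ?_, fun i => ?_, gen5⟩ ⟨(pwA 5).symm Fin.revPerm, ?_⟩
  · obtain ⟨i, j, h2, rfl⟩ := (datA_rt hk one_pos syG a).1 ha
    obtain ⟨i', j', h3, rfl⟩ := (datA_rt hk one_pos syG b).1 hb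
    obtain ⟨rfl, rfl⟩ := c5_inj i j i' j' h2 h3 fun m => (e _ (r Fin.castSucc_lt_succ.ne)).trans
      (congrArg₂ (· - ·) (c _ _ Fin.castSucc_lt_succ.ne) (c _ _ Fin.castSucc_lt_succ.ne)).dvd
    rfl
  · rw [c _ _ (na j), c _ _ (nb j), c _ _ (na j), c _ _ (nb j)]
    revert i j
    decide
  · rw [c _ _ (na i), c _ _ (nb i)]
    revert i
    decide
  · refine (congrArg₂ (· * ·) (datA_Wm hk one_pos syG _) (datU_Mx 5 hk one_pos)).trans ((spm_BA _).trans ?_)
    rw [MulEquiv.apply_symm_apply, show (Fin.revPerm * Fin.revPerm : Equiv.Perm (Fin 6)) = 1 by decide, spm_one]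
    rfl

end R2

open Cfsg Cfsg.Lie Cfsg.Agent.DL Cfsg.Agent.KM Cfsg.Agent.KM.Xc Cfsg.Agent.RC.X Cfsg.Agent.KM.Ex Cfsg.Agent.KM.Tor
  Cfsg.Agent.KZ.DatX Cfsg.Agent.KZ.Dat Matrix Subgroup _root_.Cfsg.Agent.BZ.X.R2
open Cfsg.Agent.TO.X.Cn (pi1 pm_F4)

/-- **`²E₆(2)`** -/
theorem rb_e62 (F : Type) [Field F] [Fintype F] (h : Fintype.card F = 4) : RB 3 3 ↥(twistedE6 F 2) :=
  have : Fact (Nat.Prime 3) := ⟨Nat.prime_three⟩
  rb_of (e62 F h).2.2 (noA_2e62 F h) (e62 F h).2.1 (cq_2e62 F h)

/-- **`F₄(2)`** -/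
theorem rb_f42 (F : Type) [Field F] [Fintype F] (hF : Fintype.card F = 2) : RB 3 3 ↥(chevF4.group F) := by
  have : Fact (Nat.Prime 2) := ⟨Nat.prime_two⟩
  have : Fact (Nat.Prime 3) := ⟨Nat.prime_three⟩
  have : CharP F 2 := charP_of_card_eq_prime hF
  obtain ⟨k, _, _, _, X, -, ⟨s⟩⟩ := Nt.has_F4 (r := 2) (e := 1) (F := F) hF
  have := X.finite
  have : Nonempty X.D.R := ⟨(0 : Fin 4)⟩
  obtain ⟨w, hw⟩ := X.exists_neg_F4
  refine rb_of ((sy_one (pi1 X pm_F4) (by decide) (Nat.coprime_one_right 3) (nl_of X Nat.prime_three bad_F4)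
    (two_of X Nat.prime_three bad_F4 twoC_F4) (Cv.tb_of_bound _ _ (Sp.F42.fq_mx X.D X.D_Mx)
      (fun s hs h2 h3 => five_le hs h2 h3) ?_)).congr s.ov.equiv.symm) (Sp.F42.noA_f42 F hF)
    (sz_of_iy (X := X.D) (Cv.ofEquiv s.ov.equiv.symm) ?_ (iy_f42 F hF))
    (cq_of (Cv.ofSit X.D s.sit) s.sit.ker (rtc_F4.rt X) ⟨w, (congrArg₂ (· * ·) hw X.D_Mx).trans
      (show -(1 : Matrix (Fin 4) (Fin 4) ℤ) * ((2 : ℤ) • 1) = (-2 : ℤ) • 1 by decide)⟩)
  · show (2 ^ 1 + 1) ^ Fintype.card (Fin 4) < 3 ^ 3 * 5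
    rw [Fintype.card_fin]
    decide
  · rw [(MonoidHom.ker_eq_bot_iff _).2 s.ov.equiv.symm.injective, card_bot]
    exact one_dvd _

/-- **`U₆(2)`** -/
theorem rb_u62 (F : Type) [Field F] [Fintype F] (h : Fintype.card F = 4) : RB 3 3 (PSU 6 F 2) := by
  have : Fact (Nat.Prime 3) := ⟨Nat.prime_three⟩
  have h0 := cq_u62 F h
  have h2 := noA_u62 F h
  obtain ⟨p, hp, e, k, _, _, _, f, hk, -, h1⟩ := hasU F (q := 2) h
  obtain ⟨rfl, rfl⟩ := (Nat.prime_two.pow_eq_iff).1 h1.symm
  have := (cvU hk f h).fin (datU 5 hk one_pos)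
  have := Finite.of_surjective _ (cvU hk f h).surj
  have hA := allT_of_lev (datU 5 hk one_pos) (A.pi1_A hk one_pos _) (by norm_num) (Nat.coprime_one_right 3) (A.lev_A hk one_pos _ 3)
  obtain ⟨ω, hω⟩ := exists_prim 2 k (n := 3) (by norm_num)
  have h3 : ω ^ 3 = 1 := hω ▸ pow_orderOf_eq_one ω
  refine rb_of (sy_allT (cvU hk f h) (by norm_num) hA (tbU hk f h) (kerU hk f h)) h2
    (sz_allT (cvU hk f h) hA (tbU hk f h) (kerU hk f h) ⟨⟨(smA 5).τ k fun _ => ω, (covU_H0 f hk one_pos h _ _ _).2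
      ⟨τ_mem_GFU.2 fun _ => inv_eq_of_mul_eq_one_right ((pow_succ ω 2).symm.trans h3), (datA_det hk one_pos syG _).trans ?_⟩⟩,
      ((covU f hk one_pos h (by norm_num) (by norm_num)).sit.ker _).2 ((cen_iff _).2 ⟨ω, rfl⟩), fun e => ?_⟩) h0
  · rw [Finset.prod_const, Finset.card_univ, Fintype.card_fin]
    exact (pow_mul ω 3 2).trans (by rw [h3, one_pow])
  · have h4 := congrFun (((smA 5).τ_inj k) ((congrArg Subtype.val e).trans ((smA 5).τ k).map_one.symm)) 0
    rw [show ω = 1 from h4, orderOf_one] at hω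
    omega

end Cfsg.Agent.BZ.X
end

-- part: BZ/X/U62
section
/-!
# BZ, a faithful character of degree `792` of `2.U₆(2)` (helper88)

The character of degree `1430` of `Fi22` restricts to the centraliser of a transposition with three constituents.
-/

set_option autoImplicit false
set_option maxRecDepth 100000

namespace Cfsg.Agent.BZ.X.U62

open Cfsg Subgroup Cfsg.Agent.BZ.C2 Cfsg.Agent.BZ.C6 Cfsg.Agent.TAB.Eng Cfsg.Agent.TAB.Use Cfsg.Agent.Characters.Core
open scoped ComplexConjugate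

section gen

variable {K : Type} [Group K] [Fintype K] {ψ : K → ℂ} {z : K}

theorem norm_pt (z : K) :
    classInner (pt z 1 ψ) (pt z 1 ψ) + classInner (pt z (-1) ψ) (pt z (-1) ψ) = classInner ψ ψ := by
  have h3 := Equiv.sum_comp (Equiv.mulRight z) fun g => ψ g * conj (ψ g)
  simp only [Equiv.coe_mulRight] at h3
  rw [classInner_def, classInner_def, classInner_def, ← mul_add, ← Finset.sum_add_distrib]
  refine congrArg _ ?_
  rw [Finset.sum_congr rfl (g := fun g => (ψ g * conj (ψ g) + ψ (g * z) * conj (ψ (g * z))) / 2) fun g _ => by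
    simp only [pt, map_div₀, map_add, map_mul, map_neg, map_one, map_ofNat]
    ring, ← Finset.sum_div, Finset.sum_add_distrib, h3]
  ring

/-- a character of norm three whose even part is not irreducible -/
theorem fd_of_three (hψ : IsCharacter K ψ) (h3 : classInner ψ ψ = 3) (hz : z ∈ center K) (h2 : z * z = 1)
    (hc : Nat.card (center K) = 2) {a b : ℕ} (h1 : ψ 1 = a + b) (hv : ψ z = a - b) (h0 : a ≠ 0) (ha : ¬ a ∣ Nat.card K)
    (hb : b ≠ 0) : Fd K b := by
  have hA := isChar_pt hz h2 (.inl rfl) hψ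
  have hB := isChar_pt hz h2 (.inr rfl) hψ
  have a1 : pt z 1 ψ 1 = a := by rw [pt, one_mul, one_mul, h1, hv]; ring
  have b1 : pt z (-1) ψ 1 = b := by rw [pt, one_mul, h1, hv]; ring
  have b2 : pt z (-1) ψ z = -b := by rw [pt, h2, h1, hv]; ring
  obtain ⟨m, hm⟩ := classInner_isNat hA hA
  obtain ⟨n, hn⟩ := classInner_isNat hB hB
  have h4 := (norm_pt (ψ := ψ) z).trans h3
  rw [hm, hn] at h4
  have h5 : m + n = 3 := by exact_mod_cast h4
  have h6 : m ≠ 0 := by
    rintro rfl
    rw [classInner_self_eq_zero (hm.trans Nat.cast_zero), Pi.zero_apply] at a1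
    exact h0 (by exact_mod_cast a1.symm)
  have h7 : n ≠ 0 := by
    rintro rfl
    rw [classInner_self_eq_zero (hn.trans Nat.cast_zero), Pi.zero_apply] at b1
    exact hb (by exact_mod_cast b1.symm)
  have h8 : m ≠ 1 := by
    rintro rfl
    have h9 := irr_of_norm1 (OddOrderCharacters.VChar.gen_of_char hA) (hm.trans Nat.cast_one) a1
    have h10 := H669.Basic.charDegree_dvd_card h9
    rw [charDegree, a1, Complex.natCast_re, Nat.floor_natCast] at h10
    exact ha h10
  obtain rfl : n = 1 := by omega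
  have h9 := irr_of_norm1 (OddOrderCharacters.VChar.gen_of_char hB) (hn.trans Nat.cast_one) b1
  refine ⟨⟨_, h9⟩, T.faith_of_prime Nat.prime_two hc hz fun e => hb ?_, ?_⟩
  · have h10 : -(b : ℤ) = b := by exact_mod_cast b2.symm.trans (e.trans b1)
    omega
  · show charDegree (pt z (-1) ψ) = b
    rw [charDegree, b1, Complex.natCast_re, Nat.floor_natCast]

end gen

open Cfsg.Spor
open Cfsg.Agent.TAB.F22 (dat rowA rowB td mass tab fin22)
open Cfsg.Agent.TAB.Sm2 (mkRows)

variable {χ : ℕ → Fi22 → ℂ}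

theorem row (hR : Rel td (mkRows rowA rowB) χ) {j : ℕ} (hj : j < 7) :
    χ j = fun g => (nth (rowA.getD j []) (td.ty g) : ℂ) := funext fun g => by
  rw [hR.row (r := ([(j, 1)], rowA.getD j [])) ((by decide +kernel : ∀ j < 7,
    ([(j, 1)], rowA.getD j []) ∈ (mkRows rowA rowB).rel) j hj) rfl, nth_eq]

/-- the restriction to a subgroup of index `3510` -/
theorem norm_res (hE : Enum Fi22 (mkRows rowA rowB).n (mkRows rowA rowB).d χ) (hR : Rel td (mkRows rowA rowB) χ)
    (C : Subgroup Fi22) [Fintype C] (hC : C.index = 3510) : classInner (fun c : C => χ 4 c) (fun c : C => χ 4 c) = 3 := by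
  have := fin22
  have := Fintype.ofFinite Fi22
  have h1 : indFun C 1 1 = (3510 : ℕ) := by rw [CharactersDeep.NormalInd.indFun_one, hC, Pi.one_apply, mul_one]
  obtain ⟨m, hm⟩ := small hE (Characters.Brauer.isCharacter_indFun C (isIrr_isCharacter isIrr_one)) (k := 7) h1
    (by decide +kernel) (by decide +kernel)
  have key : ∀ (v : ℕ → ℤ) (c : ℕ → ℤ), (∀ j < 7, ipF dat (nth (rowA.getD j [])) v = dat.N * c j) →
      classInner 1 (fun x : C => (v (td.ty x) : ℂ)) = ((∑ j ∈ Finset.range 7, m j * c j : ℤ) : ℂ) := fun v c h => by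
    rw [← CharactersDeep.NormalInd.classInner_indFun C 1 (fun g => (v (td.ty g) : ℂ)) fun g x => by simp only [td.conj],
      show indFun C 1 = ∑ j ∈ Finset.range 7, (m j : ℂ) • χ j from funext fun g => by
        rw [hm, Finset.sum_apply]; rfl, classInner_sum_left, Int.cast_sum]
    refine Finset.sum_congr rfl fun j hj => ?_
    rw [classInner_smul_left, row hR (Finset.mem_range.1 hj), inner_of_ipF mass (h j (Finset.mem_range.1 hj)),
      Int.cast_mul, Int.cast_natCast]
  have h2 := key (fun _ => 1) (nth [1]) (by decide +kernel)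
  have h3 := key (fun t => nth (rowA.getD 4 []) t * nth (rowA.getD 4 []) t) (nth [1, 0, 1, 0, 1, 1, 1]) (by decide +kernel)
  have h4 := h1.symm.trans (hm 1)
  rw [Finset.sum_congr rfl fun j hj => by rw [hE.deg j ((Finset.mem_range.1 hj).trans_le (by decide +kernel)),
    (by decide +kernel : ∀ j < 7, (mkRows rowA rowB).d j = [1, 78, 429, 1001, 1430, 3003, 3080].getD j 0) j
      (Finset.mem_range.1 hj)]] at h4
  rw [Int.cast_one, show (fun _ : C => (1 : ℂ)) = 1 from rfl, classInner_irr_self isIrr_one] at h2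
  simp only [Finset.sum_range_succ, Finset.sum_range_zero, nth_eq, List.getD_cons_succ, List.getD_cons_zero,
    List.getD_nil] at h2 h4
  have h5 : (1 : ℤ) = 0 + m 0 * 1 + m 1 * 0 + m 2 * 0 + m 3 * 0 + m 4 * 0 + m 5 * 0 + m 6 * 0 := by exact_mod_cast h2
  have h6 : 3510 = 0 + m 0 * 1 + m 1 * 78 + m 2 * 429 + m 3 * 1001 + m 4 * 1430 + m 5 * 3003 + m 6 * 3080 := by
    exact_mod_cast h4
  have h7 : ∑ j ∈ Finset.range 7, (m j : ℤ) * nth [1, 0, 1, 0, 1, 1, 1] j = 3 := by
    simp only [Finset.sum_range_succ, Finset.sum_range_zero, nth_eq, List.getD_cons_succ, List.getD_cons_zero]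
    obtain h8 | h8 : m 6 = 0 ∨ m 6 = 1 := by (clear * - h6; omega)
    · omega
    obtain h9 | h9 : m 2 = 0 ∨ m 2 = 1 := by (clear * - h6 h8; omega)
    · obtain ⟨h10, h11, h12⟩ : m 3 = 0 ∧ m 4 = 0 ∧ m 5 = 0 := by (clear * - h6 h8; omega)
      (clear * - h5 h6 h9 h11; omega)
    · (clear * - h6 h8 h9; omega)
  rw [h7, Int.cast_ofNat, classInner_def] at h3
  rw [← h3, classInner_def, row hR (by norm_num : 4 < 7)]
  simp only [Pi.one_apply, one_mul, map_intCast, Int.cast_mul, map_mul]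

end Cfsg.Agent.BZ.X.U62

namespace Cfsg.Agent.BZ.X

open Cfsg Subgroup Cfsg.Spor Cfsg.Agent.TAB.Eng Cfsg.Agent.Characters.Core
open Cfsg.Agent.TAB.F22 (dat rowA td tab fin22)

/-- **`2.U₆(2)` has a faithful character of degree `792`** -/
theorem dg_u62_792 (F : Type) [Field F] [Fintype F] (hF : Fintype.card F = 4) : Dg 2 (PSU 6 F 2) (· = 792) := by
  intro K _ _ σ hq hs hk hc
  have := fin22
  have := Fintype.ofFinite K
  obtain ⟨_, d, _, lift, B⟩ := KFacts.FiTT.exists_base ⟨MulEquiv.refl Fi22⟩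
  have A := B.facts
  have i1 := (centralizer ({d} : Set Fi22)).card_mul_index
  rw [B.index_C, A.card] at i1
  have o1 : orderOf d = 2 := orderOf_eq_prime (by rw [pow_two, A.dd]) A.d_ne
  have t1 : td.ty d = 3 := (by decide +kernel : ∀ i < dat.n, 2 = dat.ord i → ¬ C1.Fi.U3.getD i 0 < 6 → i = 3) _ (td.lt d)
    (o1.symm.trans (td.ord d)) (KM.Sp.le_ub C1.Fi.hy C1.Fi.ub3 (by omega))
  have hd : d ∈ centralizer ({d} : Set Fi22) := mem_centralizer_singleton_iff.2 rfl
  have hz : (⟨d, hd⟩ : centralizer ({d} : Set Fi22)) ∈ center _ :=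
    mem_center_iff.2 fun g => Subtype.ext (mem_centralizer_singleton_iff.1 g.2)
  have h1 : center (centralizer ({d} : Set Fi22)) = zpowers ⟨d, hd⟩ := by
    refine le_antisymm (fun n hn => ?_) (zpowers_le.2 hz)
    rcases A.cc n fun y hy => congrArg Subtype.val (mem_center_iff.1 hn
      ⟨y, mem_centralizer_singleton_iff.2 hy⟩).symm with h3 | h3
    · exact (Subtype.ext h3 : n = 1) ▸ one_mem _
    · exact (Subtype.ext h3 : n = ⟨d, hd⟩) ▸ mem_zpowers _
  obtain ⟨k, _, _, hk', ⟨e⟩⟩ := A.quo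
  obtain ⟨φ⟩ := H277.DM.u6_cover hq A.quasi hF
    ((QuotientGroup.quotientMulEquivOfEq hk.symm).trans (QuotientGroup.quotientKerEquivOfSurjective σ hs))
    (e.trans (ChevalleyStructure.FieldIso.PSUEquiv 6 2 (FiniteField.ringEquivOfCardEq (hk'.trans hF.symm))))
    (by rw [hc, h1, Nat.card_zpowers, ← orderOf_coe, o1])
  obtain ⟨χ, hE, hR⟩ := tab
  have := Fintype.ofFinite (centralizer ({d} : Set Fi22))
  refine ⟨792, rfl, U62.fd_of_three (ψ := (fun c : centralizer ({d} : Set Fi22) => χ 4 c) ∘ φ.toMonoidHom)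
    (z := φ.symm ⟨d, hd⟩) (a := 638)
    (isCharacter_comp _ (isCharacter_comp (centralizer ({d} : Set Fi22)).subtype
      (isIrr_isCharacter (hE.irr 4 (by decide +kernel)))))
    ((H829.GowDesc.classInner_comp_surj _ φ.surjective _ _).trans (U62.norm_res hE hR _ B.index_C))
    (mem_center_iff.2 fun g => φ.injective (by rw [map_mul, map_mul, φ.apply_symm_apply, mem_center_iff.1 hz]))
    (φ.injective (by rw [map_mul, φ.apply_symm_apply, map_one]; exact Subtype.ext A.dd)) hc ?_ ?_ (by norm_num) ?_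
    (by norm_num)⟩
  · rw [Function.comp_apply, map_one, OneMemClass.coe_one, U62.row hR (by norm_num : 4 < 7)]
    simp only [show td.ty 1 = 0 from TAB.F22.ty_one, show nth (rowA.getD 4 []) 0 = 1430 by decide +kernel]
    norm_num
  · rw [Function.comp_apply, MulEquiv.coe_toMonoidHom, φ.apply_symm_apply, U62.row hR (by norm_num : 4 < 7)]
    simp only [t1, show nth (rowA.getD 4 []) 3 = -154 by decide +kernel]
    norm_num
  · rw [Nat.card_congr φ.toEquiv]
    omega

/-- **`dg_u62`** -/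
theorem dg_u62 : ∀ (F : Type) [Field F] [Fintype F], Fintype.card F = 4 →
    Dg 2 (PSU 6 F 2) fun m => 3 ∣ m ∧ ¬ 81 ∣ m := fun F _ _ hF =>
  (dg_u62_792 F hF).mono fun _ h => by omega

end Cfsg.Agent.BZ.X
end
end

-- part: BZ/X/G23_mg
section
prune_inst 0x610101d000b4000000000800040001e368a0004000008880008600b000e804c220002c8202c201102008880840034006811000000c20000000a000000011c05a110400204d0c9a108660001000308600002000000000000000000000000000004200000000
set_option linter.all false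
open scoped Cfsg.Agent.FastGrp

-- part: BZ/X/G23
section
/-!
# BZ, the cover `3.G₂(3)`, `p = 2` (helper96)

* `G3.one` : if there are enough good singular columns then the regular columns of the block are proportional;
* `G3.not_XP` : the contradiction with a self-centralising element of another prime order;
* `r0_g23`, `g23`.
-/

set_option autoImplicit false
set_option maxHeartbeats 400000
set_option linter.unusedSectionVars false

namespace Cfsg.Agent.BZ.X

open Cfsg Cfsg.Lie Subgroup Module Cfsg.Agent.BZ.T Cfsg.Agent.BZ.C2 Cfsg.Agent.BHZ.Spor Cfsg.Agent.Blocks.Basic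
open scoped ComplexConjugate

namespace G3

section gen

variable {p : ℕ} [hp : Fact p.Prime] {M : Ideal AlgInt} {K S : Type} [Group K] [Finite K] [Group S] {σ : K →* S}
  {B : Set (IrrCharacter K)} {D : Subgroup K}

theorem r0_congr {T : Type} [Group T] [Finite S] (h : R0 p T) (e : T ≃* S) : R0 p S := fun D hD =>
  (h _ (hD.congr e)).imp (rt_congr e) fun h1 => by
    rw [← map_comap_eq_self_of_surjective (f := e.toMonoidHom) e.surjective D, h1, Subgroup.map_bot]

variable (H : Hyp p M B D σ) (h : R0 p S) {u : S} {j : ℕ} (hu : u ^ p ^ j = 1) {ι : Type} [Fintype ι] (y : ι → S)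
  (hg : ∀ i, Gd σ (y i)) (hn : Pairwise fun i j => ¬ IsConj (y i) (y j)) (hd : ∀ i, p ∣ orderOf (y i))
  (hc : Nat.card (centralizer ({u} : Set S)) ≤ Fintype.card ι + 1)
include H h hu hg hn hd hc

/-- the regular columns are proportional -/
theorem one (hX : XP p K B) : ∃ A : Finset (IrrCharacter K), (∀ χ ∈ A, χ ∈ B) ∧ Fintype.card ι < A.card ∧
    ∀ g : K, ¬ p ∣ orderOf g → ∃ c : ℂ, ∀ χ ∈ B, χ.1 g = c * χ.1 1 := by
  classical
  have := Characters.Core.finite_irr (G := K)
  have := Finite.of_surjective σ H.surj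
  choose x hx using fun i => H.surj (y i)
  obtain rfl : y = fun i => σ (x i) := (funext hx).symm
  have hr := H.rt_of_ra h.rc.ra
  obtain ⟨ψ, h1, -⟩ := H.max hr
  obtain ⟨A, hA⟩ : ∃ A : Finset (IrrCharacter K), ∀ χ, χ ∈ A ↔ χ ∈ B :=
    ⟨(Set.toFinite B).toFinset, fun χ => Set.Finite.mem_toFinset _⟩
  have h2 := H.card_le hr hX hu A fun χ => (hA χ).1
  let L : (A → ℂ) →ₗ[ℂ] (ι → ℂ) := Fintype.linearCombination ℂ fun χ i => χ.1.1 (x i)
  have h3 := H.ce.rank H.hM ψ x hg hn (fun i => (hd i).trans (Subgroup.orderOf_dvd_natCard _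
    (mem_centralizer_singleton_iff.2 rfl))) (LinearMap.range L) fun χ h3 h4 =>
      ⟨Pi.single ⟨χ, (hA χ).2 (H.mem_of_ov hr h1 h3 (H.ce.top_of_r0 H.hM h h4))⟩ 1, by
        rw [Fintype.linearCombination_apply_single, one_smul]⟩
  have h4 := L.finrank_range_add_finrank_ker
  rw [finrank_fintype_fun_eq_card, Fintype.card_coe] at h4
  have h5 : ∀ g : K, ¬ p ∣ orderOf g → (fun χ : A => conj (χ.1.1 g)) ∈ LinearMap.ker L := fun g hg => by
    refine funext fun i => ?_
    have h6 := congrArg conj (S0907.result p M H.hM B H.hB g (x i) hg ((hd i).trans (orderOf_map_dvd σ _)))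
    rw [show B = (A : Set (IrrCharacter K)) from Set.ext fun χ => (hA χ).symm, finsum_mem_coe_finset, map_sum, map_zero,
      ← Finset.sum_coe_sort] at h6
    rw [Fintype.linearCombination_apply, Finset.sum_apply, Pi.zero_apply, ← h6]
    exact Finset.sum_congr rfl fun χ _ => by rw [map_mul, Complex.conj_conj]; rfl
  have h6 : ¬ p ∣ orderOf (1 : K) := by simpa using hp.out.ne_one
  have h7 : (⟨_, h5 1 h6⟩ : LinearMap.ker L) ≠ 0 := fun e =>
    irr_one_ne_zero ψ.2 ((map_eq_zero _).1 (congrFun (congrArg Subtype.val e) ⟨ψ, (hA ψ).2 h1⟩))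
  have h8 : 0 < finrank ℂ (LinearMap.ker L) := finrank_pos_iff_exists_ne_zero.2 ⟨_, h7⟩
  replace h8 : finrank ℂ (LinearMap.ker L) = 1 := by omega
  refine ⟨A, fun χ => (hA χ).1, by omega, fun g hg => ?_⟩
  obtain ⟨c, h9⟩ := (finrank_eq_one_iff_of_nonzero' _ h7).1 h8 ⟨_, h5 g hg⟩
  refine ⟨conj c, fun χ hχ => ?_⟩
  have h10 := congrArg conj (congrFun (congrArg Subtype.val h9) ⟨χ, (hA χ).2 hχ⟩)
  simpa using h10.symm

/-- **COUNT** with a second prime -/
theorem not_XP {q n : ℕ} [hq : Fact q.Prime] (hqp : q ≠ p) (hz : ¬ q ∣ Nat.card (center K)) (h2 : ¬ q ^ 2 ∣ Nat.card K)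
    {w : S} (hw : orderOf w = q) (hC : Nat.card (centralizer ({w} : Set S)) ≤ Fintype.card ι) (hF : Fd K n) (hpn : ¬ p ∣ n)
    (hqn : ¬ q ∣ n) : ¬ XP p K B := fun hX => by
  have := Finite.of_surjective σ H.surj
  obtain ⟨A, h3, h4, h5⟩ := one H h hu y hg hn hd hc hX
  have h6 : w ^ q ^ 1 = 1 := by rw [pow_one, ← hw, pow_orderOf_eq_one]
  obtain ⟨g, rfl, k, h7⟩ := exists_p_lift H.surj h6
  obtain ⟨e, -, h8⟩ := (Nat.dvd_prime_pow hq.out).1 (orderOf_dvd_of_pow_eq_one h7)
  have h9 : q ∣ orderOf g := hw ▸ orderOf_map_dvd σ g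
  obtain ⟨c, h10⟩ := h5 g fun e' => hqp ((Nat.prime_dvd_prime_iff_eq hp.out hq.out).1
    (hp.out.dvd_of_dvd_pow (h8 ▸ e'))).symm
  obtain ⟨φ, hf, rfl⟩ := hF
  obtain ⟨m, hm, h11⟩ := H.mem_of_top (H.rt_of_ra h.rc.ra) φ hf (top_of_not_dvd H.hM hpn)
  have h12 : c ≠ 0 := fun e' => hqn (gal_deg hm φ ▸ dvd_of_van ⟨e, h8⟩ (by rw [h10 _ h11, e', zero_mul]))
  have h13 := Ce.k0_le (p := q) ⟨H.surj, H.ker.le, H.ker ▸ hz⟩ (gal hm φ) h6 A fun χ hχ =>
    ⟨H.ov (h3 χ hχ) h11, fun e' => mul_ne_zero h12 (irr_one_ne_zero χ.2) ((h10 χ (h3 χ hχ)).symm.trans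
      (TAB.Use.zero_of_dz (e := 1) χ.2 (irr_one_eq_charDegree χ.2) hq.out
        (by rw [pow_one]; exact h9.trans (orderOf_dvd_natCard g)) h2 (by rwa [pow_one]) h9))⟩
  omega

end gen

open Cfsg.Agent.MK.C3L Cfsg.Agent.LargeExtra.W2 Cfsg.Agent.GTwoThree.Cent Cfsg.Agent.OddHalf.D6.QThree

variable {G : Type} [Group G] [Finite G]

theorem ord {z u r x : G} (D : Dt z u r x) (h1 : z ≠ 1) (h2 : z * z = 1) (hx : x ≠ 1) :
    orderOf u = 8 ∧ orderOf (u ^ 2) = 4 ∧ orderOf (u ^ 2 * x) = 12 ∧ (u ^ 2 * x) ^ 9 = u ^ 2 := by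
  have := Fact.mk Nat.prime_two
  have := Fact.mk Nat.prime_three
  have h3 : u ^ 8 = 1 := by rw [show 8 = 4 * 2 from rfl, pow_mul, D.u4, pow_two, h2]
  have h4 : orderOf u = 8 := orderOf_eq_prime_pow (p := 2) (n := 2) (D.u4 ▸ h1) h3
  have h5 : orderOf (u ^ 2) = 4 := by rw [orderOf_pow, h4]; rfl
  have h6 : Commute (u ^ 2) x := D.xu.symm
  refine ⟨h4, h5, ?_, ?_⟩
  · rw [h6.orderOf_mul_eq_mul_orderOf_of_coprime (by rw [h5, orderOf_eq_prime D.x3 hx]; decide), h5,
      orderOf_eq_prime D.x3 hx]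
  · rw [h6.mul_pow, show 9 = 3 * 3 from rfl, pow_mul x, D.x3, one_pow, mul_one, ← pow_mul,
      show 2 * (3 * 3) = 8 * 2 + 2 from rfl, pow_add, pow_mul, h3, one_pow, one_mul]

variable {Q : Subgroup G} {z i j k l x₁ x₂ y : G} (h : Case9c Q z i j k l x₁ x₂ y)
include h

theorem r0 (hz : ∀ t : G, orderOf t = 2 → IsConj t z) : R0 2 G :=
  have := Fact.mk Nat.prime_two
  r0_of_constr fun t ht => Constr.conj ⟨Q, G23Abs.isPGroup_Q h, fun x hx => h.large.conj_mem x hx.symm, fun r h1 h2 => by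
    obtain ⟨e, he⟩ := (IsPGroup.iff_orderOf.1 (G23Abs.isPGroup_Q h))
      ⟨r, h.large.self r (h1 z h.large.z_mem).symm fun x hx => (h1 x hx).symm⟩
    rw [← orderOf_coe] at he
    cases e with
    | zero => exact orderOf_eq_one_iff.1 he
    | succ e => exact absurd (he ▸ dvd_pow_self 2 e.succ_ne_zero) h2⟩ (hz t ht).symm

/-- seven good singular classes -/
theorem cols (hy : y * y = 1) : ∃ (u : G) (c : Fin 7 → G), u ^ 2 ^ 3 = 1 ∧ Nat.card (centralizer ({u} : Set G)) = 8 ∧
    (∀ a, c a ^ 8 = 1 ∨ Nat.card (centralizer ({c a} : Set G)) ≤ orderOf (c a)) ∧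
    (Pairwise fun a b => ¬ IsConj (c a) (c b)) ∧ ∀ a, 2 ∣ orderOf (c a) := by
  have := Fact.mk Nat.prime_two
  have h1 := h.large.z_ne
  have h2 := h.large.z_sq
  have h3 : ∀ w : K, w ≠ k1 → toG h w ≠ 1 := fun w hw e => hw (toG_injective h (e.trans (toG_k1 h).symm))
  have D := dtA h hy
  have D' := dtB h hy
  obtain ⟨a1, a2, a3, a4⟩ := ord D h1 h2 (by simpa [toG] using h3 (1, 0, 1, 0) (by decide))
  obtain ⟨b1, b2, b3, b4⟩ := ord D' h1 h2 (by simpa [toG] using h3 (1, 1, 0, 0) (by decide))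
  have h4 := nconj h hy
  generalize toG h uA = u at *
  generalize toG h uB = v at *
  have h5 : orderOf z = 2 := orderOf_eq_prime (by rw [pow_two, h2]) h1
  have h6 : ∀ a, orderOf (![z, u ^ 2, v ^ 2, u, v, u ^ 2 * x₂, v ^ 2 * x₁] a) = ![2, 4, 4, 8, 8, 12, 12] a := fun a => by
    fin_cases a
    exacts [h5, a2, b2, a1, b1, a3, b3]
  refine ⟨u, ![z, u ^ 2, v ^ 2, u, v, u ^ 2 * x₂, v ^ 2 * x₁], orderOf_dvd_iff_pow_eq_one.1 (a1 ▸ dvd_rfl), D.c1,
    fun a => ?_, fun a b hab e => ?_, fun a => ?_⟩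
  · rw [← orderOf_dvd_iff_pow_eq_one, h6]
    fin_cases a
    exacts [.inl (by decide), .inl (by decide), .inl (by decide), .inl (by decide), .inl (by decide), .inr D.c3, .inr D'.c3]
  · have h7 : (![2, 4, 4, 8, 8, 12, 12] : Fin 7 → ℕ) a = ![2, 4, 4, 8, 8, 12, 12] b := by
      obtain ⟨c, hc⟩ := isConj_iff.1 e
      rw [← h6, ← h6, ← hc]
      exact ((MulAut.conj c).orderOf_eq _).symm
    have h8 : ∀ a b : Fin 7, a ≠ b → (![2, 4, 4, 8, 8, 12, 12] : Fin 7 → ℕ) a = ![2, 4, 4, 8, 8, 12, 12] b →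
        (a = 1 ∧ b = 2 ∨ a = 3 ∧ b = 4 ∨ a = 5 ∧ b = 6) ∨ (b = 1 ∧ a = 2 ∨ b = 3 ∧ a = 4 ∨ b = 5 ∧ a = 6) := by decide
    have h9 : ¬ IsConj u v := fun e => h4 (e.pow 2)
    have h10 : ¬ IsConj (u ^ 2 * x₂) (v ^ 2 * x₁) := fun e => h4 (a4 ▸ b4 ▸ e.pow 9)
    rcases h8 a b hab h7 with (⟨rfl, rfl⟩ | ⟨rfl, rfl⟩ | ⟨rfl, rfl⟩) | ⟨rfl, rfl⟩ | ⟨rfl, rfl⟩ | ⟨rfl, rfl⟩
    exacts [h4 e, h9 e, h10 e, h4 e.symm, h9 e.symm, h10 e.symm]
  · rw [h6]
    revert a
    decide

end G3

namespace G3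

open Cfsg.Agent.GTwoThree.Model Cfsg.Agent.OddHalf.Small.G23 Cfsg.Agent.OddHalf.D6.QThree

theorem r0_Gp : R0 2 ↥Gp := r0 (G23Facts.case9c G23Facts.words) fun _ ht => isConj_iff.2 (exists_conj ht)

theorem card_Gp : Nat.card ↥Gp = 4245696 := card_G

/-- the Steinberg character over the centre -/
theorem fd_st {M : Ideal AlgInt} {K : Type} [Group K] [Finite K] {σ : K →* ↥Gp} {B : Set (IrrCharacter K)} {D : Subgroup K}
    (H : Hyp 2 M B D σ) (hc : Nat.card (center K) = 3) : Fd K 729 := by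
  have := Fact.mk Nat.prime_two
  have := Fact.mk Nat.prime_three
  have := H.qs.2
  have : IsSimpleGroup ↥Gp := ((QuotientGroup.quotientMulEquivOfEq H.ker.symm).trans
    (QuotientGroup.quotientKerEquivOfSurjective σ H.surj)).symm.isSimpleGroup
  obtain ⟨θ, h1, -⟩ := H761.LieExt.lie_ext (p := 3) (S := ↥Gp)
    (fun e => H.nab_map ⟨⟨fun a b => Subtype.ext (e.is_comm.comm _ _)⟩⟩)
    (.inr <| .inr <| .inr <| .inr <| .inr <| .inr <| .inl
      ⟨ZMod 3, inferInstance, inferInstance, inferInstance, .inl ⟨(ZMod.card 3).ge, ⟨.refl _⟩⟩⟩)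
  rw [card_Gp, show (4245696 : ℕ).factorization 3 = 6 by
    rw [show 4245696 = 3 ^ 6 * 5824 from rfl, Nat.factorization_mul (by norm_num) (by norm_num), Finsupp.add_apply,
      Nat.factorization_pow_self Nat.prime_three, Nat.factorization_eq_zero_of_not_dvd (by norm_num)]] at h1
  have h2 := (irr_one_eq_charDegree θ.2).trans (congrArg _ h1)
  obtain ⟨ν, hν⟩ := exists_nu H hc
  obtain ⟨χ, h3, h4⟩ := Comp.dz (ext_of H hc) ν θ.2 fun g => TAB.Use.zero_of_dz (e := 6) θ.2 h2 Nat.prime_three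
    (by rw [card_Gp]; norm_num) (by rw [card_Gp]; norm_num) dvd_rfl
  exact hν χ _ h3 (by rw [h4 1 Comp.reg_one, map_one, h2]; norm_num)

theorem cov_Gp : Cov XP 3 2 ↥Gp := fun K _ _ σ M B D H hc => by
  have := Fact.mk Nat.prime_two
  have := Fact.mk (by norm_num : Nat.Prime 7)
  have W := G23Facts.words
  obtain ⟨u, c, h1, h2, h3, h4, h5⟩ := cols (G23Facts.case9c W) ((W.h21 G23Words.yy).trans W.nil)
  obtain ⟨T, h6, h7, h8⟩ := H161.CoxTorus.exists_cyclic (F := ZMod 3) 3 (by decide) le_rfl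
  obtain ⟨w, rfl⟩ := (Subgroup.isCyclic_iff_exists_zpowers_eq_top T).1 h6
  rw [zpowers_eq_closure, centralizer_closure, ← zpowers_eq_closure] at h8
  refine not_XP H r0_Gp h1 c (fun a => (h3 a).elim (fun e => gd_of_coprime H.ker.le e (by rw [H.ker, hc]; decide))
    fun e => gd_of_cyc H.ker.le H.surj (mem_zpowers _) e) h4 h5 h2.le (q := 7) (by decide) (by rw [hc]; decide)
    (by rw [H.card_eq, card_Gp, hc]; decide) (w := w) ((Nat.card_zpowers w).symm.trans h7)
    ((congrArg (fun U : Subgroup ↥(chevG2.group (ZMod 3)) => Nat.card U) h8).trans h7).le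
    (fd_st H hc) (by decide) (by decide)

/-- transport to the field with three elements -/
noncomputable def eqv (F : Type) [Field F] [Fintype F] (hF : Fintype.card F = 3) : ↥Gp ≃* ↥(chevG2.group F) :=
  ChevalleyStructure.FieldIso.groupEquiv chevG2
    (FiniteField.ringEquivOfCardEq (by rw [hF]; rfl : Fintype.card (ZMod 3) = Fintype.card F))

end G3

/-- the local data of `G₂(3)` -/
theorem r0_g23 (F : Type) [Field F] [Fintype F] (hF : Fintype.card F = 3) : R0 2 ↥(chevG2.group F) :=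
  have := Fact.mk Nat.prime_two
  have := Finite.of_equiv _ (G3.eqv F hF).toEquiv
  G3.r0_congr G3.r0_Gp (G3.eqv F hF)

/-- **the triple cover of `G₂(3)`** -/
theorem g23 (F : Type) [Field F] [Fintype F] (hF : Fintype.card F = 3) : Cov XP 3 2 ↥(chevG2.group F) :=
  Cov.of_equiv (T := ↥GTwoThree.Model.Gp) (G3.eqv F hF).symm G3.cov_Gp

end Cfsg.Agent.BZ.X
end

-- part: BZ/X/O82Gen
section
/-!
# BZ-X-o82 : the product of a character with a constituent of a permutation character of rank 3 (helper76)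

* `r3_of_base` : rank 3 from a base point;
* `Tri f x y` : the sum of `f - 1` over the stabilizer of the pair `(x, y)` vanishes;
* `tri_of_mat` : `Tri` for `χ χ̄` from 64 matrices of degree 8 with a dual basis of inverses;
* `irr_mul` : if `χ` has norm one on the stabilizers of all pairs, then `χ θ` is irreducible.
-/

set_option autoImplicit false
set_option linter.unusedSectionVars false

namespace Cfsg.Agent.BZ.X.O82

open Cfsg Cfsg.Agent.Characters.Core Cfsg.Agent.H690.Spor.RankThree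
open scoped ComplexConjugate

variable {G X : Type} [Group G] [MulAction G X]

theorem r3_of_base {R : X → X → Prop} {k l : ℕ} (x₀ y₁ y₂ : X) (symm : ∀ x y, R x y → R y x) (irr : ∀ x, ¬ R x x)
    (inv : ∀ (g : G) x y, R (g • x) (g • y) ↔ R x y) (tr : ∀ x, ∃ g : G, g • x₀ = x)
    (t1 : ∀ y, R x₀ y → ∃ g : G, g • x₀ = x₀ ∧ g • y₁ = y)
    (t2 : ∀ y, x₀ ≠ y → ¬ R x₀ y → ∃ g : G, g • x₀ = x₀ ∧ g • y₂ = y)
    (cardk : ∀ x, Nat.card {y // R x y} = k) (k0 : 0 < k) (l0 : 0 < l) (cardn : Nat.card X = 1 + k + l) :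
    R3 G X R k l := by
  have h1 : ∀ x y, R x y → ∃ g : G, g • x₀ = x ∧ g • y₁ = y := fun x y h => by
    obtain ⟨a, rfl⟩ := tr x
    obtain ⟨b, h2, h3⟩ := t1 (a⁻¹ • y) (by rw [← inv a, smul_inv_smul]; exact h)
    exact ⟨a * b, by rw [mul_smul, h2], by rw [mul_smul, h3, smul_inv_smul]⟩
  have h2 : ∀ x y, x ≠ y → ¬ R x y → ∃ g : G, g • x₀ = x ∧ g • y₂ = y := fun x y hn h => by
    obtain ⟨a, rfl⟩ := tr x
    obtain ⟨b, h2, h3⟩ := t2 (a⁻¹ • y) (fun e => hn (by rw [e, smul_inv_smul]))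
      (by rw [← inv a, smul_inv_smul]; exact h)
    exact ⟨a * b, by rw [mul_smul, h2], by rw [mul_smul, h3, smul_inv_smul]⟩
  refine ⟨⟨fun x y => ?_⟩, symm, irr, fun g x y h => (inv g x y).2 h, fun x y x' y' h h' => ?_,
    fun x y x' y' hn h hn' h' => ?_, cardk, k0, l0, cardn⟩
  · obtain ⟨a, rfl⟩ := tr x
    obtain ⟨b, rfl⟩ := tr y
    exact ⟨b * a⁻¹, by rw [mul_smul, inv_smul_smul]⟩
  · obtain ⟨a, rfl, rfl⟩ := h1 x y h
    obtain ⟨b, rfl, rfl⟩ := h1 x' y' h'
    exact ⟨b * a⁻¹, by rw [mul_smul, inv_smul_smul], by rw [mul_smul, inv_smul_smul]⟩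
  · obtain ⟨a, rfl, rfl⟩ := h2 x y hn h
    obtain ⟨b, rfl, rfl⟩ := h2 x' y' hn' h'
    exact ⟨b * a⁻¹, by rw [mul_smul, inv_smul_smul], by rw [mul_smul, inv_smul_smul]⟩

variable [Fintype G] [DecidableEq X]

/-- the sum of `f - 1` over the stabilizer of a pair -/
def Tri (f : G → ℂ) (x y : X) : Prop := ∑ g : G, (if g • x = x ∧ g • y = y then f g - 1 else 0) = 0

theorem Tri.smul {f : G → ℂ} (hf : IsClassFunction G f) {x y : X} (h : Tri f x y) (a : G) : Tri f (a • x) (a • y) := by
  unfold Tri at h ⊢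
  refine Eq.trans ?_ h
  rw [← Equiv.sum_comp (MulAut.conj a).toEquiv]
  refine Finset.sum_congr rfl fun g _ => ?_
  have h1 : ∀ z : X, (a * g * a⁻¹) • a • z = a • z ↔ g • z = z := fun z => by
    rw [mul_smul, inv_smul_smul, mul_smul, smul_left_cancel_iff]
  change (if (a * g * a⁻¹) • a • x = a • x ∧ (a * g * a⁻¹) • a • y = a • y then f (a * g * a⁻¹) - 1 else 0) = _
  simp only [h1, isClassFunction_def.1 hf g a]

theorem tri_of_fam {f : G → ℂ} {x y : X} {n : ℕ} (hn : n ≠ 0) (h : ℕ → G) (hx : ∀ i < n, h i • x = x)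
    (hy : ∀ i < n, h i • y = y) (hf : ∀ g, ∑ i ∈ Finset.range n, f ((h i)⁻¹ * g) = n) : Tri f x y := by
  unfold Tri
  have h1 : ∀ i ∈ Finset.range n, ∑ g : G, (if g • x = x ∧ g • y = y then f g - 1 else 0) =
      ∑ g : G, (if g • x = x ∧ g • y = y then f ((h i)⁻¹ * g) - 1 else 0) := fun i hi => by
    rw [← Equiv.sum_comp (Equiv.mulLeft (h i)⁻¹)]
    refine Finset.sum_congr rfl fun g _ => ?_
    have h2 : ∀ z : X, h i • z = z → (((h i)⁻¹ * g) • z = z ↔ g • z = z) := fun z hz => by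
      rw [mul_smul, inv_smul_eq_iff, hz]
    change (if ((h i)⁻¹ * g) • x = x ∧ ((h i)⁻¹ * g) • y = y then f ((h i)⁻¹ * g) - 1 else 0) = _
    simp only [h2 x (hx i (Finset.mem_range.1 hi)), h2 y (hy i (Finset.mem_range.1 hi))]
  have h2 := Finset.sum_congr rfl h1
  rw [Finset.sum_const, Finset.card_range, nsmul_eq_mul, Finset.sum_comm] at h2
  refine (mul_eq_zero.1 (h2.trans (Finset.sum_eq_zero fun g _ => ?_))).resolve_left (Nat.cast_ne_zero.2 hn)
  by_cases h3 : g • x = x ∧ g • y = y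
  · simp only [if_pos h3]
    rw [Finset.sum_sub_distrib, hf, Finset.sum_const, Finset.card_range, nsmul_eq_mul, mul_one, sub_self]
  · simp only [if_neg h3, Finset.sum_const_zero]

theorem sum_trace {ι : Type} [Fintype ι] [DecidableEq ι] {n : ℕ} {c : ℤ} (U V : ℕ → Matrix ι ι ℤ)
    (h : ∀ a b a' b', ∑ i ∈ Finset.range n, U i b a * V i a' b' = if a = a' ∧ b = b' then c else 0)
    (A B : Matrix ι ι ℤ) : ∑ i ∈ Finset.range n, (U i * A).trace * (B * V i).trace = c * (B * A).trace := by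
  have h1 : ∀ i, (U i * A).trace * (B * V i).trace =
      ∑ b, ∑ a, ∑ b', ∑ a', A a b * B b' a' * (U i b a * V i a' b') := fun i => by
    simp only [Matrix.trace, Matrix.diag, Matrix.mul_apply]
    rw [Finset.sum_mul]
    refine Finset.sum_congr rfl fun b _ => ?_
    rw [Finset.sum_mul]
    refine Finset.sum_congr rfl fun a _ => ?_
    rw [Finset.mul_sum]
    refine Finset.sum_congr rfl fun b' _ => ?_
    rw [Finset.mul_sum]
    exact Finset.sum_congr rfl fun a' _ => by ring
  rw [Finset.sum_congr rfl fun i _ => h1 i, Finset.sum_comm]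
  simp only [Matrix.trace, Matrix.diag, Matrix.mul_apply, Finset.mul_sum]
  refine Finset.sum_congr rfl fun b _ => ?_
  rw [Finset.sum_comm]
  refine Finset.sum_congr rfl fun a _ => ?_
  rw [Finset.sum_comm, Finset.sum_eq_single b]
  · rw [Finset.sum_comm, Finset.sum_eq_single a]
    · rw [← Finset.mul_sum, h, if_pos ⟨rfl, rfl⟩]
      ring
    · intro a' _ ha
      rw [← Finset.mul_sum, h, if_neg fun e => ha e.1.symm, mul_zero]
    · exact fun e => absurd (Finset.mem_univ _) e
  · intro b' _ hb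
    rw [Finset.sum_comm]
    refine Finset.sum_eq_zero fun a' _ => ?_
    rw [← Finset.mul_sum, h, if_neg fun e => hb e.2.symm, mul_zero]
  · exact fun e => absurd (Finset.mem_univ _) e

/-- the character of an integral representation -/
def chi (ρ : G →* Matrix (Fin 8) (Fin 8) ℤ) : G → ℂ := fun g => ((ρ g).trace : ℤ)

theorem chi_char (ρ : G →* Matrix (Fin 8) (Fin 8) ℤ) : IsCharacter G (chi ρ) := by
  have h := S0148.isCharacter_of_matrix ((Int.castRingHom ℂ).mapMatrix.toMonoidHom.comp ρ)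
  refine (funext fun g => ?_ : _ = chi ρ) ▸ h
  exact (AddMonoidHom.map_trace (Int.castRingHom ℂ).toAddMonoidHom (ρ g)).symm

theorem tri_of_mat (ρ : G →* Matrix (Fin 8) (Fin 8) ℤ) {x y : X} (h : ℕ → G) (hx : ∀ i < 64, h i • x = x)
    (hy : ∀ i < 64, h i • y = y)
    (hm : ∀ a b a' b', ∑ i ∈ Finset.range 64, ρ (h i)⁻¹ b a * ρ (h i) a' b' = if a = a' ∧ b = b' then 8 else 0) :
    Tri (fun g => chi ρ g * conj (chi ρ g)) x y := by
  refine tri_of_fam (by norm_num) h hx hy fun g => ?_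
  have h1 := sum_trace (fun i => ρ (h i)⁻¹) (fun i => ρ (h i)) hm (ρ g) (ρ g⁻¹)
  rw [← map_mul, inv_mul_cancel, map_one, Matrix.trace_one, Fintype.card_fin] at h1
  have h2 : ∀ i, chi ρ ((h i)⁻¹ * g) * conj (chi ρ ((h i)⁻¹ * g)) =
      (((ρ (h i)⁻¹ * ρ g).trace * (ρ g⁻¹ * ρ (h i)).trace : ℤ) : ℂ) := fun i => by
    rw [← isCharacter_apply_inv (chi_char ρ), mul_inv_rev, inv_inv, Int.cast_mul, ← map_mul, ← map_mul]
    rfl
  rw [Finset.sum_congr rfl fun i _ => h2 i, ← Int.cast_sum, h1]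
  norm_num

theorem inner_pos {χ : G → ℂ} (hχ : IsCharacter G χ) (h : χ 1 ≠ 0) : ∃ n : ℕ, classInner χ χ = (n + 1 : ℕ) := by
  obtain ⟨n, hn⟩ := classInner_isNat hχ hχ
  rcases n with _ | n
  · exact absurd (congrFun (classInner_self_eq_zero (hn.trans Nat.cast_zero)) 1) h
  · exact ⟨n, hn⟩

/-- **the product is irreducible** -/
theorem irr_mul [Fintype X] {R : X → X → Prop} {k l : ℕ} (h : R3 G X R k l) {χ : G → ℂ} (hχ : IsCharacter G χ)
    (h1 : χ 1 ≠ 0) {x₀ y₁ y₂ : X} (r1 : R x₀ y₁) (n2 : x₀ ≠ y₂) (r2 : ¬ R x₀ y₂)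
    (t0 : Tri (fun g => χ g * conj (χ g)) x₀ x₀) (t1 : Tri (fun g => χ g * conj (χ g)) x₀ y₁)
    (t2 : Tri (fun g => χ g * conj (χ g)) x₀ y₂) {θ₁ θ₂ : G → ℂ} (i1 : IsIrrCharacter G θ₁) (i2 : IsIrrCharacter G θ₂)
    (hπ : ∀ g : G, (Nat.card (MulAction.fixedBy X g) : ℂ) = 1 + θ₁ g + θ₂ g) : IsIrrCharacter G (χ * θ₂) := by
  classical
  have hcl : IsClassFunction G fun g => χ g * conj (χ g) := isClassFunction_def.2 fun g a => by
    simp only [isClassFunction_def.1 (isCharacter_isClassFunction hχ) g a]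
  have hall : ∀ x y : X, Tri (fun g => χ g * conj (χ g)) x y := fun x y => by
    have := h.trans
    by_cases e : x = y
    · obtain ⟨a, rfl⟩ := MulAction.exists_smul_eq G x₀ x
      exact e ▸ t0.smul hcl a
    · by_cases r : R x y
      · obtain ⟨a, rfl, rfl⟩ := h.one _ _ _ _ r1 r
        exact t1.smul hcl a
      · obtain ⟨a, rfl, rfl⟩ := h.two _ _ _ _ n2 r2 e r
        exact t2.smul hcl a
  obtain ⟨π, hπ'⟩ : ∃ π : G → ℂ, π = fun g : G => (Nat.card (MulAction.fixedBy X g) : ℂ) := ⟨_, rfl⟩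
  have h3 : classInner π π = 3 := by
    have h4 := S0157.avg_fixedBy (G := G) (X × X)
    rw [h.card_orbits] at h4
    rw [hπ']
    simpa only [classInner, S0157.card_fixedBy_prod, Nat.cast_mul, Complex.conj_natCast, Nat.cast_ofNat] using h4
  have h4 : ∀ g : G, π g = ∑ x : X, if g • x = x then 1 else 0 := fun g => by
    rw [hπ', Finset.sum_boole, ← Fintype.card_subtype]
    exact congrArg _ Nat.card_eq_fintype_card
  have h5 : classInner (χ * π) (χ * π) = 3 := by
    rw [← h3, classInner_def, classInner_def]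
    congr 1
    rw [← sub_eq_zero, ← Finset.sum_sub_distrib]
    have h6 : ∀ g : G, (χ * π) g * conj ((χ * π) g) - π g * conj (π g) =
        ∑ x : X, ∑ y : X, if g • x = x ∧ g • y = y then χ g * conj (χ g) - 1 else 0 := fun g => by
      have h7 : conj (π g) = π g := by rw [hπ']; exact Complex.conj_natCast _
      have h8 : (χ * π) g * conj ((χ * π) g) - π g * conj (π g) = π g * π g * (χ g * conj (χ g) - 1) := by
        rw [Pi.mul_apply, map_mul, h7]
        ring
      rw [h8, h4, Finset.sum_mul_sum, Finset.sum_mul]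
      refine Finset.sum_congr rfl fun x _ => ?_
      rw [Finset.sum_mul]
      refine Finset.sum_congr rfl fun y _ => ?_
      by_cases e1 : g • x = x <;> by_cases e2 : g • y = y <;> simp [e1, e2]
    rw [Finset.sum_congr rfl fun g _ => h6 g, Finset.sum_comm]
    refine Finset.sum_eq_zero fun x _ => ?_
    rw [Finset.sum_comm]
    exact Finset.sum_eq_zero fun y _ => hall x y
  have h6 : χ * π = χ + χ * θ₁ + χ * θ₂ := funext fun g => by
    simp only [Pi.add_apply, Pi.mul_apply, hπ', hπ]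
    ring
  have c1 := isCharacter_mul hχ (isIrr_isCharacter i1)
  have c2 := isCharacter_mul hχ (isIrr_isCharacter i2)
  obtain ⟨a, ha⟩ := inner_pos hχ h1
  obtain ⟨b, hb⟩ := inner_pos c1 (mul_ne_zero h1 (isIrr_apply_one_ne_zero i1))
  obtain ⟨c, hc⟩ := inner_pos c2 (mul_ne_zero h1 (isIrr_apply_one_ne_zero i2))
  obtain ⟨n1, e1⟩ := classInner_isNat hχ c1
  obtain ⟨n2, e2⟩ := classInner_isNat hχ c2
  obtain ⟨n3, e3⟩ := classInner_isNat c1 hχ
  obtain ⟨n4, e4⟩ := classInner_isNat c1 c2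
  obtain ⟨n5, e5⟩ := classInner_isNat c2 hχ
  obtain ⟨n6, e6⟩ := classInner_isNat c2 c1
  simp only [h6, classInner_add_left, classInner_add_right, ha, hb, hc, e1, e2, e3, e4, e5, e6] at h5
  have h7 : a + 1 + n3 + n5 + (n1 + (b + 1) + n6) + (n2 + n4 + (c + 1)) = 3 := by exact_mod_cast h5
  refine isIrr_of_classInner_self c2 ?_
  rw [hc, show c = 0 by omega]
  norm_num

end Cfsg.Agent.BZ.X.O82
end

-- part: BZ/X/O82
section
/-!
# BZ-X-o82 : a faithful character of degree `672 = 8 * 84` of `2.Ω₈⁺(2)` (helper76)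

`K₀ = W(E₈)'` acts on 135 points (the singular points, twisted by triality) with rank 3, the character of degree 8 is
irreducible on the stabilizers of all pairs.
-/

set_option autoImplicit false
set_option linter.unusedSectionVars false

namespace Cfsg.Agent.BZ.X.O82

open Cfsg Cfsg.Lie Subgroup Cfsg.Agent.Characters.Core Cfsg.Agent.H690.Spor.RankThree
open Cfsg.Agent.OddHalf.D9.EEight Cfsg.Agent.OddHalf.D9.EEight.Id Cfsg.Agent.OddHalf.D9.EEight.Id.Homs
open Cfsg.Agent.OddHalf.D9.EEight.Id.HomChk Cfsg.Agent.OddHalf.D9.EEight.Id.HomData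
open Cfsg.Agent.OddHalf.D9.EEight.Id.Main Cfsg.Agent.OddHalf.D9.EEight.Id.Onto
open Cfsg.Agent.KFacts.OddLift.Basic
open Cfsg.Agent.SporadicRecognition.CosetCert (ev ev_nil ev_cons)
open Cfsg.Agent.SporadicRecognition.CosetCertHyp (invw)
open scoped ComplexConjugate

theorem card_K' : Nat.card K₀ = 348364800 := by rw [card_K, card_P]

theorem fin_K : Finite K₀ := (Nat.card_pos_iff.1 (by rw [card_K']; norm_num)).2

/-- words -/
noncomputable def kw (w : List ℕ) : K₀ := ev (lt (toK b1 rel1) 7) w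

/-- **a presentation of `K₀`** -/
theorem exists_hom {H : Type} [Group H] {p : ℕ → H} (hrel : ∀ r ∈ Bound.rels, ev (lt p 7) r = 1)
    (hw : ev (lt p 7) w1 = 1) : ∃ φ : K₀ →* H, ∀ w, φ (kw w) = ev (lt p 7) w := by
  obtain ⟨b, hb⟩ : ∃ b : ℕ → K₀ × K₀ × H, b = fun i => (toK b1 rel1 i, toK b2 rel2 i, p i) := ⟨_, rfl⟩
  have e1 : ∀ r, (ev (lt b 7) r).1 = kw r := fun r => by
    rw [hb]; exact map_ev_lt _ 7 (MonoidHom.fst K₀ (K₀ × H)) r
  have e2 : ∀ r, (ev (lt b 7) r).2.1 = ev (lt (toK b2 rel2) 7) r := fun r => by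
    rw [hb]; exact map_ev_lt _ 7 ((MonoidHom.fst K₀ H).comp (MonoidHom.snd K₀ (K₀ × H))) r
  have e3 : ∀ r, (ev (lt b 7) r).2.2 = ev (lt p 7) r := fun r => by
    rw [hb]; exact map_ev_lt _ 7 ((MonoidHom.snd K₀ H).comp (MonoidHom.snd K₀ (K₀ × H))) r
  have hr : ∀ r ∈ Bound.rels, ev (lt b 7) r = 1 := fun r hr =>
    Prod.ext ((e1 r).trans (rel_toK rel1 r hr)) (Prod.ext ((e2 r).trans (rel_toK rel2 r hr)) ((e3 r).trans (hrel r hr)))
  obtain ⟨hfin, hcard⟩ := Bound.bound hr
  obtain ⟨q, hq⟩ : ∃ q : Bound.S b 7 →* K₀, ∀ d, q d = (d : K₀ × K₀ × H).1 :=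
    ⟨(MonoidHom.fst K₀ (K₀ × H)).comp (Bound.S b 7).subtype, fun _ => rfl⟩
  obtain ⟨f, hf⟩ : ∃ f : Bound.S b 7 →* H, ∀ d, f d = (d : K₀ × K₀ × H).2.2 :=
    ⟨((MonoidHom.snd K₀ H).comp (MonoidHom.snd K₀ (K₀ × H))).comp (Bound.S b 7).subtype, fun _ => rfl⟩
  have hs : Function.Surjective q := by
    (rewrite [← MonoidHom.range_eq_top, eq_top_iff]; simp +singlePass only [← closure_k1]; rewrite [closure_le])
    rintro _ ⟨i, hi, rfl⟩
    exact ⟨Sub.bD b i, by rw [hq, Sub.coe_bD b hi, hb]⟩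
  have h1 : Nat.card q.ker * 348364800 = Nat.card (Bound.S b 7) := by
    simp only [← card_mul_index q.ker, index_ker, MonoidHom.range_eq_top.2 hs, card_top, card_K']
  obtain ⟨n, hn⟩ : ∃ n : Bound.S b 7, (n : K₀ × K₀ × H) = ev (lt b 7) w1 := ⟨_, Sub.coe_ev b w1⟩
  have n1 : n ∈ q.ker := by rw [MonoidHom.mem_ker, hq, hn, e1]; exact val_toK rel1 w1_1
  have n2 : n ≠ 1 := fun h => by
    have h2 := e2 w1
    (rewrite [← hn, h] at h2; (conv at h2 => enter [@3]; rw [val_toK rel2 (x := negK) w1_2]))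
    exact negK_ne_one h2.symm
  have n3 : f n = 1 := by rw [hf, hn, e3, hw]
  have h2 : Nat.card q.ker = 2 := by
    have h3 : Nat.card q.ker ≠ 1 := fun h => n2 (by (simp only [Subgroup.card_eq_one.1 h, mem_bot] at n1; assumption))
    have h4 : 0 < Nat.card q.ker := Nat.card_pos
    omega
  obtain ⟨m, -, -, hm⟩ := Core.exists_mem_of_card_two q.ker h2
  have hle : q.ker ≤ f.ker := fun z hz => by
    rcases hm z hz with rfl | rfl
    · exact one_mem _
    · rw [← (hm n n1).resolve_left n2]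
      exact n3
  refine ⟨q.liftOfSurjective hs ⟨f, hle⟩, fun w => ?_⟩
  have h3 : kw w = q (ev (lt (Sub.bD b) 7) w) := by rw [hq, Sub.coe_ev, e1]
  refine (congrArg (q.liftOfSurjective hs ⟨f, hle⟩) h3).trans ((q.liftOfRightInverse_comp_apply _ _ ⟨f, hle⟩ _).trans ?_)
  change f _ = _
  rw [hf, Sub.coe_ev, e3]

/-- the map of a letter -/
def pm (y : ℕ) (i : Fin 135) : Fin 135 := Fin.ofNat 135 (look (PT y) i)

theorem coe_pm {y : ℕ} (hy : y < 14) (i : Fin 135) : (pm y i : ℕ) = look (PT y) i :=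
  Nat.mod_eq_of_lt (pt_ok y hy i i.2).1

theorem pm_iv {y : ℕ} (hy : y < 14) (i : Fin 135) : pm (iv y) (pm y i) = i :=
  Fin.ext (by rw [coe_pm (iv_lt 7 hy), coe_pm hy, (pt_ok y hy i i.2).2])

/-- the letters -/
def pp (j : ℕ) : Equiv.Perm (Fin 135) :=
  if h : j < 7 then ⟨pm (2 * j), pm (2 * j + 1), fun i => by
    have h1 := pm_iv (y := 2 * j) (by omega) i
    rwa [iv_even (by omega)] at h1, fun i => by
    have h1 := pm_iv (y := 2 * j + 1) (by omega) i
    rwa [iv_odd (by omega), Nat.add_sub_cancel] at h1⟩ else 1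

theorem lt_pp {y : ℕ} (hy : y < 14) (i : Fin 135) : (lt pp 7 y i : ℕ) = look (PT y) i := by
  have hj : y / 2 < 7 := by omega
  rcases Nat.mod_two_eq_zero_or_one y with h | h
  · rw [lt_even pp 7 (by omega) h, pp, dif_pos hj, ← coe_pm hy]
    change (pm (2 * (y / 2)) i : ℕ) = _
    rw [show 2 * (y / 2) = y by omega]
  · rw [lt_odd pp 7 (by omega) h, pp, dif_pos hj, ← coe_pm hy]
    change (pm (2 * (y / 2) + 1) i : ℕ) = _
    rw [show 2 * (y / 2) + 1 = y by omega]

theorem ev_pp {r : List ℕ} (hr : ∀ y ∈ r, y < 14) (i : Fin 135) : (ev (lt pp 7) r i : ℕ) = run PT r i := by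
  induction r with
  | nil => rfl
  | cons y r ih =>
    rw [ev_cons, Equiv.Perm.mul_apply, lt_pp (hr y List.mem_cons_self), ih fun z hz => hr z (List.mem_cons_of_mem _ hz)]
    rfl

theorem exists_act : ∃ φ : K₀ →* Equiv.Perm (Fin 135), ∀ w, (∀ y ∈ w, y < 14) → ∀ i, (φ (kw w) i : ℕ) = run PT w i := by
  have h : ∀ r ∈ w1 :: Bound.rels, ev (lt pp 7) r = 1 := fun r hr =>
    Equiv.ext fun i => Fin.ext ((ev_pp (pt_rel r hr).1 i).trans ((pt_rel r hr).2 i i.2))
  obtain ⟨φ, hφ⟩ := exists_hom (fun r hr => h r (List.mem_cons_of_mem _ hr)) (h _ List.mem_cons_self)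
  exact ⟨φ, fun w hw i => by rw [hφ, ev_pp hw]⟩

/-- the representation of degree 8 -/
def rho : K₀ →* Matrix (Fin 8) (Fin 8) ℤ := (Units.coeHom _).comp (W.subtype.comp K₀.subtype)

theorem rho_kw {w : List ℕ} (hw : ∀ y ∈ w, y < 14) (a b : Fin 8) : rho (kw w) b a = cf (run T1 w (7 - a)) b := by
  have h := (ap_ev tab1 hw (i := 7 - a) (by omega)).2
  rw [← e_eq_rt, ← coe_ev_toK rel1] at h
  have h1 := congrFun h b
  rw [ap, Gen.e, Matrix.mulVec_single_one] at h1
  exact h1

theorem chi_one : chi rho 1 = 8 := by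
  rw [chi, map_one, Matrix.trace_one, Fintype.card_fin]
  norm_num

theorem chi_neg : chi rho negK = -8 := by
  rw [chi, show rho negK = -1 from rfl, Matrix.trace_neg, Matrix.trace_one, Fintype.card_fin]
  norm_num

section act

variable [MulAction K₀ (Fin 135)] (h : ∀ w, (∀ y ∈ w, y < 14) → ∀ i : Fin 135, ((kw w • i : Fin 135) : ℕ) = run PT w i)
include h

theorem r3 : R3 K₀ (Fin 135) (fun a b => adj a b = true) 70 64 := by
  refine r3_of_base 0 5 1 (fun x y hxy => ?_) (fun x => ?_) (fun g => ?_) (fun x => ?_) (fun y hy => ?_)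
    (fun y hn hy => ?_) (fun x => ?_) (by norm_num) (by norm_num) (by rw [Nat.card_fin])
  · rw [← (adj_symm x x.2).2 y y.2, hxy]
  · rw [(adj_symm x x.2).1]
    exact Bool.false_ne_true
  · have hg : g ∈ Subgroup.closure {x | ∃ i < 7, toK b1 rel1 i = x} := by rw [closure_k1]; trivial
    induction hg using closure_induction with
    | mem x hx =>
      obtain ⟨j, hj, rfl⟩ := hx
      have h1 : kw [2 * j] = toK b1 rel1 j := by
        rw [kw, ev_cons, ev_nil, mul_one, lt_even _ 7 (by omega) (by omega), Nat.mul_div_cancel_left j two_pos]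
      have h2 := h [2 * j] (fun y hy => by rw [List.mem_singleton.1 hy]; omega)
      intro x y
      ((conv => enter [@1, @2, @1, @2, @5]; rw [← h1]); (conv => enter [@1, @2, @2, @2, @5]; rw [← h1]); rewrite [h2, h2, ← adj_inv j hj x x.2 y y.2])
      rfl
    | one => intro x y; rw [one_smul, one_smul]
    | mul a b _ _ ha hb => intro x y; simp only [mul_smul, mul_smul, ha, hb]
    | inv a _ ha => intro x y; rw [← ha, smul_inv_smul, smul_inv_smul]
  · exact ⟨kw (WU.getD x []), Fin.ext ((h _ (wu_ok x x.2).1 0).trans (wu_ok x x.2).2)⟩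
  · have h0 : (y : ℕ) ≠ 0 := fun e => by
      rw [e] at hy
      exact Bool.false_ne_true ((adj_symm 0 (by norm_num)).1.symm.trans hy)
    obtain ⟨h1, h2, h3⟩ := wv_ok y y.2 h0
    rw [if_pos (show adj 0 y = true from hy)] at h3
    exact ⟨kw (WV.getD y []), Fin.ext ((h _ h1 0).trans h2), Fin.ext ((h _ h1 5).trans h3)⟩
  · obtain ⟨h1, h2, h3⟩ := wv_ok y y.2 fun e => hn (Fin.ext e.symm)
    rw [if_neg (show ¬ adj 0 y = true from hy)] at h3
    exact ⟨kw (WV.getD y []), Fin.ext ((h _ h1 0).trans h2), Fin.ext ((h _ h1 1).trans h3)⟩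
  · rw [Nat.card_eq_fintype_card, Fintype.card_subtype]
    exact adj_card x

theorem tri_fam [Fintype K₀] {Z : List (List ℕ)} {F I : ℕ} {z : Fin 135} (h1 : Fam Z F I z) (h2 : Dual F I) :
    Tri (fun g => chi rho g * conj (chi rho g)) (0 : Fin 135) (0 : Fin 135) ∧
      Tri (fun g => chi rho g * conj (chi rho g)) (0 : Fin 135) z := by
  have h3 : ∀ i < 64, kw (Z.getD i []) • (0 : Fin 135) = 0 := fun i hi =>
    Fin.ext ((h _ (h1 i hi).1 0).trans (h1 i hi).2.2.1)
  have h4 : ∀ i < 64, kw (Z.getD i []) • z = z := fun i hi => Fin.ext ((h _ (h1 i hi).1 z).trans (h1 i hi).2.2.2.1)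
  have h5 : ∀ a b a' b' : Fin 8, ∑ i ∈ Finset.range 64, rho (kw (Z.getD i []))⁻¹ b a * rho (kw (Z.getD i [])) a' b' =
      if a = a' ∧ b = b' then 8 else 0 := fun a b a' b' => by
    have h6 := h2 (8 * a + b) (by omega) (8 * a' + b') (by omega)
    rw [if_congr (show 8 * (a : ℕ) + b = 8 * a' + b' ↔ a = a' ∧ b = b' by rw [Fin.ext_iff, Fin.ext_iff]; omega) rfl rfl]
      at h6
    rw [← h6]
    refine Finset.sum_congr rfl fun i hi => ?_
    obtain ⟨h7, h8, -, -, h9⟩ := h1 i (Finset.mem_range.1 hi)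
    simp only [show (kw (Z.getD i []))⁻¹ = kw (invw iv (Z.getD i [])) from (ev_invw_iv _ _ _).symm, rho_kw h8, rho_kw h7,
      (h9 a a.2 b b.2).2, (h9 b' b'.2 a' a'.2).1]
  exact ⟨tri_of_mat rho _ h3 h3 h5, tri_of_mat rho _ h3 h4 h5⟩

theorem exists_672 : ∃ ψ : K₀ → ℂ, IsIrrCharacter K₀ ψ ∧ ψ 1 = (672 : ℕ) ∧ ψ negK ≠ ψ 1 := by
  have := fin_K
  let _ := Fintype.ofFinite K₀
  obtain ⟨θ₁, θ₂, -, -, h1, h2, h3⟩ := H968.Imc.exists_degrees (r3 h) 50 84 (by decide +kernel)
  have hA := tri_fam h (z := 5) fam_A dual_A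
  have hB := tri_fam h (z := 1) fam_B dual_B
  have h4 : (θ₂ : K₀ → ℂ) 1 = 84 := by rw [Blocks.Basic.irr_one_eq_charDegree θ₂.2, h3]; norm_num
  refine ⟨chi rho * θ₂, irr_mul (r3 h) (chi_char rho) (by rw [chi_one]; norm_num) (x₀ := 0) (y₁ := 5) (y₂ := 1)
    (by decide +kernel) (by decide) (by decide +kernel) hA.1 hA.2 hB.2 θ₁.2 θ₂.2 h1, ?_, fun h5 => ?_⟩
  · rw [Pi.mul_apply, chi_one, h4]
    norm_num
  · simp only [Pi.mul_apply, Pi.mul_apply, chi_one, chi_neg, h4] at h5
    have h6 := h1 negK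
    have h7 : MulAction.fixedBy (Fin 135) negK = Set.univ := Set.eq_univ_of_forall fun i => by
      rw [MulAction.mem_fixedBy, ← show kw w2 = negK from val_toK rel1 w2_1]
      have h8 : (∀ y ∈ w2, y < 14) ∧ ∀ i < 135, run PT w2 i = i := by decide +kernel
      exact Fin.ext ((h _ h8.1 i).trans (h8.2 i i.2))
    rw [h7, Nat.card_univ, Nat.card_fin] at h6
    have h8 : (θ₁ : K₀ → ℂ) negK = (218 : ℕ) := by
      push_cast at h6 ⊢
      linear_combination -h6 + h5 / 8
    have h9 := H418.CC.norm_le (isIrr_isCharacter θ₁.2) negK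
    rw [h8, h2, Complex.norm_natCast] at h9
    norm_num at h9

end act

/-- **`2.Ω₈⁺(2)` has a faithful character of degree 672** -/
theorem dg_672 (F : Type) [Field F] [Fintype F] (hF : Fintype.card F = 2) :
    Dg 2 (POmega F (quadFormPlus 4 F)) (· = 672) := fun K _ _ σ h1 h2 h3 h4 => by
  obtain ⟨e⟩ := H42.DM.o8_equiv h1 hF
    ((QuotientGroup.quotientMulEquivOfEq h3.symm).trans (QuotientGroup.quotientKerEquivOfSurjective σ h2)) h4
  obtain ⟨φ, hφ⟩ := exists_act
  let _ : MulAction K₀ (Fin 135) := MulAction.compHom _ φ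
  obtain ⟨ψ, h5, h6, h7⟩ := exists_672 hφ
  refine ⟨672, rfl, ⟨ψ ∘ e.toMonoidHom, isIrr_comp e.toMonoidHom e.surjective h5⟩, fun z hz h8 => ?_,
    Blocks.Basic.charDegree_of_eq ((congrArg ψ (map_one e)).trans h6)⟩
  obtain ⟨m, -, -, hm⟩ := Core.exists_mem_of_card_two _ h4
  have h9 : e.symm negK ∈ center K := mem_center_iff.2 fun g => e.injective (by
    simp only [map_mul, map_mul, e.apply_symm_apply, negK_comm])
  have h10 : e.symm negK = m := (hm _ h9).resolve_left fun h => negK_ne_one (e.symm.injective (h.trans (map_one _).symm))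
  refine (hm z hz).resolve_right fun h11 => h7 ?_
  change ψ (e z) = ψ (e 1) at h8
  rwa [h11, ← h10, e.apply_symm_apply, map_one] at h8

theorem dg_o82 : ∀ (F : Type) [Field F] [Fintype F], Fintype.card F = 2 →
    Dg 2 (POmega F (quadFormPlus 4 F)) (fun m => 3 ∣ m ∧ ¬ 27 ∣ m) := fun F _ _ hF =>
  (dg_672 F hF).mono fun m hm => by rw [hm]; norm_num

end Cfsg.Agent.BZ.X.O82
end

private theorem dce_21deb9b7caf4 : _root_.True := by
  try have : _root_.True := by simp only [_root_.Cfsg.Agent.BZ.X.O82.pp.eq_1]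
  try have : _root_.True := by simp only [_root_.Cfsg.Agent.BZ.X.O82.chi.eq_1]
  try have : _root_.True := by simp only [_root_.Cfsg.Agent.BZ.X.O82.kw.eq_1]
  exact _root_.True.intro
end

-- part: BZ/C3/McL_mg
section
prune_inst 0x614307d345d6200000000801000004224280005900020880048e00e00030903600002e9000c001508104a2a001001002000000020c00000000a0000000004052118201004d3c9010c62008100338f680002000000000000000000000000000004200000000
set_option linter.all false
open scoped Cfsg.Agent.FastGrp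

-- part: BZ/C3/Num
section
/-!
# BZ, `3.McL`, `p = 2` : the numerical part (helper43)

`exists_even` : orthogonal columns and admissible rows (`H86.TI.Num`) force a degree `d` with `2 ∣ d`, `¬ 16 ∣ d`.
-/

set_option autoImplicit false
set_option maxHeartbeats 400000
set_option maxRecDepth 100000

namespace Cfsg.Agent.BZ.C3

open Cfsg.Agent.H86.TI.Num

/-- the quadratic form -/
def Qf (d a2 a5 b5 a10 : ℤ) : ℤ :=
  22 * (d * d) + 16744 * (d * a2) + (-1041893 * (d * a5)) + (-633787 * (d * b5)) + (-384676 * (d * a10)) +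
    3081927 * (a2 * a2) + 16114832 * (a2 * a5) + (-38849823 * (a2 * b5)) + (-192399074 * (a2 * a10)) +
    1310357063 * (a5 * a5) + 4866275002 * (a5 * b5) + 1297208828 * (a5 * a10) + 22725592201 * (b5 * b5) +
    (-3345827551 * (b5 * a10)) + 5018927971 * (a10 * a10)

/-- the enumeration, given `d` -/
def chkE (d : ℤ) : Bool :=
  force (d * d + 128304000 * t7 d + 163296000 * t11 d) fun s0 =>
  decide (898128000 < s0) || loop 16 d 200 fun a2 =>
  decide (22275 * a2 % d ≠ 0) || force (s0 + 22275 * (a2 * a2) + 128304000 * t7 a2) fun s1 =>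
  decide (898128000 < s1) || loop 25 d 27 fun a5 =>
  force (s1 + 1197504 * (a5 * a5)) fun s2 =>
  decide (898128000 < s2) || loop 5 d 5 fun b5 =>
  decide ((d + 4 * a5 + 120 * b5) % 125 ≠ 0) || force (s2 + 35925120 * (b5 * b5)) fun s3 =>
  decide (898128000 < s3) || loop 5 a2 5 fun a10 =>
  decide ((a10 - a5) % 2 ≠ 0) || decide (898128000 < s3 + 29937600 * (a10 * a10)) ||
  decide ((if d % 125 = 0 then 0 else 100000000000) ≤ Qf d a2 a5 b5 a10)

theorem chkE_all : (allN 9990 fun k => Nat.beq k 0 || !Nat.beq (2694384000 % (3 * k)) 0 ||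
    (Nat.beq (k % 2) 0 && !Nat.beq (k % 16) 0) || chkE ((3 * k : ℕ) : ℤ)) = true := by decide +kernel

theorem rowsE {d a2 a3 a5 b5 a6 a10 p q r s e f g k i j : ℤ} (h : RowOK d a2 a3 a5 b5 a6 a10 p q r s e f g k i j)
    (h2 : 2 ∣ d → 16 ∣ d) : (if d % 125 = 0 then 0 else 100000000000) ≤ Qf d a2 a5 b5 a10 := by
  have hn := h.norm
  have e1 := t7_le h.c7
  have e2 := t7_le h.c14
  have e3 := t11_le h.c11
  have z1 : 0 ≤ a2 * a2 := mul_self_nonneg _
  have z2 : 0 ≤ a3 * a3 := mul_self_nonneg _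
  have z3 : 0 ≤ a5 * a5 := mul_self_nonneg _
  have z4 : 0 ≤ b5 * b5 := mul_self_nonneg _
  have z5 : 0 ≤ a6 * a6 := mul_self_nonneg _
  have z6 : 0 ≤ a10 * a10 := mul_self_nonneg _
  have z7 : 0 ≤ p * p + p * q + 4 * (q * q) := by linarith only [sq_nonneg (2 * p + q), _root_.mul_self_nonneg (q : ℤ), _root_.sq_nonneg (2 * p + q : ℤ)]
  have z8 : 0 ≤ r * r + r * s + 4 * (s * s) := by linarith only [sq_nonneg (2 * r + s), _root_.mul_self_nonneg (s : ℤ), _root_.sq_nonneg (2 * r + s : ℤ)]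
  have z9 : 0 ≤ t7 d := by unfold t7; split_ifs <;> norm_num
  have z10 : 0 ≤ t7 a2 := by unfold t7; split_ifs <;> norm_num
  have z11 : 0 ≤ t11 d := by unfold t11; split_ifs <;> norm_num
  have z12 : 0 < d * d := mul_pos h.pos h.pos
  generalize p * p + p * q + 4 * (q * q) = N at *
  generalize r * r + r * s + 4 * (s * s) = N' at *
  generalize e * e - e * f + 2 * (f * f) = x1 at *
  generalize g * g - g * k + 2 * (k * k) = x2 at *
  generalize i * i - i * j + 3 * (j * j) = x3 at *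
  obtain ⟨n, hdn⟩ : ∃ n : ℕ, d = ((3 * n : ℕ) : ℤ) := by
    obtain ⟨y, hy⟩ := h.three
    have hp := h.pos
    obtain ⟨n, rfl⟩ := Int.eq_ofNat_of_zero_le (show 0 ≤ y by omega)
    exact ⟨n, by rw [hy]; push_cast; rfl⟩
  have hd2 : d * d ≤ 898128000 := by linarith
  have hd3 : d ≤ 29968 := by nlinarith only [z9, z10, z11, z7, z8, e1, e2, e3, hn]
  have hp := h.pos
  have H := allN_spec chkE_all n (by omega)
  have hd : 3 * n ∣ 2694384000 := by
    have := h.dvd
    rw [hdn] at this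
    exact_mod_cast this
  have hn0 : n ≠ 0 := by
    rintro rfl
    rw [hdn] at hp
    simp at hp
  have h16 : n % 2 = 0 → n % 16 = 0 := by
    intro h0
    have h3 : (2 : ℤ) ∣ d := by
      rw [hdn]
      exact_mod_cast (Nat.dvd_of_mod_eq_zero h0).mul_left 3
    have h4 := h2 h3
    rw [hdn] at h4
    have h5 : 16 ∣ 3 * n := by exact_mod_cast h4
    exact Nat.mod_eq_zero_of_dvd (Nat.Coprime.dvd_of_dvd_mul_left (by norm_num) h5)
  replace H := orL H (by
    rw [Nat.mod_eq_zero_of_dvd hd]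
    have b0 : Nat.beq n 0 = false := by
      cases hb : Nat.beq n 0
      · rfl
      · exact absurd (Nat.eq_of_beq_eq_true hb) hn0
    rw [b0]
    by_cases h0 : n % 2 = 0
    · rw [h0, h16 h0]
      decide
    · have b1 : Nat.beq (n % 2) 0 = false := by
        cases hb : Nat.beq (n % 2) 0
        · rfl
        · exact absurd (Nat.eq_of_beq_eq_true hb) h0
      rw [b1]
      simp)
  rw [← hdn] at H
  unfold chkE at H
  rw [force_eq] at H
  replace H := orD H (by linarith)
  replace H := loop_spec (by norm_num) H (x := a2) h.c16 (bnd (B := 200) (by push_cast; linarith)).1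
    (bnd (B := 200) (by push_cast; linarith)).2
  replace H := orD H (by rw [not_not]; exact Int.emod_eq_zero_of_dvd h.div2)
  rw [force_eq] at H
  replace H := orD H (by linarith)
  have c25 : (25 : ℤ) ∣ a5 - d := by
    have h1 := h.c5
    have h2 := h.c125
    (clear * - h1 h2; omega)
  replace H := loop_spec (by norm_num) H (x := a5) c25 (bnd (B := 27) (by push_cast; linarith)).1
    (bnd (B := 27) (by push_cast; linarith)).2
  rw [force_eq] at H
  replace H := orD H (by linarith)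
  have c5 : ((5 : ℕ) : ℤ) ∣ b5 - d := by
    have h1 := h.c5
    push_cast
    (clear * - h1; omega)
  replace H := loop_spec (by norm_num) H (x := b5) c5 (bnd (B := 5) (by push_cast; linarith)).1
    (bnd (B := 5) (by push_cast; linarith)).2
  replace H := orD H (by rw [not_not]; exact Int.emod_eq_zero_of_dvd h.c125)
  rw [force_eq] at H
  replace H := orD H (by linarith)
  replace H := loop_spec (by norm_num) H (x := a10) h.c10 (bnd (B := 5) (by push_cast; linarith)).1
    (bnd (B := 5) (by push_cast; linarith)).2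
  replace H := orL H (by
    rw [Bool.or_eq_true, decide_eq_true_iff, decide_eq_true_iff]
    rintro (h1 | h1)
    · exact h1 (Int.emod_eq_zero_of_dvd h.c10')
    · linarith)
  exact of_decide_eq_true H

variable {ι : Type*} {X : Finset ι} {u : Fin 7 → ι → ℤ} {w : Fin 4 → ι → ℤ}

theorem sum_Qf (G : Gram X u w) : ∑ x ∈ X, Qf (u 0 x) (u 1 x) (u 3 x) (u 4 x) (u 6 x) = 1845497554045 := by
  simp only [Qf, Finset.sum_add_distrib, ← Finset.mul_sum]
  simp only [G.uu]
  simp only [Fin.reduceEq, if_true, if_false, co_0, co_1, co_3, co_4, co_6, mul_zero, add_zero]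
  norm_num

/-- **a small even degree** -/
theorem exists_even (G : Gram X u w)
    (hrow : ∀ x ∈ X, ∃ e f g k i j : ℤ, RowOK (u 0 x) (u 1 x) (u 2 x) (u 3 x) (u 4 x) (u 5 x) (u 6 x) (w 0 x) (w 1 x)
      (w 2 x) (w 3 x) e f g k i j) : ∃ x ∈ X, 2 ∣ u 0 x ∧ ¬ 16 ∣ u 0 x := by
  classical
  by_contra hc
  push Not at hc
  have h0 := count G hrow
  have h1 : ∀ x ∈ X, (if ¬ (125 : ℤ) ∣ u 0 x then (100000000000 : ℤ) else 0) ≤
      Qf (u 0 x) (u 1 x) (u 3 x) (u 4 x) (u 6 x) := by
    intro x hx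
    obtain ⟨e, f, g, k, i, j, h⟩ := hrow x hx
    have := rowsE h (hc x hx)
    by_cases h125 : (125 : ℤ) ∣ u 0 x
    · rwa [if_neg (not_not.2 h125), ← if_pos (Int.emod_eq_zero_of_dvd h125) (t := (0 : ℤ)) (e := 100000000000)]
    · rwa [if_pos h125, ← if_neg (fun h0 => h125 (Int.dvd_of_emod_eq_zero h0)) (t := (0 : ℤ)) (e := 100000000000)]
  have h3 := Finset.sum_le_sum h1
  rw [sum_Qf G, ← Finset.sum_filter, Finset.sum_const, nsmul_eq_mul] at h3
  omega

end Cfsg.Agent.BZ.C3
end

-- part: BZ/C3/McL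
section
/-!
# BZ, the cover `3.McL`, `p = 2` (helper43)
-/

set_option autoImplicit false
set_option maxHeartbeats 400000
set_option maxRecDepth 100000

namespace Cfsg.Agent.BZ.C3

open Cfsg Subgroup Cfsg.Agent.TAB Cfsg.Agent.TAB.Eng Cfsg.Agent.TAB.Use Cfsg.Agent.BZ.T Cfsg.Agent.BZ.C2

/-- a faithful linear character of a centre of prime order -/
theorem exists_lam {K : Type} [Group K] [Finite K] {r : ℕ} (hr : r.Prime) (hc : Nat.card (center K) = r) :
    ∃ lam : center K →* ℂˣ, lam ≠ 1 ∧ ∀ χ : IrrCharacter K, (∀ z : center K, (χ : K → ℂ) z = lam z * (χ : K → ℂ) 1) →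
      Fd K (charDegree (χ : K → ℂ)) := by
  have h1 : Nontrivial (center K) := Finite.one_lt_card_iff_nontrivial.1 (hc ▸ hr.one_lt)
  obtain ⟨z, hz⟩ := exists_ne (1 : center K)
  let _ : CommGroup (center K) :=
    { (inferInstance : Group (center K)) with mul_comm := fun a b => Subtype.ext (mem_center_iff.1 b.2 a) }
  obtain ⟨φ, hφ⟩ := CommGroup.exists_apply_ne_one_of_hasEnoughRootsOfUnity (center K) ℂ hz
  refine ⟨φ, fun e => hφ (by rw [e]; rfl), fun χ ho => ⟨χ, faith_of_prime hr hc z.2 fun e => hφ ?_, rfl⟩⟩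
  have h2 := ho z
  rw [e] at h2
  exact Units.ext ((mul_eq_right₀ (Blocks.Basic.irr_one_ne_zero χ.2)).1 h2.symm)

/-- a faithful character of `3.McL` of even degree not divisible by `16` -/
theorem mcl_even {K S : Type} [Group K] [Finite K] [Group S] {σ : K →* S} (hs : Function.Surjective σ)
    (hk : σ.ker = center K) (hc : Nat.card (center K) = 3) (hp : commutator K = ⊤) (h : Spor.IsoMcL S) :
    ∃ n, Fd K n ∧ 2 ∣ n ∧ ¬ 16 ∣ n := by
  classical
  obtain ⟨e⟩ := h
  obtain ⟨f⟩ := McLType.X275.isoMcL_G1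
  let g := e.trans f.symm
  have hE : H86.TI.Ext (center K) (g.toMonoidHom.comp σ) := ⟨g.surjective.comp hs, by
    rw [← hk]
    ext x
    simp only [MonoidHom.mem_ker, _root_.MulEquiv.toMonoidHom_eq_coe, _root_.MonoidHom.ker_mulEquiv_comp], le_rfl, hc⟩
  obtain ⟨lam, hl, hF⟩ := exists_lam Nat.prime_three hc
  obtain ⟨L⟩ := H86.TI.exists_loc
  obtain ⟨l⟩ := H86.TI.exists_locE hE L
  have := Characters.Core.finite_irr (G := K)
  have := Fintype.ofFinite (IrrCharacter K)
  have H : ∀ χ : IrrCharacter K, ∃ (u : Fin 7 → ℤ) (w : Fin 4 → ℤ), H407.TI.Over (center K) lam (χ : K → ℂ) →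
      ((∀ i, (χ : K → ℂ) (l.fam7 i) = u i) ∧ (χ : K → ℂ) (l.X * l.W) = w 0 + w 1 * H86.TI.eta ∧
      (χ : K → ℂ) (l.T * (l.X * l.W)) = w 2 + w 3 * H86.TI.eta ∧ u 0 = charDegree (χ : K → ℂ) ∧
      ∃ a b c d i j : ℤ, H86.TI.Num.RowOK (u 0) (u 1) (u 2) (u 3) (u 4) (u 5) (u 6) (w 0) (w 1) (w 2) (w 3)
        a b c d i j) := by
    intro χ
    by_cases ho : H407.TI.Over (center K) lam (χ : K → ℂ)
    · obtain ⟨u, w, hh⟩ := l.row hE hp hl χ.2 ho (l.bessel hE lam ho)
      exact ⟨u, w, fun _ => hh⟩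
    · exact ⟨0, 0, fun h1 => absurd h1 ho⟩
  choose u w hH using H
  have hG := l.gram hE lam (fun i χ => u χ i) (fun i χ => w χ i) (fun χ ho i => (hH χ ho).1 i)
    (fun χ ho => (hH χ ho).2.1) (fun χ ho => (hH χ ho).2.2.1)
  obtain ⟨χ, hχ, h1, h2⟩ := exists_even hG (fun χ hχ => (hH χ (Finset.mem_filter.1 hχ).2).2.2.2.2)
  have ho := (Finset.mem_filter.1 hχ).2
  rw [(hH χ ho).2.2.2.1] at h1 h2
  refine ⟨_, hF χ fun z => ?_, by exact_mod_cast h1, fun h3 => h2 (by exact_mod_cast h3)⟩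
  have h3 := ho z 1
  rwa [mul_one] at h3

/-- the local data for the prime `2` -/
theorem mcl_ra {S : Type} [Group S] [Finite S] (h : Spor.IsoMcL S) : RA 2 S := by
  have := Fact.mk Nat.prime_two
  refine ra_of_at fun t ht _ => ?_
  obtain ⟨C, hC⟩ := H699.TI.exists_cover h ht
  refine at_of_descend (T := alternatingGroup (Fin 8)) (C.π.codRestrict _ fun x => C.range_eq ▸ ⟨x, rfl⟩) ?_ ?_
    (C1.rc_of_locChar OddHalf.Small.Alt.eight.2)
  · rintro ⟨y, hy⟩
    rw [← C.range_eq] at hy
    obtain ⟨x, rfl⟩ := hy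
    exact ⟨x, rfl⟩
  · intro n hn
    rcases (C.ker n).1 (congrArg Subtype.val hn) with rfl | rfl
    · exact one_mem _
    · rw [hC]
      exact mem_zpowers t

/-- `Reg` from a rational table -/
theorem reg_of_rat {G : Type} [Group G] [Finite G] {E : Dat} {T : TD G E} {R : Rows} (hm : T.Mass) (hr : ON.Rat T)
    (hT : Tab T R) {p d : ℕ} (h : ∀ i < E.n, ¬ p ∣ E.ord i → E.ord i ≠ 1 →
      p ^ d ∣ KM.Sp.cbg E R [] i (List.range R.rel.length) → ¬ E.cnt i * p ^ d ∣ (E.ord i).totient * E.N) : Reg p d G :=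
  fun y h1 h2 h3 => h _ (T.lt y) (T.ord y ▸ h1) (T.ord y ▸ fun h4 => h2 (orderOf_eq_one_iff.1 h4))
    (h3.trans (KM.Sp.card_dvd_cbg (KM.Sp.Hy.nil hm hT) y _)) ((Nat.mul_dvd_mul_left _ h3).trans (KM.Sp.rat_dvd hm hr y))

theorem mcl_3_2 : ∀ (S : Type) [Group S] [Finite S], Spor.IsoMcL S → Cov XP 3 2 S := by
  have := Fact.mk Nat.prime_two
  intro S _ _ h K _ _ σ M B D H hc
  obtain ⟨n, h1, h2, h3⟩ := mcl_even H.surj H.ker hc H.qs.1.commutator_eq_top h
  have hR := H.rt_of_ra (mcl_ra h)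
  obtain ⟨e⟩ := h
  obtain ⟨f⟩ := H359.CT.McL.iso_K0
  obtain ⟨T, hm, hr, hT, -⟩ := McL.tabK
  have := Finite.of_equiv _ (e.trans f.symm).toEquiv
  refine h1.xp (a := 3) H hR ((reg_of_rat hm hr hT (d := 4) (by decide +kernel)).of_equiv (e.trans f.symm)) h2 h3 ?_
  rw [Nat.card_congr (e.trans f.symm).toEquiv, hm.1]
  decide

theorem mcl_3_2T : ∀ (S : Type) [Group S] [Finite S], Spor.IsoMcL S → Cov XT 3 2 S := by
  have := Fact.mk Nat.prime_two
  have := Fact.mk Nat.prime_three
  rintro S _ _ ⟨e⟩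
  obtain ⟨f⟩ := H359.CT.McL.iso_K0
  obtain ⟨T, hm, -, hT, -⟩ := McL.tabK
  have := Finite.of_equiv _ (e.trans f.symm).toEquiv
  exact Cov.of_equiv (e.trans f.symm) fun K _ _ σ M B D H hc => (fd_dz (r := 3) H hc hm hT 9 6 5103 (by decide +kernel)).xt
    (fd_dz (r := 3) H hc hm hT 16 6 8019 (by decide +kernel)) H (H.rt_of_ra (mcl_ra ⟨f⟩))
    (by decide) (by decide) (by decide)

end Cfsg.Agent.BZ.C3
end

-- part: BZ/C5/HS
section
/-!
# BZ, the cover `2.HS` at the prime `5` (helper53)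
-/

set_option autoImplicit false
set_option maxRecDepth 100000

namespace Cfsg.Agent.BZ.C5.HS

open Cfsg Subgroup Cfsg.Agent.TAB Cfsg.Agent.TAB.Eng Cfsg.Agent.TAB.Use Cfsg.Agent.BZ.T Cfsg.Agent.TAB.HS

/-- the virtual characters which vanish on the elements of even order -/
def cf : List (List (ℤ × ℕ)) := [[(1, 11), (1, 17)], [(1, 0), (-1, 4), (1, 12), (1, 15)], [(-1, 11), (1, 17), (1, 20)],
  [(-1, 0), (-1, 1), (1, 8), (1, 9), (1, 16)], [(-1, 1), (-1, 4), (1, 8), (-1, 10), (-1, 13), (-1, 14)],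
  [(1, 0), (1, 1), (1, 2), (1, 5), (-1, 6), (1, 10)], [(1, 0), (1, 3), (1, 5), (-1, 9), (1, 10), (1, 18)],
  [(1, 6), (1, 7), (1, 8), (-1, 9), (-1, 10), (1, 15), (1, 16), (1, 19)]]

/-- their values -/
noncomputable def V : List (List ℤ) := cf.map (comb (A ++ B))

/-- the Gram matrix -/
def G : List (List ℤ) := [[2, 0, 0, 0, 0, 0, 0, 0], [0, 4, 0, -1, 1, 1, 1, 1], [0, 0, 4, 0, 0, 0, 0, 0],
  [0, -1, 0, 5, 2, -2, -2, 1], [0, 1, 0, 2, 6, -2, -1, 2], [0, 1, 0, -2, -2, 6, 3, -2], [0, 1, 0, -2, -1, 3, 7, 0],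
  [0, 1, 0, 1, 2, -2, 0, 9]]

/-- the levels -/
def lv : List Lv := [(1, 95670016, [1]), (2, 47835008, [1, 0]), (2, 47835008, [1, 0, 0]), (2, 2517632, [4, 0, 1, 0]),
  (2, 113152, [19, -9, 0, -7, 0]), (2, 5168, [89, 27, 20, 0, -24, 0]), (2, 54112, [26, -11, -1, 6, 0, -2, 0]),
  (3, 21983, [34, -6, 13, -5, -4, 0, -10, 0])]

/-- the degree -/
def ed : List ℤ := [770, 154, 77, -1925, 1980, 896, 1750, 2304]

/-- the three forms -/
def Q1 : List (List ℤ × List ℤ) := [([0, 0, 0, 0, 0, 0, 0, 1], [56, 56, 56, 56, 56, 0, 56, 0]),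
  ([0, 0, 0, 0, 0, 0, 1, 0], [56, 4, 0, -58, -56, 28, 0, 0]), ([0, 0, 0, 0, 0, 1], [56, -28, 56, -102, 56]),
  ([0, 0, 0, 0, 1], [14, -34, -56, -68, -14]), ([0, 0, 0, 1], [1, 4]), ([0, 0, 1], [1]), ([0, 1], [-2, -4])]

/-- the second form -/
def Q2 : List (List ℤ × List ℤ) := [([0, 0, 0, 0, 0, 0, 0, 1], [11, 11, 11, 11, 11, -11, 11, 11]),
  ([0, 0, 0, 0, 0, 0, 1], [4, 4, 2, -2, -8, 2, -4]), ([0, 0, 0, 0, 0, 1], [6, -2, 11, -3, 4]),
  ([0, 0, 0, 0, 1], [0, 0, -11, -11])]

/-- the third form -/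
def Q3 : List (List ℤ × List ℤ) := [([0, 0, 0, 0, 0, 0, 0, 1], [4, 4, 4, 4, 4, 0, 4]),
  ([0, 0, 0, 0, 0, 0, 1], [0, -2, 4, 4, 0, 2]), ([0, 0, 0, 0, 0, 1], [-2, -2, 4, 2, -4]), ([0, 0, 0, 0, 1], [0, 4, -4, 4]),
  ([0, 0, 0, 1], [0, -1, 2, -6]), ([0, 0, 1], [-4, -3, 4]), ([0, 1], [2, 2])]

theorem ok_V : okV D 2 V G lv.length = true := by decide +kernel

theorem ok_L : okL G 191340032 lv = true := by decide +kernel

theorem ok_D : okD D V lv.length ed 1 = true := by decide +kernel

theorem ok_1 : okQ G 191340032 lv Q1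
    (fun xs => !(pd ed 1 (D.N * 2) 2 (fun d => decide (d % 5 = 0 ∧ d % 25 ≠ 0)) xs)) = true := by decide +kernel

theorem ok_2 : okQ G 191340032 lv Q2
    (fun xs => !(pd ed 1 (D.N * 2) 2 (fun d => decide (d % 5 ≠ 0 ∧ 1000 ≤ d)) xs)) = true := by decide +kernel

theorem ok_3 : okQ G 191340032 lv Q3
    (fun xs => !(pd ed 1 (D.N * 2) 2 (fun d => decide (d % 5 ≠ 0 ∧ d < 1000)) xs)) = true := by decide +kernel

theorem main : Cov XP 2 5 Spor.HS ∧ Cov XT 2 5 Spor.HS := by
  have := finite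
  have := Fact.mk Nat.prime_five
  obtain ⟨T, hm, hs⟩ := seeded
  have hV : ∀ v ∈ V, Virt T (nth v) := fun v hv => by
    obtain ⟨c, -, rfl⟩ := List.mem_map.1 hv
    exact Virt.comb (Sm1.virt_okC hm.1 hs ok_A) c
  have h2 : Reg 5 2 Spor.HS := C2.reg_of_tab hm (tab hm hs).2 (d := 1) (by decide +kernel)
  refine ⟨fun K _ _ σ M B E H hc => ?_, fun K _ _ σ M B E H hc => ?_⟩
  · obtain ⟨χ, h3, h4⟩ := fd H hc hm hV ok_V ok_L ok_D one_pos ok_1
    rw [decide_eq_true_eq] at h4
    refine H.not_XP_crit (h2.mono (by norm_num)) h2 χ h3 (Nat.dvd_of_mod_eq_zero h4.1) ?_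
    have h5 := mt (Nat.prime_five.pow_dvd_iff_le_factorization (k := 2) (Blocks.Basic.charDegree_pos χ.2).ne').2
      fun h => h4.2 (Nat.mod_eq_zero_of_dvd h)
    have h6 := (Nat.prime_five.pow_dvd_iff_le_factorization (k := 3) Nat.card_pos.ne').1 H.cube
    omega
  · obtain ⟨χ, h3, h4⟩ := fd H hc hm hV ok_V ok_L ok_D one_pos ok_2
    obtain ⟨ψ, h5, h6⟩ := fd H hc hm hV ok_V ok_L ok_D one_pos ok_3
    rw [decide_eq_true_eq] at h4 h6
    exact H.not_XT_crit (h2.mono (by norm_num)) χ ψ h3 h5 (by omega) (by omega) (by omega)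

end Cfsg.Agent.BZ.C5.HS

namespace Cfsg.Agent.BZ.C5

open Cfsg

/-- **`2.HS`, `p = 5`** -/
theorem hs_2_5 : ∀ (S : Type) [Group S] [Finite S], Spor.IsoHS S → Cov XP 2 5 S :=
  fun _ _ _ h => h.elim fun e => Cov.of_equiv e HS.main.1

theorem hs_2_5T : ∀ (S : Type) [Group S] [Finite S], Spor.IsoHS S → Cov XT 2 5 S :=
  fun _ _ _ h => h.elim fun e => Cov.of_equiv e HS.main.2

end Cfsg.Agent.BZ.C5
end

-- part: BZ/C5/Ru
section
/-!
# BZ, the cover `2.Ru` at the primes `3` and `5` (helper53)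

The products of the character of degree `28` with the virtual characters of `Ru`.
-/

set_option autoImplicit false
set_option linter.unusedSectionVars false
set_option maxRecDepth 100000

namespace Cfsg.Agent.BZ.C5.Ru

open Cfsg Subgroup Finset Cfsg.Agent.TAB Cfsg.Agent.TAB.Eng Cfsg.Agent.TAB.Use Cfsg.Agent.BZ.T Cfsg.Agent.TAB.Ru
open Cfsg.Agent.Characters.Core Cfsg.Agent.Characters.Brauer Cfsg.Agent.H447.CTab
open Cfsg.Agent.SporadicB.RuOrder (H card_H)
open Cfsg.Agent.H300.Ru (va gc0 gc1 gc2 gc5)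
open Cfsg.Agent.H289.Eight.RuDeg (chi q chi_one center_eq)
open scoped ComplexConjugate

section gen

variable {K : Type} [Group K] [Fintype K] [Fintype (IrrCharacter K)] {θ : K → ℂ}

theorem deg_sum (h : IsGeneralizedCharacter K θ) {d : ℤ} (hd : θ 1 = d) :
    d = ∑ χ : IrrCharacter K, mu h χ * charDegree (χ : K → ℂ) := by
  have h1 := apply_mu h 1
  simp only [fun χ : IrrCharacter K => Blocks.Basic.irr_one_eq_charDegree χ.2] at h1
  exact_mod_cast hd.symm.trans h1

/-- the second constituent of a virtual character of norm two -/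
theorem peel (h : IsGeneralizedCharacter K θ) (h2 : classInner θ θ = (2 : ℤ)) {d : ℤ} (hd : θ 1 = d) {χ : IrrCharacter K}
    (hχ : mu h χ ≠ 0) : (mu h χ = 1 ∨ mu h χ = -1) ∧ ∃ ψ : IrrCharacter K, mu h ψ ≠ 0 ∧
      (d - mu h χ * charDegree (χ : K → ℂ)).natAbs = charDegree (ψ : K → ℂ) := by
  classical
  obtain ⟨i, j, hij, hi, hj, h0⟩ := two_of_sum_sq (m := mu h) (by exact_mod_cast (inner_sum_mu h h).symm.trans h2)
  have h1 := deg_sum h hd
  rw [← sum_subset (subset_univ {i, j}) (fun l _ hl => by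
    simp only [mem_insert, mem_singleton, not_or] at hl
    rw [h0 l hl.1 hl.2, zero_mul]), sum_pair hij] at h1
  by_cases e : χ = i
  · subst e
    refine ⟨hi, j, by omega, ?_⟩
    rcases hj with hj | hj <;> rw [h1, hj] <;> simp only [_root_.one_mul, _root_.add_sub_cancel_left, _root_.Int.natAbs_natCast, _root_.Int.reduceNeg, _root_.neg_mul, _root_.Int.natAbs_neg]
  · obtain rfl : χ = j := by_contra fun e' => hχ (h0 χ e e')
    refine ⟨hj, i, by omega, ?_⟩
    rcases hi with hi | hi <;> rw [h1, hi] <;> simp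

theorem ne_of_neg (h : IsGeneralizedCharacter K θ) {z : K} (hz : z ∈ center K) (hn : ∀ g, θ (g * z) = -θ g)
    {χ : IrrCharacter K} (hχ : mu h χ ≠ 0) : (χ : K → ℂ) z ≠ (χ : K → ℂ) 1 := fun e => hχ (by
  have h1 : classInner θ (χ : K → ℂ) = -classInner θ (χ : K → ℂ) := by
    rw [classInner_def, ← mul_neg, ← sum_neg_distrib, ← Equiv.sum_comp (Equiv.mulRight z)]
    refine congrArg _ (sum_congr rfl fun g _ => ?_)
    rw [Equiv.coe_mulRight, hn, cen_mul χ.2 hz, e, div_self (isIrr_apply_one_ne_zero χ.2), one_mul, neg_mul]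
  rw [inner_mu h] at h1
  have h2 : mu h χ = -mu h χ := by exact_mod_cast h1
  omega)

end gen

theorem rows_virt : ∀ r ∈ rows, Virt T (nth r) := by
  have := finH
  have hs : ∀ v ∈ seeds, Virt T (nth v) := List.forall_mem_cons.2 ⟨virt_gc gc1, List.forall_mem_cons.2 ⟨virt_gc gc2,
    List.forall_mem_cons.2 ⟨virt_gc gc5, List.forall_mem_singleton.2
      (ON.virt_coad (k := 2) mass rat (virt_gc gc0) (by decide +kernel))⟩⟩⟩
  have h1 := Sm1.virt_five mass rfl hs 1 [1, 9, 14, 17, 18] (by decide) (by decide +kernel) ok_A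
  exact Sm1.virt_okC mass.1 (List.forall_mem_append.2 ⟨hs, List.forall_mem_singleton.2 h1⟩) ok_B

theorem tabH : Tab T RR := by
  have := finH
  refine Sm1.tab_of_cls mass (fun r hr => rows_virt _ (List.of_mem_zip hr).2) ok_R ?_
  have h := Nat.card_le_card_of_injective (fun j : Fin 36 => ConjClasses.mk (H300.Ru.R j))
    fun i j h => H300.Ru.nonconj i j (ConjClasses.mk_eq_mk_iff_isConj.1 h)
  rwa [Nat.card_eq_fintype_card, Fintype.card_fin] at h

theorem ty_one : T.ty 1 = 0 :=
  (by decide +kernel : ∀ i < D.n, D.ord i = 1 → i = 0) _ (T.lt 1) ((T.ord 1).symm.trans orderOf_one)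

/-- the character of degree `28` -/
structure Psi {K : Type} [Group K] (σ : K →* H) (z : K) (ψ : K → ℂ) : Prop where
  ch : IsCharacter K ψ
  one : ψ 1 = 28
  cen : z ∈ center K
  ker : σ z = 1
  neg : ∀ g, ψ (g * z) = -ψ g
  sq : ∀ g, ψ g * conj (ψ g) = ((1 + nth va (T.ty (σ g)) : ℤ) : ℂ)

variable {K : Type} [Group K] [Finite K] {σ : K →* H} {z : K} {ψ : K → ℂ} {p : ℕ} [hp : Fact p.Prime] {M : Ideal AlgInt}
  {B : Set (IrrCharacter K)} {E : Subgroup K}

theorem exists_psi (A : Hyp p M B E σ) (hc : Nat.card (center K) = 2) : ∃ z ψ, Psi σ z ψ := by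
  have := Fact.mk Nat.prime_two
  obtain ⟨φ, h1, h2⟩ := H300.RIM.exists_phi σ A.surj A.ker.le A.qs.1.commutator_eq_top (A.ker ▸ hc)
  obtain ⟨z, hz⟩ := exists_prime_orderOf_dvd_card' (G := center K) 2 hc.symm.dvd
  rw [← orderOf_coe] at hz
  have h3 : σ z = 1 := A.ker.ge z.2
  obtain ⟨e, he⟩ := center_eq (z := φ z) (by rw [← H300.RIM.ker_q, MonoidHom.mem_ker, h2, h3])
  have h4 : ∀ g, chi (φ (g * z)) = Complex.I ^ e * chi (φ g) := fun g => by
    rw [mem_center_iff.1 z.2 g, map_mul, he, H300.RIM.chi_scalar]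
  have h5 : Complex.I ^ e = -1 := by
    have h6 := h4 z
    rw [← pow_two, ← hz, pow_orderOf_eq_one, ← one_mul (z : K), h4, map_one, chi_one, ← mul_assoc] at h6
    refine (mul_self_eq_one_iff.1 (mul_right_cancel₀ (by norm_num) (h6.symm.trans (one_mul _).symm))).resolve_left
      fun h7 => ?_
    obtain ⟨m, rfl⟩ := (Complex.isPrimitiveRoot_I.pow_eq_one_iff_dvd e).1 h7
    rw [pow_mul, H300.RIM.iz_pow_four, one_pow, ← map_one φ] at he
    rw [h1 he, orderOf_one] at hz
    exact absurd hz (by norm_num)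
  refine ⟨z, chi ∘ φ, isCharacter_comp φ (isCharacter_of_rep _), ?_, z.2, h3, fun g => ?_, fun g => ?_⟩
  · rw [Function.comp_apply, map_one, chi_one, Nat.cast_ofNat]
  · rw [Function.comp_apply, h4, h5, neg_one_mul, Function.comp_apply]
  · rw [Function.comp_apply, H300.RIM.chi_sq, h2, nth_eq]
    rfl

/-- the product -/
noncomputable def tw (σ : K →* H) (ψ : K → ℂ) (c : List (ℤ × ℕ)) : K → ℂ :=
  ψ * fun g => (nth (comb rows c) (T.ty (σ g)) : ℂ)

/-- the inner product -/
noncomputable def nrm (c c' : List (ℤ × ℕ)) : ℤ := ipF D (fun t => (1 + nth va t) * nth (comb rows c) t) (nth (comb rows c'))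

theorem Psi.gen (L : Psi σ z ψ) (c : List (ℤ × ℕ)) : IsGeneralizedCharacter K (tw σ ψ c) :=
  isGeneralizedCharacter_mul (isGeneralizedCharacter_of_isCharacter L.ch)
    (H651.isGeneralizedCharacter_comp_hom σ (Virt.comb rows_virt c))

theorem Psi.deg (L : Psi σ z ψ) {c : List (ℤ × ℕ)} {d : ℤ} (hd : 28 * nth (comb rows c) 0 = d) : tw σ ψ c 1 = d := by
  rw [tw, Pi.mul_apply, map_one, ty_one, L.one, ← hd, Int.cast_mul, Int.cast_ofNat]

theorem Psi.inner [Fintype K] (L : Psi σ z ψ) (hs : Function.Surjective σ) {c c' : List (ℤ × ℕ)} {n : ℤ}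
    (h : nrm c c' = D.N * n) : classInner (tw σ ψ c) (tw σ ψ c') = n := by
  have := finH
  have := Fintype.ofFinite H
  rw [← inner_of_ipF mass h, ← H829.GowDesc.classInner_comp_surj σ hs, classInner_def, classInner_def]
  refine congrArg _ (sum_congr rfl fun g _ => ?_)
  simp only [tw, Pi.mul_apply, Function.comp_apply, map_mul, Int.cast_mul, ← L.sq]
  ring

theorem Psi.faith [Fintype K] (L : Psi σ z ψ) (hc : Nat.card (center K) = 2) {c : List (ℤ × ℕ)} {χ : IrrCharacter K}
    (h : mu (L.gen c) χ ≠ 0) : ∀ y ∈ center K, (χ : K → ℂ) y = (χ : K → ℂ) 1 → y = 1 := by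
  have := finite_irr (G := K)
  have := Fintype.ofFinite (IrrCharacter K)
  refine faith_of_prime Nat.prime_two hc L.cen (ne_of_neg _ L.cen (fun g => ?_) h)
  rw [tw, Pi.mul_apply, Pi.mul_apply, L.neg, map_mul, L.ker, mul_one, neg_mul]

/-- the products of norm one -/
theorem Psi.irr (L : Psi σ z ψ) (hs : Function.Surjective σ) (hc : Nat.card (center K) = 2) {c : List (ℤ × ℕ)} {d : ℕ}
    (h : nrm c c = D.N * 1) (hd : 28 * nth (comb rows c) 0 = d) :
    ∃ χ : IrrCharacter K, (∀ y ∈ center K, (χ : K → ℂ) y = (χ : K → ℂ) 1 → y = 1) ∧ charDegree (χ : K → ℂ) = d := by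
  have := Fintype.ofFinite K
  have h1 := (L.inner hs h).trans Int.cast_one
  have h2 := (L.deg hd).trans (Int.cast_natCast d)
  have h3 := H164.M23.Theta.irr_of_gen (L.gen c) h1 h2
  refine ⟨⟨_, h3⟩, L.faith hc (c := c) fun e => ?_, ?_⟩
  · have h4 := inner_mu (L.gen c) ⟨_, h3⟩
    rw [e, Int.cast_zero] at h4
    exact one_ne_zero (h1.symm.trans h4)
  · exact_mod_cast (Blocks.Basic.irr_one_eq_charDegree h3).symm.trans h2

theorem deg_dvd (A : Hyp p M B E σ) (hc : Nat.card (center K) = 2) (χ : IrrCharacter K) :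
    charDegree (χ : K → ℂ) ∣ 291852288000 := by
  have h := H669.Basic.charDegree_dvd_card χ.2
  rwa [A.card_eq, card_H, hc] at h

/-- the test -/
def tst (c n : ℕ) : Bool := ([1, -1] : List ℤ).all fun s => 291852288000 % (137256 - s * n).natAbs != 0 ||
  291852288000 % (102312 - s * n).natAbs != 0 || c == 1 || (137256 - s * n).natAbs == 98280

theorem enum : ∀ a < 16, ∀ b < 4, ∀ c < 4, ∀ d < 2, ∀ e < 2, ∀ f < 2,
    tst c (2 ^ a * (3 ^ b * (5 ^ c * (7 ^ d * (13 ^ e * 29 ^ f))))) = true := by (delta Cfsg.Agent.BZ.C5.Ru.tst; set_option synthInstance.maxSize 100000 in exact Cfsg.Agent.Lib.Refl.of (by decide +kernel))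

theorem enum' {n : ℕ} (hn : n ∣ 291852288000) {s : ℤ} (hs : s = 1 ∨ s = -1) (h1 : (137256 - s * n).natAbs ∣ 291852288000)
    (h2 : (102312 - s * n).natAbs ∣ 291852288000) : n.factorization 5 = 1 ∨ (137256 - s * n).natAbs = 98280 := by
  rw [show 291852288000 = 2 ^ 15 * (3 ^ 3 * (5 ^ 3 * (7 ^ 1 * (13 ^ 1 * 29 ^ 1)))) by norm_num] at hn
  simp only [dvd_mul, Nat.dvd_prime_pow Nat.prime_two, Nat.dvd_prime_pow Nat.prime_three, Nat.dvd_prime_pow Nat.prime_five,
    Nat.dvd_prime_pow (p := 7) (by norm_num), Nat.dvd_prime_pow (p := 13) (by norm_num),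
    Nat.dvd_prime_pow (p := 29) (by norm_num)] at hn
  obtain ⟨_, _, ⟨a, ha, rfl⟩, ⟨_, _, ⟨b, hb, rfl⟩, ⟨_, _, ⟨c, hc, rfl⟩, ⟨_, _, ⟨d, hd, rfl⟩,
    ⟨_, _, ⟨e, he, rfl⟩, ⟨f, hf, rfl⟩, rfl⟩, rfl⟩, rfl⟩, rfl⟩, rfl⟩ := hn
  have h0 := List.all_eq_true.1 (enum a (by omega) b (by omega) c (by omega) d (by omega) e (by omega) f (by omega)) s
    (by simpa using hs)
  simp only [Nat.mod_eq_zero_of_dvd h1, Nat.mod_eq_zero_of_dvd h2, bne_self_eq_false, Bool.false_or, Bool.or_eq_true,
    beq_iff_eq] at h0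
  refine h0.imp_left ?_
  rintro rfl
  have h3 : ∀ r : ℕ, r.Prime → r ≠ 5 → r.factorization 5 = 0 := fun r h h' => by
    rw [h.factorization, Finsupp.single_eq_of_ne h'.symm]
  simp only [Nat.factorization_mul, h3 2 (by norm_num), h3 3 (by norm_num), h3 7 (by norm_num), h3 13 (by norm_num),
    h3 29 (by norm_num), Nat.prime_five.factorization_self, _root_.pow_one, _root_.ne_eq, _root_.Nat.pow_eq_zero, _root_.OfNat.ofNat_ne_zero, _root_.false_and, _root_.not_false_eq_true, _root_.mul_eq_zero, _root_.or_self, _root_.Nat.factorization_pow, _root_.Finsupp.coe_add, _root_.Finsupp.coe_smul, _root_.nsmul_eq_mul, _root_.Pi.add_apply, _root_.Pi.mul_apply, _root_.Pi.natCast_apply, _root_.Nat.cast_id, _root_.Nat.reduceEqDiff, _root_.MulZeroClass.mul_zero, _root_.add_zero, _root_.zero_add]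

theorem x3 : Cov XP 2 3 H := fun K _ _ σ M B E A hc => by
  have := Fact.mk Nat.prime_three
  have := finH
  have h2 : Reg 3 2 H := C2.reg_of_tab mass tabH (d := 1) (by (set_option synthInstance.maxSize 100000 in exact Cfsg.Agent.Lib.Refl.of (by decide +kernel)))
  obtain ⟨z, ψ, L⟩ := exists_psi A hc
  obtain ⟨χ, h3, h4⟩ := L.irr A.surj hc (c := [(-1, 3), (1, 5), (-1, 6), (-1, 10), (-1, 13), (-1, 14), (1, 16), (1, 19),
    (-1, 21), (1, 25), (-1, 26)]) (d := 34944) (by decide +kernel) (by decide +kernel)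
  refine A.not_XP_crit (h2.mono (by norm_num)) h2 χ h3 (by rw [h4]; norm_num) ?_
  rw [h4, card_H]
  decide +kernel

theorem reg5 : Reg 5 2 H :=
  have := Fact.mk Nat.prime_five
  have := finH
  C2.reg_of_tab mass tabH (d := 1) (by decide +kernel)

theorem x5 : Cov XP 2 5 H := fun K _ _ σ M B E A hc => by
  have := Fact.mk Nat.prime_five
  have := Fintype.ofFinite K
  have := finite_irr (G := K)
  have := Fintype.ofFinite (IrrCharacter K)
  obtain ⟨z, ψ, L⟩ := exists_psi A hc
  have key : ∀ χ : IrrCharacter K, mu (L.gen [(-1, 8), (-1, 14), (-1, 15), (1, 16), (1, 19)]) χ ≠ 0 →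
      (charDegree (χ : K → ℂ)).factorization 5 = 1 → ¬ XP 5 K B := fun χ h1 h2 =>
    A.not_XP_crit (reg5.mono (by norm_num)) reg5 χ (L.faith hc h1) (Nat.dvd_of_factorization_pos (by omega))
      (by rw [h2, card_H]; decide +kernel)
  have h1 := (inner_sum_mu (L.gen _) (L.gen _)).symm.trans (L.inner A.surj
    (c := [(-1, 8), (-1, 14), (-1, 15), (1, 16), (1, 19)]) (c' := [(1, 4)]) (n := 1) (by decide +kernel))
  obtain ⟨χ, -, h2⟩ := exists_lt_of_sum_lt (s := univ) (f := fun _ => 0)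
    (sum_const_zero.trans_lt (one_pos.trans_eq (Int.cast_injective h1).symm))
  obtain ⟨h3, χ₁, h4, h5⟩ := peel (L.gen [(-1, 8), (-1, 14), (-1, 15), (1, 16), (1, 19)])
    (L.inner A.surj (by decide +kernel)) (L.deg (d := 137256) (by decide +kernel)) (left_ne_zero_of_mul h2.ne')
  obtain ⟨h6, χ₂, -, h7⟩ := peel (L.gen [(1, 4)]) (L.inner A.surj (by decide +kernel))
    (L.deg (d := 102312) (by decide +kernel)) (right_ne_zero_of_mul h2.ne')
  have h8 : mu (L.gen [(1, 4)]) χ = mu (L.gen [(-1, 8), (-1, 14), (-1, 15), (1, 16), (1, 19)]) χ := by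
    rcases h3 with h3 | h3 <;> rcases h6 with h6 | h6 <;> rw [h3, h6] at h2 ⊢ <;> omega
  rw [h8] at h7
  rcases enum' (deg_dvd A hc χ) h3 (h5 ▸ deg_dvd A hc χ₁) (h7 ▸ deg_dvd A hc χ₂) with h9 | h9
  · exact key χ (left_ne_zero_of_mul h2.ne') h9
  · exact key χ₁ h4 (by rw [← h5, h9]; decide +kernel)

/-- two faithful characters of different degrees prime to `p` -/
theorem xt (h35 : p = 3 ∨ p = 5) (hR : Reg p 3 H) : Cov XT 2 p H := fun K _ _ σ M B E A hc => by
  have := Fact.mk Nat.prime_two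
  have := finH
  have := Fintype.ofFinite H
  have := Fintype.ofFinite K
  have := finite_irr (G := K)
  have := Fintype.ofFinite (IrrCharacter K)
  obtain ⟨z, ψ, L⟩ := exists_psi A hc
  obtain ⟨χ₀, h1, h2⟩ := L.irr A.surj hc (c := [(1, 0)]) (d := 28) (by decide +kernel) (by decide +kernel)
  obtain ⟨ν, hν⟩ := C1.exists_nu A Nat.prime_two hc
  obtain ⟨Φ, h3, h4⟩ := Comp.exists_up (C1.ext A hc) ν (Virt.comb rows_virt [(1, 21), (-1, 19)]) fun g hg => by
    rw [(by decide +kernel : ∀ t < D.n, D.ord t % 2 = 0 → nth (comb rows [(1, 21), (-1, 19)]) t = 0) _ (T.lt g)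
      (by rw [← T.ord]; omega), Int.cast_zero]
  have h5 : Φ 1 = (16384 : ℤ) := by
    have h6 := h4.reg 1 1 Comp.reg_one
    rw [OneMemClass.coe_one, one_mul, map_one, map_one, Units.val_one, one_mul, ty_one] at h6
    exact h6.trans (congrArg _ (by decide +kernel))
  obtain ⟨χ, h6, h7⟩ : ∃ χ : IrrCharacter K, mu h3 χ ≠ 0 ∧ ¬ p ∣ charDegree (χ : K → ℂ) := by
    by_contra! h6
    have h7 : (p : ℤ) ∣ 16384 := deg_sum h3 h5 ▸ dvd_sum fun χ _ => by
      by_cases e : mu h3 χ = 0
      · rw [e, zero_mul]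
        exact dvd_zero _
      · exact (Int.natCast_dvd_natCast.2 (h6 χ e)).mul_left _
    rcases h35 with rfl | rfl <;> omega
  refine A.not_XT_crit hR χ χ₀ (hν χ (h4.ov (C1.ext A hc) χ.2 (by rw [inner_mu h3]; exact_mod_cast h6))) h1 h7
    (by rcases h35 with rfl | rfl <;> omega) fun e => ?_
  obtain ⟨h8, χ₁, -, h9⟩ := peel h3 ((h4.inner (C1.ext A hc) h4).trans
    (inner_of_ip mass rfl (z := 2) (by decide +kernel))) h5 h6
  have h10 := deg_dvd A hc χ₁
  rw [← h9, e, h2] at h10
  rcases h8 with h8 | h8 <;> rw [h8] at h10 <;> revert h10 <;> decide +kernel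

end Cfsg.Agent.BZ.C5.Ru

namespace Cfsg.Agent.BZ.C5

open Cfsg

/-- **`2.Ru`, `p = 3`** -/
theorem ru_2_3 : ∀ (S : Type) [Group S] [Finite S], Spor.IsoRu S → Cov XP 2 3 S :=
  fun _ _ _ h => h.elim fun e => Cov.of_equiv (e.trans RuLat.Main.equiv) Ru.x3

/-- **`2.Ru`, `p = 5`** -/
theorem ru_2_5 : ∀ (S : Type) [Group S] [Finite S], Spor.IsoRu S → Cov XP 2 5 S :=
  fun _ _ _ h => h.elim fun e => Cov.of_equiv (e.trans RuLat.Main.equiv) Ru.x5

theorem ru_2_3T : ∀ (S : Type) [Group S] [Finite S], Spor.IsoRu S → Cov XT 2 3 S :=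
  have := Fact.mk Nat.prime_three
  have := TAB.Ru.finH
  fun _ _ _ h => h.elim fun e => Cov.of_equiv (e.trans RuLat.Main.equiv)
    (Ru.xt (Or.inl rfl) (C2.reg_of_tab TAB.Ru.mass Ru.tabH (d := 2) (by decide +kernel)))

theorem ru_2_5T : ∀ (S : Type) [Group S] [Finite S], Spor.IsoRu S → Cov XT 2 5 S :=
  have := Fact.mk Nat.prime_five
  fun _ _ _ h => h.elim fun e => Cov.of_equiv (e.trans RuLat.Main.equiv)
    (Ru.xt (Or.inr rfl) (Ru.reg5.mono (by norm_num)))

end Cfsg.Agent.BZ.C5
end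

private theorem dce_579b22802b1d : _root_.True := by
  try have : _root_.True := by simp only [_root_.Cfsg.Agent.BZ.C3.Qf.eq_1]
  try have : _root_.True := by simp only [_root_.Cfsg.Agent.BZ.C5.Ru.tw.eq_1]
  exact _root_.True.intro
end

-- part: BZ/X/O73
section
prune_inst 0x4010000
set_option linter.all false
open scoped Cfsg.Agent.FastGrp

/-!
# BZ, the cover `3.Ω₇(3)` at the prime two (helper25)

The `378` blocks of the `1134` points are the lines spanned by the vectors of norm one.  The character which is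
induced from the product of the shift and the sign is irreducible: `fd378`, `dg378`, `o73`.
-/

set_option autoImplicit false
set_option maxRecDepth 100000
set_option synthInstance.maxSize 4000
set_option linter.unusedSectionVars false

namespace Cfsg.Agent.BZ.X.O7

open Cfsg Subgroup Matrix Cfsg.Agent.BZ.T Cfsg.Agent.BZ.C2 Cfsg.Agent.MK.C3L.O Cfsg.Agent.H51.Mult
open Cfsg.Agent.H64.O73Perm hiding ev_eq_one
open Cfsg.Agent.Fischer.Derived Cfsg.Agent.Fischer.O73 Cfsg.Agent.Fischer.Y322 Cfsg.Agent.Fischer.Y322Iso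

/-- the vectors -/
def vt : ℕ := 0x155606a912a909a915a921a92456185600561a690669119606961a96116928692896006919162916091616161929061620292016002905661966129926660599126628992866009905a6165911a629590aa622a61859245900592a191a190a191a2615190a261026202600262546294621461646258921890889084600462a4926492249268615492286048608860086140618090406240914090409100610090009055a295a115a165a05a511a5245a24a5005a0a652665219a19650565129a28651465009a2a25251a0a251a1a2a1a0a1a2025102500251a95096a116a066a1a6a1195146a286a009515aa0655125506aa155512aa24aa245500aa2615292a0615291519150915102a1015002a154a26852285264a2a4a224a08850485004a1a45298a218a294525452145084504450045140a240a040a2405280a0405100a200a0005255226a1015226521a5202522452185200522a612992019229612a92016128612892006122211221022121212212012120212012002115622962029129912a62019114622862009125a2265101a226a22551015124a2245100a21122121101221222222202221022101100220a810942014209810a4201810881084200420a410641024106820a820282084104410041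150225020502260129020601220121020201160219010602250115010501120211010101140218010402240128020401100220020001155809582158265825a401a4045814a410582598066422642964156402980864189820982624291809181218112401242824241804180a941968129416682a68019424680868209405a829a811a826a8255402a828540454105415281a140a141228111402282414282808281a841684128406480a48024828842484208415881988118809440544014418442888208829042608060825042a08050421042208010425600960229019900a6021902460086020902a500650125016a00550115028500450105026102920092025102a2005102410282008201a402980124019402a801140184028801040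

/-- the ranks -/
def rt : ℕ := 0x80504050a06020c030c0a05040b0a030f06060b0c04050a0207080407040b06060d03070b0d050c05080e0406050c0d05060906070605030c07070104060e06040d09090d07050c0308070506070f0d03040e05080605060c05050d090c0b04050f06050409050a0f0605080d05070709050b05010c04090a0b0410040606030a06090e02050806080204060f0402100a080e03050e05070c0504090306070f0b03070906070906091208060e08061008080e060709010707030907030a04080806061306080f05060f070a0d070607070305090307050507070f05070f07090d0707090909090505120808000608020e0a080608020608021008080806020804040e130a080c07060e030406070a0d06050e060507070d0c1004050805040b0b09030d07030703070c0b020d06060804090c0b1104050804030a06041002040d08060205031105070e0808040304090506070e0d0f0e06040e08020108040d05020f0502000704050608070607070800010107030109030309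

/-- the vector of a block -/
def vv (b : ℕ) : V7 :=
  ⟨(vt >>> (16 * b) % 4 : ℕ), (vt >>> (16 * b + 2) % 4 : ℕ), (vt >>> (16 * b + 4) % 4 : ℕ), (vt >>> (16 * b + 6) % 4 : ℕ),
    (vt >>> (16 * b + 8) % 4 : ℕ), (vt >>> (16 * b + 10) % 4 : ℕ), (vt >>> (16 * b + 12) % 4 : ℕ)⟩

/-- the rank of a block -/
def rk (b : ℕ) : ℕ := rt >>> (8 * b) % 256

/-- the negative -/
def ng (v : V7) : V7 := ⟨-v.a, -v.b, -v.c, -v.d, -v.e, -v.f, -v.g⟩

theorem ng_toFun (v : V7) : (ng v).toFun = -v.toFun := by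
  funext i
  rcases i with ⟨⟩ | i | i
  · rfl
  · fin_cases i <;> rfl
  · fin_cases i <;> rfl

theorem toFun_inj {v w : V7} (h : v.toFun = w.toFun) : v = w := congrArg ofFun h

private noncomputable def _root_.Cfsg.Agent.LsF.ff520ef_0 : {f // @Cfsg.Agent.BZ.X.O7.vv = f} := ⟨_, by first | (delta Cfsg.Agent.BZ.X.O7.vv; rewrite [Cfsg.Agent.LsF.nadd_pat, Cfsg.Agent.LsF.nmul_pat, Cfsg.Agent.LsF.nmod_pat, Cfsg.Agent.LsF.nshr_pat, Cfsg.Agent.LsF.zcast_pat]; exact rfl) | exact rfl⟩
private noncomputable def _root_.Cfsg.Agent.LsF.ff520ef_1 : {f // @Cfsg.Agent.BZ.X.O7.ng = f} := ⟨_, by first | (delta Cfsg.Agent.BZ.X.O7.ng; rewrite [Cfsg.Agent.LsF.zneg_pat]; exact rfl) | exact rfl⟩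
private noncomputable def _root_.Cfsg.Agent.LsF.ff520ef_2 : {f // @Cfsg.Agent.Fischer.O73.instDecidableEqV7.decEq = f} := ⟨_, by first | (delta Cfsg.Agent.Fischer.O73.instDecidableEqV7.decEq; rewrite [Cfsg.Agent.LsF.zdecEq_eq, Cfsg.Agent.LsF.dite_eq]; (try delta Cfsg.Agent.Fischer.O73.instDecidableEqV7.decEq.match_1); (try delta Cfsg.Agent.Fischer.O73.V7.casesOn); exact rfl) | exact rfl⟩
private noncomputable def _root_.Cfsg.Agent.LsF.ff520ef_3 : {f // @Cfsg.Agent.Fischer.O73.instDecidableEqV7 = f} := ⟨_, by first | (delta Cfsg.Agent.Fischer.O73.instDecidableEqV7; rewrite [Cfsg.Agent.LsF.ff520ef_2.2]; exact rfl) | exact rfl⟩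
theorem vv_ne : ∀ b < 378, vv b ≠ ng (vv b) := by (refine of_decide_eq_true ?_; (try (rewrite [Cfsg.Agent.LsF.ff520ef_0.2, Cfsg.Agent.LsF.ff520ef_1.2, Cfsg.Agent.LsF.ff520ef_3.2, Cfsg.Agent.LsF.dNot_eq, Cfsg.Agent.LsF.dBallLT_eq, Cfsg.Agent.LsF.decide_eq])); decide +kernel)

private noncomputable def _root_.Cfsg.Agent.KO30fd106.k0 : type_of% @Decidable.decide := @(fun x0 x1 => @Decidable.rec.{1} _ @(fun x2 => @Bool) @(fun x2 => @Bool.false) @(fun x2 => @Bool.true) @x1)
private theorem _root_.Cfsg.Agent.KO30fd106.e0 : @Decidable.decide = @_root_.Cfsg.Agent.KO30fd106.k0 := by delta _root_.Cfsg.Agent.KO30fd106.k0; rfl'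
private noncomputable def _root_.Cfsg.Agent.KO30fd106.k1l (n : Nat) (P : ∀ k, k < n → Prop) (H : ∀ k h, Decidable (P k h)) (m : Nat) : m ≤ n → Bool := @Nat.rec (fun m => m ≤ n → Bool) (fun _ => true) (fun k ih h => @Decidable.rec (P k h) (fun _ => Bool) (fun _ => false) (fun _ => ih (Nat.le_of_succ_le h)) (H k h)) m
private theorem _root_.Cfsg.Agent.KO30fd106.k1ls (n : Nat) (P : ∀ k, k < n → Prop) (H : ∀ k h, Decidable (P k h)) (m : Nat) : ∀ h : m ≤ n, _root_.Cfsg.Agent.KO30fd106.k1l n P H m h = true ↔ ∀ k (g : k < m), P k (Nat.lt_of_lt_of_le g h) := by induction m with | zero => exact fun _ => ⟨fun _ _ g => absurd g (Nat.not_lt_zero _), fun _ => rfl⟩ | succ m ih => intro h; show @Decidable.rec (P m h) (fun _ => Bool) (fun _ => false) (fun _ => _root_.Cfsg.Agent.KO30fd106.k1l n P H m (Nat.le_of_succ_le h)) (H m h) = true ↔ _; cases H m h with | isFalse q => exact ⟨fun g => absurd g Bool.false_ne_true, fun g => absurd (g m (Nat.lt_succ_self m)) q⟩ | isTrue q =>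 exact ⟨fun g k hk => (Nat.lt_succ_iff_lt_or_eq.1 hk).elim ((ih _).1 g k) fun e => by subst e; exact q, fun g => (ih _).2 fun k hk => g k (Nat.lt_succ_of_lt hk)⟩
private noncomputable def _root_.Cfsg.Agent.KO30fd106.k1 (n : Nat) (P : ∀ k, k < n → Prop) (H : ∀ k h, Decidable (P k h)) : Decidable (∀ k h, P k h) := @Bool.rec (fun b => _root_.Cfsg.Agent.KO30fd106.k1l n P H n (Nat.le_refl n) = b → Decidable (∀ k h, P k h)) (fun g => isFalse fun q => Bool.false_ne_true (g.symm.trans ((_root_.Cfsg.Agent.KO30fd106.k1ls n P H n _).2 fun k h => q k h))) (fun g => isTrue fun k h => (_root_.Cfsg.Agent.KO30fd106.k1ls n P H n _).1 g k h) (_root_.Cfsg.Agent.KO30fd106.k1l n P H n (Nat.le_refl n)) rfl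
private theorem _root_.Cfsg.Agent.KO30fd106.e1 : @Nat.decidableBallLT = @_root_.Cfsg.Agent.KO30fd106.k1 := funext fun _ => funext fun _ => funext fun _ => Subsingleton.elim _ _
private noncomputable def _root_.Cfsg.Agent.KO30fd106.k3 : (by first | exact type_of% @Cfsg.Agent.BZ.X.O7.vv | exact Unit : Sort _) := by first | (refine @Subtype.val _ (fun g => @Cfsg.Agent.BZ.X.O7.vv = @g) (@Subtype.mk _ _ (@(fun x0 => @Cfsg.Agent.Fischer.O73.V7.mk (@Nat.rec.{1} @(fun x1 => ℕ → @ZMod @x1) @(fun x1 => @Int.ofNat @x1) @(fun x1 x2 x3 => @Fin.mk _ (@Nat.mod @x3 (@Nat.succ @x1)) (@Fin.ofNat._proof_1 (@Nat.succ @x1) _ @x3)) (nat_lit 3) (@Nat.mod (@Nat.shiftRight @Cfsg.Agent.BZ.X.O7.vt (@Nat.mul (nat_lit 16) @x0)) (nat_lit 4))) (@Nat.rec.{1} @(fun x1 => ℕ → @ZMod @x1) @(fun x1 => @Int.ofNat @x1) @(fun x1 x2 x3 => @Fin.mk _ (@Nat.mod @x3 (@Nat.succ @x1)) (@Fin.ofNat._proof_1 (@Nat.succ @x1) _ @x3)) (nat_lit 3) (@Nat.mod (@Nat.shiftRight @Cfsg.Agent.BZ.X.O7.vt (@Nat.add (@Nat.mul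 (nat_lit 16) @x0) (nat_lit 2))) (nat_lit 4))) (@Nat.rec.{1} @(fun x1 => ℕ → @ZMod @x1) @(fun x1 => @Int.ofNat @x1) @(fun x1 x2 x3 => @Fin.mk _ (@Nat.mod @x3 (@Nat.succ @x1)) (@Fin.ofNat._proof_1 (@Nat.succ @x1) _ @x3)) (nat_lit 3) (@Nat.mod (@Nat.shiftRight @Cfsg.Agent.BZ.X.O7.vt (@Nat.add (@Nat.mul (nat_lit 16) @x0) (nat_lit 4))) (nat_lit 4))) (@Nat.rec.{1} @(fun x1 => ℕ → @ZMod @x1) @(fun x1 => @Int.ofNat @x1) @(fun x1 x2 x3 => @Fin.mk _ (@Nat.mod @x3 (@Nat.succ @x1)) (@Fin.ofNat._proof_1 (@Nat.succ @x1) _ @x3)) (nat_lit 3) (@Nat.mod (@Nat.shiftRight @Cfsg.Agent.BZ.X.O7.vt (@Nat.add (@Nat.mul (nat_lit 16) @x0) (nat_lit 6))) (nat_lit 4))) (@Nat.rec.{1} @(fun x1 => ℕ → @ZMod @x1) @(fun x1 => @Int.ofNat @x1) @(fun x1 x2 x3 => @Fin.mk _ (@Nat.mod @x3 (@Nat.succ @x1)) (@Fin.ofNat._proof_1 (@Nat.succ @x1) _ @x3)) (nat_lit 3) (@Nat.mod (@Nat.shiftRight @Cfsg.Agent.BZ.X.O7.vt (@Nat.add (@Nat.mul (nat_lit 16) @x0) (nat_lit 8))) (nat_lit 4))) (@Nat.rec.{1} @(fun x1 =>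 ℕ → @ZMod @x1) @(fun x1 => @Int.ofNat @x1) @(fun x1 x2 x3 => @Fin.mk _ (@Nat.mod @x3 (@Nat.succ @x1)) (@Fin.ofNat._proof_1 (@Nat.succ @x1) _ @x3)) (nat_lit 3) (@Nat.mod (@Nat.shiftRight @Cfsg.Agent.BZ.X.O7.vt (@Nat.add (@Nat.mul (nat_lit 16) @x0) (nat_lit 10))) (nat_lit 4))) (@Nat.rec.{1} @(fun x1 => ℕ → @ZMod @x1) @(fun x1 => @Int.ofNat @x1) @(fun x1 x2 x3 => @Fin.mk _ (@Nat.mod @x3 (@Nat.succ @x1)) (@Fin.ofNat._proof_1 (@Nat.succ @x1) _ @x3)) (nat_lit 3) (@Nat.mod (@Nat.shiftRight @Cfsg.Agent.BZ.X.O7.vt (@Nat.add (@Nat.mul (nat_lit 16) @x0) (nat_lit 12))) (nat_lit 4))))) ?_); (try delta Cfsg.Agent.BZ.X.O7.vv); (try generalize @Cfsg.Agent.BZ.X.O7.vt = g0); rfl') | exact @Cfsg.Agent.BZ.X.O7.vv | exact ()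
private theorem _root_.Cfsg.Agent.KO30fd106.e3 : (by first | exact @Cfsg.Agent.BZ.X.O7.vv = @_root_.Cfsg.Agent.KO30fd106.k3 | exact True : Prop) := by first | (delta _root_.Cfsg.Agent.KO30fd106.k3; exact @Subtype.property _ (fun g => @Cfsg.Agent.BZ.X.O7.vv = @g) _) | rfl | trivial
private noncomputable def _root_.Cfsg.Agent.KO30fd106.k4 : type_of% @Int.neg := @(fun x0 => @Int.rec.{1} @(fun x1 => ℤ) @(fun x1 => @Nat.rec.{1} @(fun x2 => ℤ) (@Int.ofNat (nat_lit 0)) @(fun x2 x3 => @Int.negSucc @x2) @x1) @(fun x1 => @Int.ofNat (@Nat.succ @x1)) @x0)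
private theorem _root_.Cfsg.Agent.KO30fd106.e4 : @Int.neg = @_root_.Cfsg.Agent.KO30fd106.k4 := by delta _root_.Cfsg.Agent.KO30fd106.k4; rfl'
private noncomputable def _root_.Cfsg.Agent.KO30fd106.k5 : (by first | exact type_of% @Cfsg.Agent.BZ.X.O7.ng | exact Unit : Sort _) := by first | (refine @Subtype.val _ (fun g => @Cfsg.Agent.BZ.X.O7.ng = @g) (@Subtype.mk _ _ (@(fun x0 => @Cfsg.Agent.Fischer.O73.V7.mk (@Nat.rec.{1} @(fun x1 => (@ZMod @x1) → @ZMod @x1) @Cfsg.Agent.KO30fd106.k4 @(fun x1 x2 x3 => @Fin.mk _ (@Nat.mod (@Nat.sub (@Nat.succ @x1) (@Fin.val _ @x3)) (@Nat.succ @x1)) (@Fin.neg._proof_1 (@Nat.succ @x1) @x3)) (nat_lit 3) (@Cfsg.Agent.Fischer.O73.V7.a @x0)) (@Nat.rec.{1} @(fun x1 => (@ZMod @x1) → @ZMod @x1) @Cfsg.Agent.KO30fd106.k4 @(fun x1 x2 x3 => @Fin.mk _ (@Nat.mod (@Nat.sub (@Nat.succ @x1) (@Fin.val _ @x3)) (@Nat.succ @x1)) (@Fin.neg._proof_1 (@Nat.succ @x1) @x3)) (nat_lit 3) (@Cfsg.Agent.Fischer.O73.V7.b @x0)) (@Nat.rec.{1} @(fun x1 => (@ZMod @x1)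 → @ZMod @x1) @Cfsg.Agent.KO30fd106.k4 @(fun x1 x2 x3 => @Fin.mk _ (@Nat.mod (@Nat.sub (@Nat.succ @x1) (@Fin.val _ @x3)) (@Nat.succ @x1)) (@Fin.neg._proof_1 (@Nat.succ @x1) @x3)) (nat_lit 3) (@Cfsg.Agent.Fischer.O73.V7.c @x0)) (@Nat.rec.{1} @(fun x1 => (@ZMod @x1) → @ZMod @x1) @Cfsg.Agent.KO30fd106.k4 @(fun x1 x2 x3 => @Fin.mk _ (@Nat.mod (@Nat.sub (@Nat.succ @x1) (@Fin.val _ @x3)) (@Nat.succ @x1)) (@Fin.neg._proof_1 (@Nat.succ @x1) @x3)) (nat_lit 3) (@Cfsg.Agent.Fischer.O73.V7.d @x0)) (@Nat.rec.{1} @(fun x1 => (@ZMod @x1) → @ZMod @x1) @Cfsg.Agent.KO30fd106.k4 @(fun x1 x2 x3 => @Fin.mk _ (@Nat.mod (@Nat.sub (@Nat.succ @x1) (@Fin.val _ @x3)) (@Nat.succ @x1)) (@Fin.neg._proof_1 (@Nat.succ @x1) @x3)) (nat_lit 3) (@Cfsg.Agent.Fischer.O73.V7.e @x0)) (@Nat.rec.{1} @(fun x1 => (@ZMod @x1) → @ZMod @x1) @Cfsg.Agent.KO30fd106.k4 @(fun x1 x2 x3 => @Fin.mk _ (@Nat.mod (@Nat.sub (@Nat.succ @x1) (@Fin.val _ @x3)) (@Nat.succ @x1)) (@Fin.neg._proof_1 (@Nat.succ @x1) @x3)) (nat_lit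 3) (@Cfsg.Agent.Fischer.O73.V7.f @x0)) (@Nat.rec.{1} @(fun x1 => (@ZMod @x1) → @ZMod @x1) @Cfsg.Agent.KO30fd106.k4 @(fun x1 x2 x3 => @Fin.mk _ (@Nat.mod (@Nat.sub (@Nat.succ @x1) (@Fin.val _ @x3)) (@Nat.succ @x1)) (@Fin.neg._proof_1 (@Nat.succ @x1) @x3)) (nat_lit 3) (@Cfsg.Agent.Fischer.O73.V7.g @x0)))) ?_); rewrite [← Cfsg.Agent.KO30fd106.e4]; rfl') | exact @Cfsg.Agent.BZ.X.O7.ng | exact ()
private theorem _root_.Cfsg.Agent.KO30fd106.e5 : (by first | exact @Cfsg.Agent.BZ.X.O7.ng = @_root_.Cfsg.Agent.KO30fd106.k5 | exact True : Prop) := by first | (delta _root_.Cfsg.Agent.KO30fd106.k5; exact @Subtype.property _ (fun g => @Cfsg.Agent.BZ.X.O7.ng = @g) _) | rfl | trivial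
private noncomputable def _root_.Cfsg.Agent.KO30fd106.k6 : type_of% @Nat.decidableForallFin := @(fun x0 x1 x2 => @Decidable.rec.{1} _ @(fun x3 => @Decidable ((x4 : @Fin @x0) → @x1 @x4)) @(fun x3 => @Decidable.isFalse _ (@decidable_of_decidable_of_iff._proof_1 _ _ (@Nat.decidableForallFin._proof_1 _ @x1) @x3)) @(fun x3 => @Decidable.isTrue _ (@Iff.mp _ _ (@Nat.decidableForallFin._proof_1 _ @x1) @x3)) (@Cfsg.Agent.KO30fd106.k1 @x0 @(fun x3 x4 => @x1 (@Fin.mk _ @x3 @x4)) @(fun x3 x4 => @x2 (@Fin.mk _ @x3 @x4))))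
private theorem _root_.Cfsg.Agent.KO30fd106.e6 : @Nat.decidableForallFin = @_root_.Cfsg.Agent.KO30fd106.k6 := by delta _root_.Cfsg.Agent.KO30fd106.k6; rewrite [← Cfsg.Agent.KO30fd106.e1]; rfl'
private noncomputable def _root_.Cfsg.Agent.KO30fd106.k7 : type_of% @instDecidableOr := @(fun x0 x1 x2 x3 => @Decidable.rec.{1} _ @(fun x4 => @Decidable (@Or @x0 @x1)) @(fun x4 => @Decidable.rec.{1} _ @(fun x5 => @Decidable (@Or @x0 @x1)) @(fun x5 => @Decidable.isFalse _ (@instDecidableOr._proof_1 _ _ @x4 @x5)) @(fun x5 => @Decidable.isTrue _ (@Or.inr _ _ @x5)) @x3) @(fun x4 => @Decidable.isTrue _ (@Or.inl _ _ @x4)) @x2)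
private theorem _root_.Cfsg.Agent.KO30fd106.e7 : @instDecidableOr = @_root_.Cfsg.Agent.KO30fd106.k7 := by delta _root_.Cfsg.Agent.KO30fd106.k7; rfl'
private noncomputable def _root_.Cfsg.Agent.KO30fd106.k8 : (by first | exact type_of% @Cfsg.Agent.TAB.Eng.frc | exact Unit : Sort _) := by first | (refine @Subtype.val _ (fun g => @Cfsg.Agent.TAB.Eng.frc = @g) (@Subtype.mk _ _ (@(fun x0 x1 x2 => @Nat.rec.{1} @(fun x3 => @x0) (@x2 (nat_lit 0)) @(fun x3 x4 => @x2 (@Nat.succ @x3)) @x1)) ?_); rfl') | exact @Cfsg.Agent.TAB.Eng.frc | exact ()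
private theorem _root_.Cfsg.Agent.KO30fd106.e8 : (by first | exact @Cfsg.Agent.TAB.Eng.frc = @_root_.Cfsg.Agent.KO30fd106.k8 | exact True : Prop) := by first | (delta _root_.Cfsg.Agent.KO30fd106.k8; exact @Subtype.property _ (fun g => @Cfsg.Agent.TAB.Eng.frc = @g) _) | rfl | trivial
private noncomputable def _root_.Cfsg.Agent.KO30fd106.k9 : (by first | exact type_of% @Cfsg.Agent.MK.C3L.O.en | exact Unit : Sort _) := by first | (refine @Subtype.val _ (fun g => @Cfsg.Agent.MK.C3L.O.en = @g) (@Subtype.mk _ _ (@(fun x0 x1 => @Nat.land (@Nat.shiftRight @x0 (@Nat.mul (nat_lit 12) @x1)) (nat_lit 4095))) ?_); rfl') | exact @Cfsg.Agent.MK.C3L.O.en | exact ()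
private theorem _root_.Cfsg.Agent.KO30fd106.e9 : (by first | exact @Cfsg.Agent.MK.C3L.O.en = @_root_.Cfsg.Agent.KO30fd106.k9 | exact True : Prop) := by first | (delta _root_.Cfsg.Agent.KO30fd106.k9; exact @Subtype.property _ (fun g => @Cfsg.Agent.MK.C3L.O.en = @g) _) | rfl | trivial
private noncomputable def _root_.Cfsg.Agent.KO30fd106.k10 : type_of% @Nat.decEq := @(fun x0 x1 => @Bool.rec.{1} @(fun x2 => (@Eq.{1} _ (@Nat.beq @x0 @x1) @x2) → @Decidable (@Eq.{1} _ @x0 @x1)) @(fun x2 => @Decidable.isFalse _ (@Nat.ne_of_beq_eq_false _ _ @x2)) @(fun x2 => @Decidable.isTrue _ (@Nat.eq_of_beq_eq_true _ _ @x2)) (@Nat.beq @x0 @x1) (@Eq.refl.{1} _ (@Nat.beq @x0 @x1)))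
private theorem _root_.Cfsg.Agent.KO30fd106.e10 : @Nat.decEq = @_root_.Cfsg.Agent.KO30fd106.k10 := by delta _root_.Cfsg.Agent.KO30fd106.k10; rfl'
private noncomputable def _root_.Cfsg.Agent.KO30fd106.k11 : (by first | exact type_of% @Cfsg.Agent.H64.O73Data.T | exact Unit : Sort _) := by first | (refine @Subtype.val _ (fun g => @Cfsg.Agent.H64.O73Data.T = @g) (@Subtype.mk _ _ (@(fun x0 => @Decidable.rec.{1} _ @(fun x1 => ℕ) @(fun x1 => @Decidable.rec.{1} _ @(fun x2 => ℕ) @(fun x2 => @Decidable.rec.{1} _ @(fun x3 => ℕ) @(fun x3 => @Decidable.rec.{1} _ @(fun x4 => ℕ) @(fun x4 => @Decidable.rec.{1} _ @(fun x5 => ℕ) @(fun x5 => @Decidable.rec.{1} _ @(fun x6 => ℕ) @(fun x6 => @Decidable.rec.{1} _ @(fun x7 => ℕ) @(fun x7 => nat_lit 507440676870087608228574886142737741372119579944265358629170337766320871652185632619800118873181168754649942174582160868388396716253926164602078741764556138792425988289333709827155002546297459334801492223262959049465961627256594030133904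1162122534613880452507243425858872825249891460975407560401030703420278021853838348592315356441461605539192957754504915732834979277626001737903258579790599804165957769157462138749647091612215162853685353546780479246979563258510330485496329681659092637273539574972520499040801903034589258305390358967560821045135583276776245878815822320484516482083273434369405880866586521426203733206905722501277715640016710768592068398169280616814518755814139141764027969049643341853766899932275473652983986720202086417234214207006680573140717852470697942908662922856775912384104209576864364285731233278540661365077698463773749111924897697014115550859663721976859976137714351966549768104791305348212917549274107819376026846869220990736075580015390610901347331380344235923252107543952077440986926747692541762987704504049753923040237542644170375076358432340796144419966777343363025249974241243056242819801221413907396193936868244662869455930240565062199365659704703517859068908548323938889268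6394019628399961012519036312160694726486313177604905181297762619706094496205588030373403760651149057481279515633379334369386163261674566803226019348466071682444190446144392826264156363098972014616208699700367940038602904788773936946627098262577044909019770363167230093670106350390155534536702357633486734168875215767718058060448088361360993399432915392584671110871508928536846776811484193893389581824613259305786425063370878009274079367015908640950228529114580387965791905942000172450728576694212314206844485242733028293714568599699995855480574367283970251908024775272275733412758265554752593177371272173859308877534807498446598928925633124888169614632031528634436752127552648816118370745460208615038185741473802601444432546827606799247468239083291111422661116915149806451186637492632207156683164845735060558084813479019965792915062382567521126549562817543909256556511593084076599949120481644113961062255665759780677186544639542312867426876542057861314362333116313673797085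2254276096421612182288362424734055804395960947511728527615083613802354991543730521606533576690211676048414851981743021665101870447462631658220523693738532488807992598680662537880982004840056427249847370611218915959926375962587735268639960976404673222835596201496019640357954338983555015628188101547251273122245277083027272907538007137789655016027529340319557954141470634392337652777633417170982984426100575549068991660446154584734640676740226483236242020741889704816397432614995699912162177663414008203716756972542645017986452222658271616566329736613042317735039520370868399859097632388066027873756252676063999623467581013412512560564310484929654244562342811954991437577391870716209908831489489372489919011257289236556565499295586412497759554143737546484477807160140362478938521614137740223534046160423116474073162523029221730696910214801855541637546298559014117747161658516230410769134457327638651010338565775527361454822190990078353226460461866075837578916125625386329285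9016573435317897062445042299301137350375563316828910414294065640745577284672711156019277641775649870681112336460743520238055893548963954067942809385429427966989374704446268357804535660850229436390880555541935043500508432205584270110948444218683267538311979988431344842691011003183836158854924857570579209559565689589639023136896407337823203965301193233152458924984116110962992313116404843393917380240401871421010770701943233231208811641354534070832004802436992374001134647107381471438895125810316840367066017061792136422272786416823052766884228446405708754929158342124920872130295250836571351036276078837614899478374721474521112164898954773450464586151181134385018316805790330495175113125949801167775995207364748338108240133556838754720743189391068400122314520003933076497491901155571700877377951705584243273094412757855716918062923777589855571536568528681059392807721691420659308401009823148090901992834829750033761150101107399921667277151) @(fun x7 => @Eq.rec.{1, 1} ℕ (nat_lit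 6) @(fun x8 x9 => ℕ) (nat_lit 127337569079713369686165108087821164224207398304666607936545283373916743153286976691169774713985395984855010953533742425287994301246070487267660256724179828904356355454415961348395274090027103259361670208110078942242726230440441857746861128572768061255105003654187249017858484035448205234717826295592552416324597037321504381435773695506235115841317832188261256822022776351546533025747079457205495849907675043946003987157344548448756298191903644397940589371191021405921144728665007627903482469525838366022030710625826890101353002303399159620658377034713845509783565479842012925203779599215348578577746530063729168472276357866982778653043791046917049874816452161806039845679056847805794196683542343495983768391804828140311148450661810336576350591283023496072328788534241163113343524969731943056217184209152325923767331652936157604020996507437526277028732938040013541399219905781861691114652453758517276488974676960660312062864340986570084346266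6200259335598284186115933975664367644176166683612446494809430432115567578819847248859411803981322649310369358821983894963028686921143334668777864899406413487539112826174029487861983902940837735713939411486428689352736800962179153800802659521258189029700118259336604215391120236226869028192348839863329701798992240643730593605323870481852437345911197437569783750950624482403249147298892065492803765755708640019397226793460926269145701887420608309981240486479003732466596349808188546901246854623315906090875035390563788656009277544060997776752110159224289784924812720437343316941956675018728075166377810345386506877305352882356158750284112463932712884665779515831130207952504361067229088422119430868200609868051069312251120257720340760101328944337341069922992164376367573294555856112816910316188580022969975686083330086581714991819629903239561359384287386173569274215288797732436151045184758621436841520334139284420200429444062298151800676838161637112635493291124414082121704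7818772453492573709375235016332800795678212424847335243815804026129631121849134715794355703715947261601627306171646506871322615648645528658737119977673356242151166443884764086361475380695845619573571252034259838490987907687102858358116235599276824029870691069400217334408621571878605966293023300365886666096562163120224352252734529739623760724872302199048190986533233226226848179172367046654470599510468874679939260088819408626130905932345565379215395620694858094074682269382218163261515777567714998723727119322659281248692701745471121323187730026878215978602196601904839517861098099172370075244518815977979756085306499351026755074496282596110601864879677662012828961169889624419452045665508482062079421563204439775531156039632000130365541290757986416769262348178498560003590269490099510117125535125340982681942453509845910741564186661443518237586361366564426893754950423854807643647231399248674103310706910404969871821212244024199526174783382142706303121585155706996545880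79762199092366915183067762673579295671788022667147143287062859923127831594214196912351745329601834251524112534259105730734979640967293007370306553999627449770857572358345384540337908144839416784367490493434711309466676373946927385546268624656624816095150885244811462962581214145185089068345903537611951160431406330200209864834749468509330937180133465344627830352670706946050424366367300121568566650078974154247155385785340664065507621806158836686827404169705231091287490645954146954196470356172539008848518203195305902678801814658580121528219585639509866016189881168094967862053200024504506469211167038088784792673871056243268888108597691533623282831569445705615660263738007109213700187590056095227966103053202785855596165896740696989183300762088325345590050535372391840343344494518281796426559988298503614516959979156688442642563048924968323185312631190333836303431667896395519740490554846684821041075514830308567976120696120181451854471037575599504174180179366633000160160424820755093302038993915324204200647700228503679354360936798606734010367818118321123478878653594355157133485362718658443138855657391076640623410899788563424989893152369924887784563731136028787863099891301198907069670594676895077835121)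 @x0 (@Eq.symm.{1} _ _ _ @x7)) (@Cfsg.Agent.KO30fd106.k10 @x0 (nat_lit 6))) @(fun x6 => @Eq.rec.{1, 1} ℕ (nat_lit 5) @(fun x7 x8 => ℕ) (nat_lit 7213680541136316060389280231002934537247699741810500542856658252214399567074160172019481980613121423595630516389891863148621356060861601782810330504352520441804405437430481636944221680911657953220744667195397230418592196851381084828054059181592825046782884652878219260404254158377534404739089987673935137414725239365955400151680922326202084590649298773799101138148103181794700108847618591354096692282869561646742684150563348680914395403866122902305132012515059677808857306892397940212385935628940374062333079729439373816287612058594663161804360122862862696341391787047223177469208811277622460588760185211399452690942569700692113828061634901972927808456347612960013723226497443741319443267643516563640976305540086801844220354320324223525732254370122766447546101782800624159140537633976977628050336406920334258687219240581215395624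0892900646887270603123950351559327520114074332079762449564414845420016313683083212576736641875262655954312099402106045327571138242881891340398321150701643444278144716190820883681731030681519129165503609142831570926097463969555327909448234259908192620961735103725337682067393066315061190023003570750173075230662612204473558437230622164946851497238704423103813973693599915835591562691021266478452852927190894361518962552078061158311788525570707523912669932597465474384741174542536864011740805990376322064547205348661866555235392775417305559157950433982755362321412605531899036388760459390652499719977331016605742697957341431847838510473568293316051505611541968902393421380227479440035695731864335639549965225184261412092386305653073639811778338676087177926538772966370286669171129531426508629486975201869671467368791022315824449570130811275579752598415372323890284602808496724722599377822459355354536160004052468001777484519961830255127804957623388270469774176119638246082348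8431698783992050962300306295628641419285219034777555656163790804136880270153885277112435992901086545690501500637820288198489161607072682144312294222957545690981008838612323264612678704719112017578833212778914953942097318513496880196557143372945607427415712186214440902186730754274144559670533946803100765234426034529981861596807631568555036106581396064378359693839802710753648698266363018179495279625669439210179582035185095306409324031211976590985138904168786698652376233245688434600746915219045377440786488201852466337161445177662934702971252459322866675635940973661088660773326971352934610128057049655101050620252367579480742192117040969107568029453886917868400203642053688550485724675000289496954631650042508316110263543184687928842822166922439298514760081708056815083890345353271291142331211703782419665783965945510652673826863013621380111752552606282674112685838106170407439741097480899096146863520349109057806283096290384391706792546670138588720626039614058285025199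4547472017468755005643513231095617766426344127849940630350450106946860278726966034930564334557864177367298658439345107421874472138161832759339707158575593334625913570238036828052432455151293082382538444452624427025881083153343082231037233252258243437309319047218268281627028703747992242761936402073430883458920504808819584960640521868892681652436528510239610320175276530165273487692750502227140198861731330532187786120699817476008619795468314981369484890240756796637046331367736361642880900860979318257448857772804577512009677354022636249700554928457423845641124708721186489514709641161217105211844124124324747660118171089902577725697356478114255069431798738282420620200362614129201787777755565124624142933957055185848000571186767103465532166000383438622784055513857607415648134018572920020518727866063622784861189014801569602469490209480021740881884441983862022918096406069934689777895413999406554902398386794436243305463648494440818527376174724305270851180331353247543727044619242617659015496794233799610583107761190125552233024627023051512307750757785080705189398112645539060947884509044329780133519080560715565808072725613211203276852240570171155480392864589413531074098306037288541368674455624119547125502903095922761635744983849432402901937671820910868030189231086755622938450568900613993979093223451997267987661151)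 @x0 (@Eq.symm.{1} _ _ _ @x6)) (@Cfsg.Agent.KO30fd106.k10 @x0 (nat_lit 5))) @(fun x5 => @Eq.rec.{1, 1} ℕ (nat_lit 4) @(fun x6 x7 => ℕ) (nat_lit 1693590181849356995319934202011050750221405415018380354454878781904630436158042672809331037749956131906894446375460698101075910520054915268899731268252059668575813339484838218931566671283414577109814744270670032050893086389570278051874432388056518538124073783685149925731178570477788134924861606171414043422805255424943855891020817659948024447001766684386471447300311140491327335655649210967486257154805465132480965674412314451486371965854317276345861814426195822198649359850833608515124003548256170818029228607783726263422284732120958801974500766222241390654072398489828643464840802264016551154132160682963309388417891015718168689160105948709922780493101623205031867065130034960719747377996368114934768504399257034764769031640609370779871416793923419995262191611463823234794639149865625824321875216262381386360709609061600506427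4122838482006857251960697788870418562171090673908891728432930162874012927728914821510319920454753123911631413632097441583853851206741093371440356684147444206306842497366661635111103567746762175766726872672043316383792920498732785202922364459171406738375089196772890469978932024284745504142702782890259489041209266117801533321932687499371862823313474219866799004639814420884297720514942880594512513881693734544367304263614749375833394518863161618462134843329121901234967520920231210168456199443993286941057181939097788938843906229395599599997688425812842544296696102509156464284693989624418929021020501802020516429291862207643159971488582002239536159707406185288436426294580768321189738678503899183323571641290939961738227802107589784319503691208051351116104763047351842112649753610309959270511254141849005963375757152258860614122873158168564238973343328253335807870544274751287770835502261400638232849591461836559830728002150480443031968328391999045831773099494761217527159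1843968799249624812205257386395084975289293817509333199617019192624991287211720990816393035425061751728328132711854949762685360822275113282933515588597047096389016147322807817188476528583172191230805253369065629786652002142400145598631472991178202529757648695741852078673889018269632266623559952210837013559482285749284313214161678836300204577434376167142355283528431328243693862320575740193760807400229905101501640142516143947250732545588664782460550185126983794082581679374927863837845893040162454811734025017428042582778224741690677188434004367964837040434136689438550092143158648983401863971072323765505865608247707542006930920239391234195933667568705434024428554131907297013348210317047509290139304165516968028615370152800664168631341068736310395063648845519559183213437233422265629293328476866409293350682210746087036136295014443863662343889669848135064490220791540757754635405154687277804596351353845207983997565554713659106321942123635916664777832255725883123068334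4652819429390015977945577422548490384879121482179592304587178008089715228412452213574397494221588430801613903756991426121697045949889467974082307840690631898762034209467307910981051254410278654668842198538418729685216550342398423751572786347495713305985182655739488626139741544922206936001523788341442419024583991640451011131255482244212017225857782550574424440917713146541865420433571761145316999098748554372364433364938376569450490842837231890333125400139923906214926502108081393319931487219396296624552931935238846881069051229832226651663676186203071643164869777815611380399039931395177640106675341424576627064505795338156045217944975453546184551298689243346764303139902954348698602005716781516049405887552150122103929259744150297510843557052669757511271962643482591858361249883339939814985169586286913423128454755645996467790176354946523934713309321361561600224385660771466758479047312917276366173604938166253988643854863698754080668470805575851904454140423756981302850089462463593457784291225639577280372048828007253354645778140182116957356421308050752349757141697723840747848357442906920257039332987860840653175779567717695296852405179662604182803003008484550473036335190622605927267094317992943295784237414273043233246624868082996912790601826231331009722619720046410168294155727220948949813386024194095837531844986)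 @x0 (@Eq.symm.{1} _ _ _ @x5)) (@Cfsg.Agent.KO30fd106.k10 @x0 (nat_lit 4))) @(fun x4 => @Eq.rec.{1, 1} ℕ (nat_lit 3) @(fun x5 x6 => ℕ) (nat_lit 5532822577063063035542238324703212972488540336112748194213781152124224193656576502409854464130841328898626117925452148910934364315466925550955936317839820033206216390239325860672124311573656044757297381934019179245157277507989724238082391727891281161860680896050511906644288655805405461537137117268297117874598478152542884741855637424585122304943052891623557993624868600878209449911611769595754381876596799678111484345171479295163624588336644358450698996398325778650485204560831640818292850494360537111875913314645291596020947005740548214897607433131094936563521922834020225033173213213594530808840943479109525768249174429381102027129871074802270995314592926255588198301207904984226426547862202445910459998958466476979408282045003819919534731323137695702465641090234860770267577773496214381097288053555027645558265505439448256978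7385408387630846708638097333858897475397751871969238247995489287093111477063432817469108661732586542680682114108114888966883435775813166255872715430306699389178626643844490793398030128501423781533929346400662056835528248398894942800629495665427771119239948108126251441417009630589671852056652156298934552437246498668597855805089224997754589333919516096215701010039574713643068177062527411035221284730338505184811185777953298096774516605458896133201278852561003913807388322102491070564595674099294784423028134869880502801461123488694341395139826398777816584781289525469560817322897262646415179667729900843152088761111406620314421232006083670123220150484550529478759699665445613900896817372362207439324193901885725453012337976010117144534458298713542547694019522112054038265132621408035292758652936137596899462903250120669906922892444721207790654690100054869434198141565178162530218890414121057627306477494492551892477503742118292814647919939813714151523371919378949003576051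6006892844289774694603475886174211400600456608706198472003950811790748846313662899616273214541500950279624798155522030767079389217336774617500741757812041827282136213066884299791632497441923205649250944469272700365811673331857752631333342324253260513166708970866023757145025409975510147621676079699129259208391735371328778393235733826710499600937751096094351380654165916045782141066402369854239608552394859650559985550353218958863005605153192514544911559975829386337288295406343155503209533626838947615933674622793856201842847020581253490654848856808801807197982209707788042781781290979642572384026975361021856912705715051482740951603986406483448668789191306839176714257151824832359833822410644913591644026387597222066789918245207374027485258764473110069332772669619967696204144786415528262985303409591060453431402713340088596250144141269067958510409386059038905069213845049186614168659360021665937300811762202529208539333566825381850125450634685283029857251474028006270662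4332101781401967915385442181470886318881824626227598523045382245531361182850489591962875796991908060549968370434452325545641255028254493509124847255993619892056090060348181714635012888151875795456958046005353543407927018023333454754992566066982109691112954900958239672464643221696999143744028358282890291199946929172558741634226031773373266190570610106402460404222091662784719356975111468168424054471665292933521229945979206452718350699303008272853354814608301349640400510493461167858057690974789148734116169791410324686350130031551342718161362514492963509739380853018756392701260553231490764881170789749341182160322068829711411069266783234342980315513922322718343868201062421193905410406058121478555597225159147262979322385568102759841980658211059664436992833099430267478307247298195333890164994548916958521594956300984176184876188774582001723126874496199312711027448290927559253351167935166257570961449776361004596572088987370986824412759604401201479254250509543446623742214509074546014314034104021421049615605132917154831825407421997893090652083413081747453034969539691088216834341823465903193074067526269171951900416445274505467452016979671330855468763755564909697203359390907773387146108005180796096785091543867247167698403818361987866067498442629170195998537958568834558455669408204187977864487745586542646153711616)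 @x0 (@Eq.symm.{1} _ _ _ @x4)) (@Cfsg.Agent.KO30fd106.k10 @x0 (nat_lit 3))) @(fun x3 => @Eq.rec.{1, 1} ℕ (nat_lit 2) @(fun x4 x5 => ℕ) (nat_lit 7213680541164667079317936332579988876131776683728249538642181960016205978351398037022952094545359571679035219315037665930135197015829078412687420882480695876544456401593297468268944157868208940309421827277336624288931155589837660179900416682106368986286618411767962165110326447119221904363675123380739603570542068356220171753039965665112816165846629997768699458877777659232875026435445690540741439538386147794392219820895881170312004688567680059764791101861898420471807822834227836213542549402922771327738270293055831312500757040917313100531688227811069866312083922518397775994756248662542003468342991810529295784112384107971156705920043204065224272978445684692998620146542832877764299933451665219873457660162610010036485650273945442311879882343069863884370558764752215198881705499155524363156130422105586838307966249538853826241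3202169318689690357072791518778494374598212322577887542700931455101984713047741779270714744958945878850846926778120978352448377921443698958783180940866940536839112627122823452544600516205684878480851866877451647546614930853764063923230447298764105444883586144091988784519721379429518618058256290271739938637382362550097638870777452737884452182563307066358171464346034024202905821127238137111125256537101130474767665865686081976984215248847643047226723654224306674856363807963820379404487492755932914023003734124021377073988139027625413980959157471230392009779584774764154791081578360872810813125351497154784496170184093388038339510751072557998141380803559366505174216497264501009463976407099335855608004608573707032541514695048018983587818364517249729048364519079991282620504921743473836014937823348376127662831381036547535617706866465388690260595886598317426506464864979925960078308167252284557130517640880027449808463380986530311307249560083166402081010086916416809734155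7105065625566297162708012977144485675319059514834441349093138800616717282801927773218855603374754220903453854774162029127462391314372602449153835789447608536057024490717108626621681428757665984939861629815206039163170547995946246469547321105070299578624231313601988323688703977014205811327342669735795940264540487231554805118639399293663652369269197932255162292323321438007846104335552289611644667466207609244762286911987231675654462641024914293828812836894930511319895069499002065270677765793115347562130645371478487369345880791900966665748388071953057360666232508501329762692577707686025447817979199338001175021567462345366995633602145940208055133035967869326876850012592487692063894153725047148260424367683614598671214909827240142846006173441927465221660333354334289703056364894969631882932856233014744144316189021580893359864032127637080421791473419833637020577844155696168350555575764521116075060501552702939895929350917888729850135508138529479408076738193903115826323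4967531928304068302629002922328853145349065462452390970951248482597455027004964473568415749037180186582751203297223742875280160394631431743081167523189335512839192085222379342964311023847991301309291267467527113845235636418616209594348829641684763461217712132147474353430608335016988820658502728922037929888539155601693265081926019742140474099264379324455153251789243901910298403931397299701415255405014874423439043403380939899360036778233248747920691929758717147707612368568045389202851227959025945477560302831619947917770259803817955847190094811425473747727819409807289550013670610833761008148442423920575469626820196200005263474104631146827931919477686597601063744859003863539487546642907943792441204230388566275970390029298014124582817584649978827136990777678613439959345620203075447329087581602321608538207613371788387635825563863238854589783067522816229316990063951427237059478377310805688757351996286675568397105188540877818722312760043705131369018234347141483971135996394874444592031218520795946573523359823081874397418076950084182760375058588809136404032294577901010477000258263241008008553830696624429627885029198547683291423862161797888061333757501395389574976281051194009263083652411604480748073603963356612062439014114768201082397655374847126388745680691880531766495851038138709093719448949543170358472871936)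 @x0 (@Eq.symm.{1} _ _ _ @x3)) (@Cfsg.Agent.KO30fd106.k10 @x0 (nat_lit 2))) @(fun x2 => @Eq.rec.{1, 1} ℕ (nat_lit 1) @(fun x3 x4 => ℕ) (nat_lit 7022673954344124369691363179157087313104501140612634670151707368913729416900040645565516150796156894839445506364841587958661980014278196818166452316347293325399286393879282281718404530284257940504577056319667747575183322736618096804173397007994932994123191814748402967101982915131089762352461923427830460809164446654773798513572775434375742783251009245518162912232049888169313490609784079402021922658549723602283090778436690852085464357400181623784964082305957507670757587945965277000410647203969922848086571390331327681021541780415759971828907059715967027192825395079466137825131870804342090275387572141741948761688736861614059119975761802133496504142046673394853911289173700912996922442488390958525490925186592104862372862122392094334334140964639639025250056092306810237860694009590669134651802940235619726696114967375110257540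0514621800240853495023084157795810986923564714823902520561518072810945671084640288161740338190432907181945397798215821426280445331718831254551865666055422706566964518347392490687361096930528203517289357739108253086568400536338891339706279233131657058978709013318115819530517090983207702107714062340140775914945642040913844190467417905308153155159633202877649361990266950393666308176289303301131654290375742025656878245980518546716828941477118233980030386886914788836279333986959327088563650357261956676720480154035878550593994793481047496818423791975568515469585149314392661094842858555041707707040411806756862383144823418915028574824778075567363824871369156806821039734596726237529803636709701496754002806281103443254822206759535222888823421000986375666198032363807850108846810738943706151987625269221630894009627876407413255804518506143281249502973993130392794872654074448132522330291389567921999363179312541510349818774772163700247222739998293931571219282106851681995874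8717241265223757548115585422104176897858003920397396289866642268037220975269081846430416805319738556050573397092996775254560306350854619319520610773189120337753495351591437368258612402296092054129007230480693581747887806497281912644795212184848997109241066805972201276614908811624778733140113485162940846630949866062726289214867089708771754730053341115301087493033184775872860301962106946218801399266481139395493932264584364411240048777597908345310871557319908969686524031636425992293760352019859343254358389668394675340976843504274655154152543161766989608790481775771151505115194209529170659637089015194047031562390019008783596303498369200583413041514569885418950932752440206401123328685492344740407829329246058661346312590191307126356907797202048632727452484480922513883004997710680963420911483357980645498526435153745326135288040262622613105469113495494992878176906283512538871683147517591952216670210851759675543658183463458637872076366227286231105250698591194094877862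8032469229931599211980767510068969854276698854418915915443273557832961773934789801533978330647466562523870599492837701801082880313038624045033921687158624435153214638650712774387914474140609861621647223575408196505727837843857292707287859399462385135000981994155673502935430217690957743245141856440920232620507834680800821166145891832830837537109573935659704971925546176809894721374218725797178474390477768368393371832271331141719227888910174373542749968685773276975720955468264658343701520423447355842726439645050042007526932302782077210338202356357193293979869923703003417335789375070508481741853758388709758169867418551327696083952014142535526014946935637329140773244854240792132765961949067575824546965628957367462406101432450511314330617516181522676817579741476448908664223302857175365557210978287565072042880909917137420138991650384702312646454648370977957582873317016470826557561633842220779308371482864387834811132129170798458206100408138597792349615574839401252222007130633737133547115482069113595074213938227963769951141622482445611788629110985532650046433710692022221114184668993253325100663133931952338854057368464457551255660511405771299941125628530713270696556493819339341378819188130127410947077672756887591792094290904820408694643660353720750015337147083623179893905790191031605376345893246252326070521856)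 @x0 (@Eq.symm.{1} _ _ _ @x2)) (@Cfsg.Agent.KO30fd106.k10 @x0 (nat_lit 1))) @(fun x1 => @Eq.rec.{1, 1} ℕ (nat_lit 0) @(fun x2 x3 => ℕ) (nat_lit 7213680541166983406893590734575624598931651679814635211981369158985540040703778122232300840557577789026518201492412568047598167910869654354678263786296930240690759608450232513962092496787719359718809304756004557279339581487205208531714045795065458171249350793525979634123662754225070530637375963503250392447320756492845856279028259615871137696898810543565436529569513952528852165519769851576887572679407135951720839170436022372733444362898272470625338222972255309814888321135476532152809502243757920861659950773263384371426710146725600483107842221395323842986307799212181311109673261697046621390126593703259202722970204430720374094204217741170283357936440594419161190654928712275800260778304343768319347084886762478907298920843241044772627320052070773753415545523118307219167932670391992502461579156903516076824132907675375603978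4956663136291673966499842340146901994456043138711247146594620085126116940561329413568347977249740371105503374447758439662154712428606554923340489085005875995704784789986018083929890655704563653498123814276965727098732381869938772868627360159169051063975524513039291763840056570160466450591109863562611391457937321635392221654743447819486163448593964704103649730145083303327518062872697246649118017903319165511463861420440992565329907370800951761370669116953163573432115779516912539990187911043326766669789261928300485588874063210810386515500771327104526631237100881345968671291097981002262368326788765386084475896275923163670674193271555800721167827228584721118604540269064630290394988097425229298723160365737284807121458230216669510893535006553022049724634644200700637443012368269509875432367590428234841525119535770487350855404316933519191190110062178973346446272776941842521783771525233966100414568541917822627047752608570412052255924136726711592474322588559981121584947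2555297793979249941464711336643223368126776015341209793742975878828242663152223713739079305525307303885497832769561095594499962833215896964533698658595441544437808328767773882298314443426649416808784025393728620633320663986592178040071160712310655855721852107686287881694959910549764110857332463536059365819743511360958352749326201187876046832617607943537992254507578384040520666730467051748140825419159144400092421297604811962829643216917518548426585803713536900806880912656494866091537536311573533333075317296568524144711662621984191000414775941253136524494452649493459021485164000375521825919453293034705787485945475272410609487506806265168556438652316550061372099438459935639703344965632406508433196405845014886252955061701598208711326144331922981497514470950443536629401668268412253324071328708204958721725868782066836664804586605771413113017860829010454590601762292715859097346706790898201570299670770475771232032568068328138817662213480402683950622802363944404115048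1984988344241034504666722264815997104546126614719683489444121175387685128261809966075391819379590585570790016530918255834336823478759418718322639286384888472196279525980713371805002936441295602436388593074520644767237136320695678479784969733339940574342647018931127900483490743522441114323246995617287025546426167941624130890851731325326185375957448014615113398583367771117580682490040847873407219654556227665273260036465473649696598989194601299039317865300276801781666526499132435052197701739525939966644418736318779087050891757729518318783829696883842919018009620138981252779423465495754660507875323983120821991668131605688766747367746961303767173608187458063232595235009381070701389910111572017574949646643734999984486547567150537748615964474471917667298260845020145278983531182077099537361537699946537850074979787891205124660146553465097018792017494958082036828224345398157200168172470803560214876713206008575258604962862047617479259420206822349041687535587602584461946225967897912714730810216562499349864357842535846043803160105822673773133730397478041949294040877580387548681871150008873118905097078772156513481615588897230020767313104885683666928015234193128130521901001920578789802902602220368496098462803144932417049314134945993549145325206422441303231612884254065545200591235327774842367070740472520159600316416)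 @x0 (@Eq.symm.{1} _ _ _ @x1)) (@Cfsg.Agent.KO30fd106.k10 @x0 (nat_lit 0)))) ?_); rewrite [← Cfsg.Agent.KO30fd106.e10]; rfl') | exact @Cfsg.Agent.H64.O73Data.T | exact ()
private theorem _root_.Cfsg.Agent.KO30fd106.e11 : (by first | exact @Cfsg.Agent.H64.O73Data.T = @_root_.Cfsg.Agent.KO30fd106.k11 | exact True : Prop) := by first | (delta _root_.Cfsg.Agent.KO30fd106.k11; exact @Subtype.property _ (fun g => @Cfsg.Agent.H64.O73Data.T = @g) _) | rfl | trivial
private noncomputable def _root_.Cfsg.Agent.KO30fd106.k12 : (by first | exact type_of% @Cfsg.Agent.MK.C3L.O.wd | exact Unit : Sort _) := by first | (refine @Subtype.val _ (fun g => @Cfsg.Agent.MK.C3L.O.wd = @g) (@Subtype.mk _ _ (@(fun x0 x1 => @List.rec.{1, 0} (@Fin ((8 : ℕ))) @(fun x2 => ℕ) @x1 @(fun x2 x3 x4 => @Cfsg.Agent.KO30fd106.k8 _ @x4 (@Cfsg.Agent.KO30fd106.k9 (@Cfsg.Agent.KO30fd106.k11 (@Fin.val _ @x2)))) @x0)) ?_); rewrite [← Cfsg.Agent.KO30fd106.e11, ← Cfsg.Agent.KO30fd106.e9, ← Cfsg.Agent.KO30fd106.e8];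 (try delta Cfsg.Agent.MK.C3L.O.wd); (try generalize @Cfsg.Agent.TAB.Eng.frc = g0); (try generalize @Cfsg.Agent.MK.C3L.O.en = g1); (try generalize @Cfsg.Agent.H64.O73Data.T = g2); rfl') | exact @Cfsg.Agent.MK.C3L.O.wd | exact ()
private theorem _root_.Cfsg.Agent.KO30fd106.e12 : (by first | exact @Cfsg.Agent.MK.C3L.O.wd = @_root_.Cfsg.Agent.KO30fd106.k12 | exact True : Prop) := by first | (delta _root_.Cfsg.Agent.KO30fd106.k12; exact @Subtype.property _ (fun g => @Cfsg.Agent.MK.C3L.O.wd = @g) _) | rfl | trivial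

private noncomputable def _root_.Cfsg.Agent.LsF.ff520ef_4 : {f // @Cfsg.Agent.Fischer.O73.V7.comb = f} := ⟨_, by first | (delta Cfsg.Agent.Fischer.O73.V7.comb; rewrite [Cfsg.Agent.LsF.zmul_pat, Cfsg.Agent.LsF.zsub_pat, Cfsg.Agent.LsF.zneg_pat]; exact rfl) | exact rfl⟩
private noncomputable def _root_.Cfsg.Agent.LsF.ff520ef_5 : {f // @Cfsg.Agent.Fischer.O73.V7.dot = f} := ⟨_, by first | (delta Cfsg.Agent.Fischer.O73.V7.dot; rewrite [Cfsg.Agent.LsF.zadd_pat, Cfsg.Agent.LsF.zmul_pat]; exact rfl) | exact rfl⟩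
private noncomputable def _root_.Cfsg.Agent.LsF.ff520ef_6 : {f // @Cfsg.Agent.Fischer.O73.V7.act = f} := ⟨_, by first | (delta Cfsg.Agent.Fischer.O73.V7.act; rewrite [Cfsg.Agent.LsF.ff520ef_4.2, Cfsg.Agent.LsF.ff520ef_5.2]; exact rfl) | exact rfl⟩
private noncomputable def _root_.Cfsg.Agent.LsF.ff520ef_7 : {f // @Cfsg.Agent.Fischer.O73.root = f} := ⟨_, by first | (delta Cfsg.Agent.Fischer.O73.root; (try delta Cfsg.Agent.Fischer.O73.root.match_1); (try delta Fin.casesOn Nat.casesOn Nat.le.casesOn); exact rfl) | exact rfl⟩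
theorem vv_gen : ∀ j : Fin 8, ∀ b < 378, (root j).act (vv b) = vv (wd [j] (3 * b) / 3) ∨
    (root j).act (vv b) = ng (vv (wd [j] (3 * b) / 3)) := by (first | (refine of_decide_eq_true ?_; rewrite [Cfsg.Agent.KO30fd106.e0, Cfsg.Agent.KO30fd106.e6, Cfsg.Agent.KO30fd106.e1, Cfsg.Agent.KO30fd106.e7, Cfsg.Agent.KO30fd106.e3, Cfsg.Agent.KO30fd106.e12, Cfsg.Agent.KO30fd106.e5]; ((try (rewrite [Cfsg.Agent.LsF.ff520ef_6.2, Cfsg.Agent.LsF.ff520ef_7.2, Cfsg.Agent.LsF.ff520ef_3.2, Cfsg.Agent.LsF.nmul_pat, Cfsg.Agent.LsF.ndiv_pat])); decide +kernel)) | decide +kernel)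

/-- the action on the points -/
def ac (g : Trip) (p : Fin 1134) : Fin 1134 := (g : Equiv.Perm (Fin 1134)) p

/-- the action on the vectors -/
noncomputable def av (g : Trip) (v : Ix → ZMod 3) : Ix → ZMod 3 := mat (toO (_root_.Cfsg.Agent.MK.C3L.O.pi g)) *ᵥ v

/-- the block of a point -/
def bl (p : Fin 1134) : ℕ := p.val / 3

/-- the vector of a point -/
def vc (p : Fin 1134) : Ix → ZMod 3 := (vv (bl p)).toFun

theorem ac_mul (g h : Trip) (p : Fin 1134) : ac (g * h) p = ac g (ac h p) := rfl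

theorem ac_one (p : Fin 1134) : ac 1 p = p := rfl

theorem ac_ev (w : List (Fin 8)) (p : Fin 1134) : (ac (ev y8 w) p).val = wd w p.val := fn_wd w p

theorem av_mul (g h : Trip) (v : Ix → ZMod 3) : av (g * h) v = av g (av h v) := by
  rw [av, map_mul, map_mul, mat_mul, ← mulVec_mulVec]
  rfl

theorem av_one (v : Ix → ZMod 3) : av 1 v = v := by rw [av, map_one, map_one, mat_one, one_mulVec]

theorem av_neg (g : Trip) (v : Ix → ZMod 3) : av g (-v) = -av g v := mulVec_neg _ _

theorem av_ev (w : List (Fin 8)) (v : V7) : av (ev y8 w) v.toFun = (actW w v).toFun := by rw [av, pi_ev, toO_ev, mat_ev]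

theorem bl_lt (p : Fin 1134) : bl p < 378 := Nat.div_lt_of_lt_mul p.2

theorem vc_ne (p : Fin 1134) : -vc p ≠ vc p := fun h => vv_ne _ (bl_lt p) (toFun_inj (h.symm.trans (ng_toFun _).symm))

theorem zz_if (p : Fin 1134) : (ac zz p).val = if p.val % 3 = 2 then p.val - 2 else p.val + 1 := by
  refine (zz_val p).trans ?_
  rw [sh]
  rcases (by omega : p.val % 3 = 0 ∨ p.val % 3 = 1 ∨ p.val % 3 = 2) with e | e | e <;> rw [e] <;> rfl

theorem bl_zz (p : Fin 1134) : bl (ac zz p) = bl p := by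
  rw [bl, zz_if, bl]
  split_ifs <;> omega

theorem two_zz (p : Fin 1134) : 2 * ((ac zz p).val : ZMod 6) = 2 * p.val + 2 := by
  have h : ((2 * (ac zz p).val : ℕ) : ZMod 6) = (2 * p.val + 2 : ℕ) := (ZMod.natCast_eq_natCast_iff' _ _ _).2 (by
    rw [zz_if]
    split_ifs <;> omega)
  exact_mod_cast h

theorem of_bl {α : Type} (F : Fin 1134 → α) (h : ∀ p, F (ac zz p) = F p) {p q : Fin 1134} (e : bl p = bl q) :
    F p = F q := by
  have h1 := zz_if p
  have h2 := zz_if (ac zz p)
  rw [bl, bl] at e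
  rcases (by split_ifs at h1 h2 <;> omega : q.val = p.val ∨ q.val = (ac zz p).val ∨ q.val = (ac zz (ac zz p)).val) with
    e | e | e <;> rw [Fin.ext e]
  · rw [h]
  · rw [h, h]

theorem ac_zz (g : Trip) (p : Fin 1134) : ac g (ac zz p) = ac zz (ac g p) := by rw [← ac_mul, ← (zz_comm g).eq, ac_mul]

theorem bl_ac (g : Trip) {p q : Fin 1134} (e : bl p = bl q) : bl (ac g p) = bl (ac g q) :=
  of_bl (fun p => bl (ac g p)) (fun p => by rw [ac_zz, bl_zz]) e

theorem vc_eq {p q : Fin 1134} (e : bl p = bl q) : vc p = vc q := by rw [vc, e, vc]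

/-- the first point of a block -/
def pt (b : ℕ) (h : b < 378) : Fin 1134 := ⟨3 * b, by omega⟩

theorem bl_pt (b : ℕ) (h : b < 378) : bl (pt b h) = b := Nat.mul_div_cancel_left b three_pos

/-- **the blocks are the lines** -/
theorem lines (g : Trip) : ∀ p, av g (vc p) = vc (ac g p) ∨ av g (vc p) = -vc (ac g p) := by
  refine closure_induction (p := fun g _ => ∀ p, av g (vc p) = vc (ac g p) ∨ av g (vc p) = -vc (ac g p)) ?_
    (fun p => .inl (av_one _)) (fun g h _ _ h1 h2 p => ?_) (fun g _ h p => ?_) (closure_y8 ▸ mem_top g)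
  · rintro _ ⟨j, rfl⟩ p
    have h1 : bl (ac (y8 j) p) = wd [j] (3 * bl p) / 3 := by
      rw [bl_ac _ (bl_pt _ (bl_lt p)).symm, ← mul_one (y8 j)]
      exact congrArg (· / 3) (ac_ev [j] _)
    have h2 : av (y8 j) (vc p) = ((root j).act (vv (bl p))).toFun := by
      rw [← mul_one (y8 j)]
      exact av_ev [j] _
    rw [h2, vc, h1, ← ng_toFun]
    exact (vv_gen j _ (bl_lt p)).imp (congrArg _) (congrArg _)
  · rw [av_mul, ac_mul]
    rcases h2 p with e | e <;> rw [e]
    · exact h1 _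
    · rw [av_neg, neg_inj, neg_eq_iff_eq_neg]
      exact (h1 _).symm
  · have h1 := (h (ac g⁻¹ p)).imp (congrArg (av g⁻¹)) (congrArg (av g⁻¹))
    rw [← av_mul, ← ac_mul, mul_inv_cancel, inv_mul_cancel, av_one, ac_one, av_neg] at h1
    exact h1.imp Eq.symm fun e => neg_eq_iff_eq_neg.1 e.symm

open Classical in
/-- the cocycle -/
noncomputable def cc (g : Trip) (p : Fin 1134) : ZMod 6 :=
  2 * (ac g p).val - 2 * p.val + if av g (vc p) = vc (ac g p) then 0 else 3

theorem cc_mul (g h : Trip) (p : Fin 1134) : cc (g * h) p = cc g (ac h p) + cc h p := by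
  have h3 : (3 : ZMod 6) + 3 = 0 := by decide
  rw [cc, cc, cc, av_mul, ac_mul]
  rcases lines h p with e | e <;> rw [e]
  · rw [if_pos rfl]
    ring
  rw [av_neg, if_neg (vc_ne _)]
  rcases lines g (ac h p) with e | e <;> rw [e]
  · rw [if_pos rfl, if_neg (vc_ne _)]
    ring
  · rw [neg_neg, if_pos rfl, if_neg (vc_ne _)]
    linear_combination -h3

theorem cc_one (p : Fin 1134) : cc 1 p = 0 := by rw [cc, av_one, ac_one, if_pos rfl, sub_self, add_zero]

theorem cc_bl (g : Trip) {p q : Fin 1134} (e : bl p = bl q) : cc g p = cc g q :=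
  of_bl (cc g) (fun p => by
    rw [cc, cc, ac_zz, two_zz, two_zz, vc_eq (bl_zz _), vc_eq (bl_zz _)]
    ring) e

theorem cc_conj {a : Trip} {q : Fin 1134} (e : bl (ac a q) = bl q) (h : Trip) : cc (h * a * h⁻¹) (ac h q) = cc a q := by
  have h1 := cc_mul h⁻¹ h q
  rw [inv_mul_cancel, cc_one] at h1
  rw [cc_mul, cc_mul, ← ac_mul h⁻¹, inv_mul_cancel, ac_one, cc_bl h e]
  linear_combination -h1

/-- the cocycle of a word -/
noncomputable def cw (w : List (Fin 8)) (p : ℕ) : ZMod 6 :=
  2 * wd w p - 2 * p + if actW w (vv (p / 3)) = vv (wd w p / 3) then 0 else 3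

theorem cc_ev (w : List (Fin 8)) (p : Fin 1134) : cc (ev y8 w) p = cw w p.val := by
  rw [cc, cw, vc, av_ev, vc, bl, bl, ac_ev]
  exact congrArg _ (if_congr ⟨toFun_inj, congrArg _⟩ rfl rfl)

/-- the stabiliser of a block -/
def A : Subgroup Trip where
  carrier := {g | bl (ac g 27) = bl 27}
  one_mem' := rfl
  mul_mem' h1 h2 := (bl_ac _ h2).trans h1
  inv_mem' {g} h := by
    have h1 := bl_ac g⁻¹ h
    rw [← ac_mul, inv_mul_cancel] at h1
    exact h1.symm

/-- the block is in the orbit, and the double coset does not contribute -/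
def Gb (b : ℕ) : Prop := ∃ g, ∃ a ∈ A, bl (ac g 27) = b ∧ bl (ac a (ac g 27)) = b ∧ cc a 27 ≠ cc a (ac g 27)

theorem Gb.step {q : Fin 1134} (h : Gb (bl q)) {k : Trip} (hk : k ∈ A) : Gb (bl (ac k q)) := by
  obtain ⟨g, a, h1, h2, h3, h4⟩ := h
  refine ⟨k * g, k * a * k⁻¹, A.mul_mem (A.mul_mem hk h1) (A.inv_mem hk), bl_ac k h2, ?_, ?_⟩
  · rw [← ac_mul, mul_assoc, inv_mul_cancel_left, mul_assoc]
    exact bl_ac k h3
  · rwa [← cc_bl _ hk, cc_conj h1, ac_mul k g, cc_conj (h3.trans h2.symm)]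

theorem gb_of (v w : List (Fin 8)) {b : ℕ} (h : wd w 27 / 3 = 9 ∧ wd v 27 / 3 = b ∧ wd w (wd v 27) / 3 = b ∧
    cw w 27 ≠ cw w (wd v 27)) : Gb b := by
  refine ⟨ev y8 v, ev y8 w, (congrArg (· / 3) (ac_ev w 27)).trans h.1, (congrArg (· / 3) (ac_ev v 27)).trans h.2.1, ?_, ?_⟩
  · rw [bl, ac_ev, ac_ev]
    exact h.2.2.1
  · rw [cc_ev, cc_ev, ac_ev]
    exact h.2.2.2

private noncomputable def _root_.Cfsg.Agent.LsF.ff520ef_8 : {f // @Cfsg.Agent.H64.O73Data.T = f} := ⟨_, by first | (delta Cfsg.Agent.H64.O73Data.T; (try delta Cfsg.Agent.H64.O73Data.T.match_1); (try rewrite [Cfsg.Agent.LsF.instDecEq_eq, Cfsg.Agent.LsF.dite_eq]); exact rfl) | exact rfl⟩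
private noncomputable def _root_.Cfsg.Agent.LsF.ff520ef_9 : {f // @Cfsg.Agent.MK.C3L.O.wd = f} := ⟨_, by first | (delta Cfsg.Agent.MK.C3L.O.wd; rewrite [Cfsg.Agent.LsF.ff520ef_8.2]; exact rfl) | exact rfl⟩
private noncomputable def _root_.Cfsg.Agent.LsF.ff520ef_10 : {f // @Cfsg.Agent.BZ.X.O7.rk = f} := ⟨_, by first | (delta Cfsg.Agent.BZ.X.O7.rk; rewrite [Cfsg.Agent.LsF.nmul_pat, Cfsg.Agent.LsF.nmod_pat, Cfsg.Agent.LsF.nshr_pat]; exact rfl) | exact rfl⟩
theorem rk_chk : ∀ b < 378, b = 9 ∨ b = 20 ∨ b = 141 ∨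
    ∃ w ∈ ([[0], [2], [4], [5], [7], [6, 3, 2, 1, 2, 3, 6]] : List (List (Fin 8))), wd w 27 / 3 = 9 ∧
      ∃ c ∈ [wd w (3 * b) / 3], c < 378 ∧ c ≠ 9 ∧ rk c < rk b ∧ wd w (3 * c) / 3 = b := by (refine of_decide_eq_true ?_; (try (rewrite [Cfsg.Agent.LsF.ff520ef_9.2, Cfsg.Agent.LsF.ff520ef_10.2, Cfsg.Agent.LsF.nmul_pat, Cfsg.Agent.LsF.ndiv_pat, Cfsg.Agent.LsF.instDecEq_eq, Cfsg.Agent.LsF.decLt_eq, Cfsg.Agent.LsF.dAnd_eq, Cfsg.Agent.LsF.dOr_eq, Cfsg.Agent.LsF.dNot_eq, Cfsg.Agent.LsF.dBEx_eq, Cfsg.Agent.LsF.dBallLT_eq, Cfsg.Agent.LsF.decide_eq])); decide +kernel)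

theorem gb : ∀ n, ∀ b < 378, rk b < n → b ≠ 9 → Gb b
  | 0, _, _, h, _ => absurd h (Nat.not_lt_zero _)
  | n + 1, b, hb, h, h9 => by
    rcases rk_chk b hb with e | rfl | rfl | ⟨w, -, h1, c, -, h2, h3, h4, h5⟩
    · exact absurd e h9
    · exact gb_of [1] [0, 2] (by decide +kernel)
    · exact gb_of [3, 2, 6, 4, 2, 3] [3, 4, 2, 3, 1, 2, 6, 5, 4, 3, 2, 1, 0, 1, 2, 3, 4, 5, 6, 2, 1, 3, 2, 4, 3, 5, 4, 7]
        (by decide +kernel)
    · have h6 := Gb.step (q := pt c h2) ((bl_pt c h2).symm ▸ gb n c h2 (by omega) h3) (k := ev y8 w)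
        ((congrArg (· / 3) (ac_ev w 27)).trans h1)
      rw [bl, ac_ev] at h6
      exact h5 ▸ h6

theorem index_A : A.index = 378 := by
  have h1 : QuotientGroup.leftRel A = Setoid.ker fun g => bl (ac g 27) := Setoid.ext fun g h => by
    rw [QuotientGroup.leftRel_apply, Setoid.ker_def]
    refine ⟨fun e => ?_, fun e => ?_⟩
    · have h1 := bl_ac g e
      rw [← ac_mul, mul_inv_cancel_left] at h1
      exact h1.symm
    · have h1 := bl_ac g⁻¹ e
      rw [← ac_mul, inv_mul_cancel] at h1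
      exact h1.symm
  have h2 : (Set.range fun g => bl (ac g 27)) = Set.Iio 378 := Set.ext fun b => ⟨fun ⟨_, e⟩ => e ▸ bl_lt _, fun hb => by
    by_cases e : b = 9
    · exact ⟨1, e.symm⟩
    · obtain ⟨g, -, -, h2, -⟩ := gb _ b hb (Nat.lt_succ_self _) e
      exact ⟨g, h2⟩⟩
  change Nat.card (Quotient (QuotientGroup.leftRel A)) = _
  rw [h1, Nat.card_congr (Setoid.quotientKerEquivRange _), h2]
  simp only [_root_.Nat.card_eq_fintype_card, _root_.Finset.mem_Iio, _root_.Set.mem_Iio, _root_.implies_true, _root_.Fintype.card_ofFinset, _root_.Nat.card_Iio]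

/-- the linear character -/
noncomputable def xi : A →* ℂˣ := MonoidHom.mk' (fun a => Circle.toUnits (ZMod.toCircle (cc a 27))) fun a b => by
  rw [← map_mul, ← AddChar.map_add_eq_mul, coe_mul, cc_mul, cc_bl _ b.2]

theorem xi_inj {a b : A} (h : xi a = xi b) : cc a 27 = cc b 27 :=
  ZMod.injective_toCircle (Subtype.ext (congrArg Units.val h))

theorem ind_cen {G : Type} [Group G] [Fintype G] (H : Subgroup G) (θ : H → ℂ) {z : H} (hz : ∀ x : G, Commute (z : G) x) :
    indFun H θ z = H.index * θ z := by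
  have h1 : ∀ x : G, extendByZero H θ (x⁻¹ * z * x) = θ z := fun x => by
    rw [mul_assoc, (hz x).eq, inv_mul_cancel_left]
    exact Subtype.val_injective.extend_apply θ 0 z
  simp only [indFun, h1, Finset.sum_const, Finset.card_univ, nsmul_eq_mul]
  rw [← Nat.card_eq_fintype_card, ← H.card_mul_index, Nat.cast_mul, mul_assoc,
    inv_mul_cancel_left₀ (Nat.cast_ne_zero.2 Nat.card_pos.ne')]

/-- **a faithful character of degree `378`** -/
theorem chi : ∃ χ : Trip → ℂ, IsIrrCharacter Trip χ ∧ χ 1 = (378 : ℕ) ∧ χ zz ≠ χ 1 := by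
  have := Fintype.ofFinite Trip
  have h1 := ind_cen A (fun x => (xi x : ℂ)) (z := 1) fun x => Commute.one_left x
  have h2 := ind_cen A (fun x => (xi x : ℂ)) (z := ⟨zz, bl_zz 27⟩) zz_comm
  refine ⟨_, OddOrderCharacters.PF9.MackeyIrr.isIrr_ind A xi fun g h => ?_,
    h1.trans (by rw [index_A, map_one, Units.val_one, mul_one]), fun e => ?_⟩
  · by_contra hg
    obtain ⟨k, a, h3, h4, h5, h6⟩ := gb _ _ (bl_lt (ac g⁻¹ 27)) (Nat.lt_succ_self _) fun e => hg (A.inv_mem_iff.1 e)
    have h7 := (bl_ac a h4).symm.trans h5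
    have h8 := cc_conj h7 g
    have h9 := bl_ac g h7
    rw [← ac_mul g g⁻¹, mul_inv_cancel] at h8 h9
    exact h6 ((xi_inj (h ⟨a, h3⟩ ⟨g * a * g⁻¹, h9⟩ rfl)).trans (h8.trans (cc_bl a h4.symm)))
  · have h3 := xi_inj (Units.ext (mul_left_cancel₀ (Nat.cast_ne_zero.2 index_ne_zero_of_finite)
      (h2.symm.trans (e.trans h1))))
    rw [OneMemClass.coe_one, cc_one, cc, two_zz, av, pi_zz, map_one, mat_one, one_mulVec, vc_eq (bl_zz _), if_pos rfl,
      add_sub_cancel_left] at h3
    exact absurd h3 (by decide)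

open H133.FibPce in
theorem dg378 : Dg 3 H8 (· = 378) := fun K _ _ φ h0 h1 h2 h3 => by
  have : Fact (Nat.Prime 3) := ⟨Nat.prime_three⟩
  have hφ : PCE φ := ⟨h1, h2.le, h0.1.commutator_eq_top⟩
  have hπ : PCE _root_.Cfsg.Agent.MK.C3L.O.pi := ⟨ext_pi.surj, ext_pi.ker.le.trans ext_pi.cen, perfect⟩
  have h5 : Nat.card pi.ker = 3 := ext_pi.ker ▸ ext_pi.card
  rcases dichotomy hφ hπ (by rw [h5]; exact Nat.prime_three) ((h2 ▸ h3).trans h5.symm) with h | ⟨e, he⟩
  · have h6 : Nat.card (pj φ _root_.Cfsg.Agent.MK.C3L.O.pi).ker = 3 ^ 2 := by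
      rw [Nat.card_congr (kerFib φ _root_.Cfsg.Agent.MK.C3L.O.pi).toEquiv, Nat.card_prod, h2, h3, h5, pow_two]
    exact absurd (h6 ▸ H64.O73Upper.card_ker_le (pce_fib hφ hπ h) (IsPGroup.of_card h6)) (by decide)
  have h6 : e.symm zz ∈ center K := by rw [← h2, MonoidHom.mem_ker, ← he, e.apply_symm_apply, pi_zz]
  obtain ⟨χ, h7, h8, h9⟩ := chi
  refine ⟨_, rfl, ⟨_, ODD.Red.isIrr_comp' e.toMonoidHom e.surjective h7⟩,
    T.faith_of_prime Nat.prime_three h3 h6 fun h10 => h9 ?_,
    Blocks.Basic.charDegree_of_eq ((congrArg χ (map_one e)).trans h8)⟩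
  exact (congrArg χ (e.apply_symm_apply zz)).symm.trans (h10.trans (congrArg χ (map_one e)))

theorem cov : Cov XP 3 2 H8 := fun K _ _ σ _ _ D H hc => by
  have : Fact (Nat.Prime 2) := ⟨Nat.prime_two⟩
  by_cases h : 2 ^ 4 ∣ Nat.card D
  · obtain ⟨_, rfl, χ, h1, h2⟩ := dg378 K σ H.qs H.surj H.ker hc
    refine H.not_XP (rb _ H.locB (H.ce.dvd_map h)) χ h1 (rb.top H.ce H.hM χ ?_) (h2 ▸ by decide)
    rw [h2, card_H8]
    decide +kernel
  · exact C1.not_XP_eight H h

/-- **the row of `3.Ω₇(3)`** -/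
theorem o73 (F : Type) [Field F] [Fintype F] (hF : Fintype.card F = 3) : Cov XP 3 2 (POmega F (quadFormOdd 3 F)) :=
  (MK.S7.O7.iso_H8 F hF).elim fun e => cov.of_equiv e

theorem rb_o73 (F : Type) [Field F] [Fintype F] (hF : Fintype.card F = 3) : RB 2 4 (POmega F (quadFormOdd 3 F)) :=
  have := MK.S7.O7.fin8
  have : Fact (Nat.Prime 2) := ⟨Nat.prime_two⟩
  (MK.S7.O7.iso_H8 F hF).elim fun e => have := Finite.of_equiv _ e.symm.toEquiv; rb.congr e.symm

end Cfsg.Agent.BZ.X.O7

private theorem dce_87a5c0bf77a8 : _root_.True := by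
  try have : _root_.True := by simp only [_root_.Cfsg.Agent.BZ.X.O7.av.eq_1]
  try have : _root_.True := by simp only [_root_.Cfsg.Agent.H64.O73Perm.sh.eq_1]
  try have : _root_.True := by simp only [_root_.Cfsg.Agent.BZ.X.O7.cc.eq_1]
  try have : _root_.True := by simp only [_root_.Cfsg.Agent.BZ.X.O7.bl.eq_1]
  try have : _root_.True := by simp only [_root_.Cfsg.Agent.BZ.X.O7.vc.eq_1]
  try have : _root_.True := by simp only [_root_.Cfsg.Agent.BZ.X.O7.cw.eq_1]
  exact _root_.True.intro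
end

-- part: BZ/L/T2/Main
section
prune_inst 0x604104c701b62000000188010e0005872c20004900043080040a00904088549620903ef016c201512100a2ac00035006811100050c20000000a000000000405211868100451c10c0002008000328a200002000000000000000000000000000004200000000
set_option linter.all false
open scoped Cfsg.Agent.FastGrp

/-!
# BZ / L / T2 : the defects in a Harish-Chandra series (helper94)

* `icc` : the induced central character of a tight character at a generic element; `cong` : the congruence modulo `r`;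
* `boxT2`.
-/

set_option autoImplicit false
set_option linter.unusedSectionVars false

namespace Cfsg.Agent.BZ.L

open Cfsg Subgroup Cfsg.Agent.HZ.Gen Cfsg.Agent.Characters Cfsg.Agent.Characters.Core Cfsg.Agent.Blocks Cfsg.Agent.Blocks.Basic
  Cfsg.Agent.BZ.Lab Cfsg.Agent.DL Cfsg.Agent.KZ.Lie

namespace Hc

variable {r n : ℕ} [hr : Fact r.Prime] {K : Type} [Group K] [Fintype K] {P : Subgroup K} [Fintype (centralizer (P : Set K))]
  {ψ : IrrCharacter (centralizer (P : Set K))} (hB : Big K r n) (hP : IsPGroup r P)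
  (hT : Tight r (centralizer (P : Set K)).subtype P ψ.1)
include hB hP hT

theorem mem_nor {x g : K} (h : centralizer {x} = centralizer (P : Set K)) (hx : x ∈ P) (hg : g * x * g⁻¹ ∈ P) :
    g ∈ normalizer (P : Set K) := by
  have h1 : ∀ y ∈ centralizer {g * x * g⁻¹}, g⁻¹ * y * g ∈ centralizer (P : Set K) := fun y hy =>
    h ▸ mem_cen.2 (by simpa [mul_assoc] using (mem_cen.1 hy).map (MulAut.conj g⁻¹))
  have h2 : centralizer (P : Set K) = centralizer {g * x * g⁻¹} := eq_of_le_of_card_ge (centralizer_le (Set.singleton_subset_iff.2 hg))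
    (Nat.card_le_card_of_injective (fun y => ⟨_, h1 y.1 y.2⟩) fun y z e =>
      Subtype.ext (mul_left_cancel (mul_right_cancel (congrArg Subtype.val e))))
  refine mem_normalizer_fintype fun a ha => ?_
  have h3 : g * a * g⁻¹ ∈ centralizer (P : Set K) :=
    h2 ▸ mem_cen.2 ((show Commute a x from hB.ab' hP hx a ha).map (MulAut.conj g))
  have h4 : (⟨_, h3⟩ : centralizer (P : Set K)) ∈ center _ := mem_center_iff.2 fun y => Subtype.ext (by
    have h5 := h1 y (h2 ▸ y.2) a ha
    calc y.1 * (g * a * g⁻¹) = g * (g⁻¹ * y * g * a) * g⁻¹ := by group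
      _ = g * a * g⁻¹ * y := by rw [← h5]; group)
  obtain ⟨ω, hω⟩ := exists_omega ψ.2 (center _).subtype fun z => z.2
  refine Is.van hB hP (subtype_injective _) (range_subtype _) hT (g := ⟨_, h3⟩) (x := ⟨_, h3⟩) (PPart.isPPart_of_isPGroup ?_) ?_
  · rw [orderOf_mk, ← MulAut.conj_apply, MulEquiv.orderOf_eq]
    exact ord_of_mem hP ha
  · have h7 := hω ⟨_, h4⟩ 1
    rw [mul_one] at h7
    exact fun h8 => mul_ne_zero (Units.ne_zero _) (irr_one_ne_zero ψ.2) (h7.symm.trans h8)

/-- the induced central character at a generic element -/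
theorem icc {x : K} (h : centralizer {x} = centralizer (P : Set K)) (hx : x ∈ P) :
    inducedCentralChar _ ψ.1 x = (centralizer (P : Set K)).relIndex (normalizer (P : Set K)) := by
  let : MulAction (normalizer (P : Set K)) K := MulAction.compHom K (MulAut.conj.comp (normalizer (P : Set K)).subtype)
  have h1 : MulAction.stabilizer (normalizer (P : Set K)) x = (centralizer (P : Set K)).subgroupOf _ := Subgroup.ext fun g => by
    rw [mem_subgroupOf, ← h, mem_cen]
    exact mul_inv_eq_iff_eq_mul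
  have h2 : MulAction.orbit (normalizer (P : Set K)) x =
      Subtype.val '' {y : centralizer (P : Set K) | IsConj x y ∧ y.1 ∈ P} := Set.ext fun y => by
    refine ⟨fun ⟨g, e⟩ => ?_, ?_⟩
    · have h3 : y ∈ P := e ▸ (mem_normalizer_iff.1 g.2 x).1 hx
      exact ⟨⟨y, hB.ab' hP h3⟩, ⟨isConj_iff.2 ⟨g, e⟩, h3⟩, rfl⟩
    · rintro ⟨y, ⟨h3, h4⟩, rfl⟩
      obtain ⟨g, e⟩ := isConj_iff.1 h3
      exact ⟨⟨g, mem_nor hB hP hT h hx (e ▸ h4)⟩, e⟩
  rw [relIndex, ← h1, MulAction.index_stabilizer, h2, Set.ncard_image_of_injective _ Subtype.val_injective, inducedCentralChar,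
    finsum_mem_inter_support_eq' _ {y : centralizer (P : Set K) | IsConj x y} {y : centralizer (P : Set K) | IsConj x y ∧ y.1 ∈ P}
      fun y hy => ⟨fun e => ⟨e, ?_⟩, And.left⟩,
    finsum_mem_congr rfl (g := fun _ => (1 : ℂ)) fun y hy => ?_, finsum_mem_eq_finite_toFinset_sum _ (Set.toFinite _), Finset.sum_const,
    nsmul_one, Set.ncard_eq_toFinset_card]
  · rw [← mul_one y, hT.1 y hy.2, div_self (irr_one_ne_zero ψ.2)]
  · refine Is.van hB hP (subtype_injective _) (range_subtype _) hT (PPart.isPPart_of_isPGroup ?_) fun e => hy (by simp [e])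
    rw [← orderOf_coe, ← Om.ord_eq e]
    exact ord_of_mem hP hx

/-- **the congruence** -/
theorem cong (hb : bd n 1 < r) {ξ : IrrCharacter K} (hξ : Sm r 1 ξ.1) (h0 : Un r (centralizer (P : Set K)).subtype P ψ.1 ξ.1) :
    ∃ a ω : ℤ, a ≠ 0 ∧ |a| ≤ (2 * n : ℕ) ∧ ((Orb (centralizer (P : Set K)).subtype P ψ.1).ncard : ℤ) ∣ a ∧
      (r : ℤ) ∣ ((centralizer (P : Set K)).relIndex (normalizer (P : Set K)) : ℕ) - ω ∧
      a * (Nat.card K * charDegree ψ.1) = ω * (Nat.card (centralizer (P : Set K)) * charDegree ξ.1) := by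
  classical
  have := finite_irr (G := centralizer (P : Set K))
  have hι := subtype_injective (centralizer (P : Set K))
  obtain ⟨a, ha⟩ := boxOrb.orb hr.out hB hb hP hι (range_subtype _) hξ hT h0
  rw [Set.ncard_eq_toFinset_card _ (Set.toFinite _)]
  set T := (Set.toFinite (Orb (centralizer (P : Set K)).subtype P ψ.1)).toFinset
  have h1 : rs r P ξ ∘ (centralizer (P : Set K)).subtype = (a : ℂ) • ∑ φ ∈ T, φ.1 := funext fun y => by
    rw [Function.comp_apply, ha, finsum_mem_eq_finite_toFinset_sum, Pi.smul_apply, Finset.sum_apply, smul_eq_mul]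
  have h2 : a ≠ 0 := fun e => h0 (by rw [h1, e, Int.cast_zero, zero_smul, classInner_zero_left])
  have h3 : ψ ∈ T := (Set.Finite.mem_toFinset _).2 ⟨1, one_mem _, fun y y' h1 => by rw [hι (a₁ := y') (a₂ := y) (h1.trans (by simp))]⟩
  have h4 : a.natAbs * T.card ≤ 2 * n := by
    have h5 := hB.rs_nrm hP hξ hb hι (range_subtype _)
    have h6 : classInner (∑ φ ∈ T, φ.1) (∑ φ ∈ T, φ.1) = T.card := by
      rw [classInner_sum_left, Finset.card_eq_sum_ones, Nat.cast_sum]
      refine Finset.sum_congr rfl fun φ hφ => ?_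
      rw [classInner_sum_right, Finset.sum_eq_single φ (fun η _ e => classInner_irr_ne φ.2 η.2 fun e' => e (Subtype.ext e').symm)
        (fun e => absurd hφ e), classInner_irr_self φ.2, Nat.cast_one]
    rw [h1, classInner_smul_left, classInner_smul_right, h6, map_intCast, ← mul_assoc, ← Int.cast_mul, ← Int.natAbs_mul_self,
      Int.cast_natCast, ← Nat.cast_mul, Complex.natCast_re, Nat.cast_le] at h5
    have h8 := Nat.mul_le_mul_right T.card (Nat.le_mul_self a.natAbs)
    omega
  obtain ⟨x, hx, e1, e2⟩ := hB.gel_spec hP (by have := two_mul_lt hb; omega) (one_mem _)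
  have h5 : centralizer {x} = centralizer (P : Set K) := le_antisymm
    (e2 x (by rw [mul_one]; exact PPart.isPPart_of_isPGroup (ord_of_mem hP hx))) (centralizer_le (Set.singleton_subset_iff.2 hx))
  have h6 : centralChar ξ.1 x = ((centralizer (P : Set K)).index * (a * T.card * charDegree ψ.1) : ℤ) / (charDegree ξ.1 : ℤ) := by
    have h7 := congrFun h1 1
    rw [Function.comp_apply, map_one, rs, e1, mul_one, Pi.smul_apply, Finset.sum_apply,
      Finset.sum_congr rfl fun φ hφ => Os.deg_orb ((Set.Finite.mem_toFinset _).1 hφ), Finset.sum_const, irr_one_eq_charDegree ψ.2] at h7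
    rw [centralChar, h5, h7, irr_one_eq_charDegree ξ.2]
    simp [mul_assoc, T]
  have h7 : (charDegree ξ.1 : ℤ) ≠ 0 := Nat.cast_ne_zero.2 (charDegree_pos ξ.2).ne'
  obtain ⟨ω, hω⟩ := H599.Galois.nat_dvd_of_integral h7 (h6 ▸ Central.isIntegral_centralChar ξ.2 x)
  obtain ⟨M, hM⟩ := ExistsModular.exists_isPModular hr.out
  have := Local.isPrime_of_isPModular hM
  have h8 := (hB.rs_block hP hM (isPBlock_blockOf ξ) (mem_blockOf_self ξ) hξ hb rfl ψ h0).2.2 ψ (mem_blockOf_self ψ) ξ
    (mem_blockOf_self ξ) x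
  rw [icc hB hP hT h5 hx, h6, hω, Int.cast_mul, mul_div_cancel_left₀ _ (Int.cast_ne_zero.2 h7), ← Int.cast_natCast, ← Int.cast_sub,
    Local.memLocalIdeal_intCast_iff hM] at h8
  refine ⟨a * T.card, ω, mul_ne_zero h2 (Nat.cast_ne_zero.2 (Finset.card_pos.2 ⟨ψ, h3⟩).ne'), ?_, dvd_mul_left _ _, h8, ?_⟩
  · rw [← Int.natCast_natAbs, Int.natAbs_mul]
    exact Nat.cast_le.2 h4
  · rw [← (centralizer (P : Set K)).card_mul_index, Nat.cast_mul]
    linear_combination (Nat.card (centralizer (P : Set K)) : ℤ) * hω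

end Hc

open Hc in
/-- **the defects in a Harish-Chandra series** -/
theorem boxT2 : BoxT2 := by
  intro p _ q d l n c hq
  rcases Nat.eq_zero_or_pos n with rfl | hn
  · exact Lg.of_forall fun _ _ _ _ _ _ _ _ _ _ _ _ _ _ _ _ _ h => absurd h.n0 (lt_irrefl 0)
  refine (((arith Fact.out hq (cy_EE hn c) (fam_finite hn c) c (2 * (c * 2 ^ c))).and (Lg.lvl hn)).and
    (Lg.gt (bd (c * 2 ^ c) 1 + c + p))).mono fun m => ?_
  intro ⟨⟨hA, j, hj⟩, hm⟩ r hr k _ _ Y _ N _ _ ρ F G _ X hX _ n' N' α M hF hM B P _ β b T ξ hξ ψ hψ h0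
  have := Fact.mk hr.rp
  have := Fact.mk hq.lp
  have hm0 : 0 < m := by omega
  have h1 := hr.mr
  have h2 := hX.w
  have h3 : ¬ r ∣ Nat.card (X.pow hm0).W := fun e => (Nat.le_of_dvd Nat.card_pos e).not_gt (show Nat.card X.W < r by omega)
  have h4 : nb (X.pow hm0) ≤ c * 2 ^ c := Nat.mul_le_mul h2 (Nat.pow_le_pow_right two_pos hX.rt)
  have hB := big_GF (X.pow hm0) (show r ≠ p by omega) h3
  have h5 : ∀ w, Ot n c ((q : ℤ) ^ m) (ordT (X.pow hm0) w) := fun w => by
    obtain ⟨A, e1, e2⟩ := hX.lq w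
    obtain ⟨A', e3, e4⟩ := hX.lq 1
    rw [X.Wm_one, one_mul] at e3
    rw [Nat.cast_one, one_smul] at e2 e4
    have e5 : X.Wm w * X.Mx ^ m = (q : ℤ) ^ m • A := by
      rw [hj, pow_add, pow_one, ← mul_assoc, e1, e3, smul_pow, pow_mul A', e4, one_pow, smul_mul_smul_comm, mul_one, pow_add, pow_one]
    show Ot n c _ (X.Wm w * X.Mx ^ m - 1).det.natAbs
    exact e5 ▸ ot_of hn e2 hX.rk _
  obtain ⟨a, ω, h6, h7, ⟨u, rfl⟩, h8, h9⟩ := cong hB T.rp (boxOs.all (hF.fr r hr.rp h1) hM T ψ hψ).1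
    ((bd_mono h4 le_rfl).trans_lt (by omega)) (boxSt.rat (hF.fr r hr.rp h1) ξ (T.sB ξ hξ)) h0
  obtain ⟨s, hs⟩ := Knorr.charDegree_dvd ξ.2
  obtain ⟨t, ht⟩ := Knorr.charDegree_dvd ψ.2
  have h10 := charDegree_pos ξ.2
  have h11 := charDegree_pos ψ.2
  have h12 : (centralizer (P : Set ↥(GF (F ^ m) G))).relIndex (normalizer (P : Set ↥(GF (F ^ m) G))) ≠ 0 := index_ne_zero_of_finite
  have h13 := hA r hr s _ t _ h10 h11 (mul_comm s _ ▸ hs ▸ cd (D := X.pow hm0) h2 h5 ξ.2)
    (mul_comm t _ ▸ ht ▸ cd_cen (D := X.pow hm0) h2 h5 (show r ≠ p by omega) h3 T.rp ψ) _ ω _ h6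
    (h7.trans (Nat.cast_le.2 (by omega))) (Nat.pos_of_ne_zero h12) ((hB.nor' T.rp).trans (by omega)) h8
    (mul_right_cancel₀ (mul_ne_zero (Nat.cast_ne_zero.2 h10.ne') (Nat.cast_ne_zero.2 h11.ne')) (by
      rw [hs, ht, Nat.cast_mul, Nat.cast_mul] at h9
      linear_combination h9))
  have h14 : s ≠ 0 := right_ne_zero_of_mul (hs ▸ Nat.card_pos.ne')
  have h15 : t ≠ 0 := right_ne_zero_of_mul (ht ▸ Nat.card_pos.ne')
  rw [padicValInt.mul h6 (Nat.cast_ne_zero.2 h14), padicValInt.mul (left_ne_zero_of_mul h6) (right_ne_zero_of_mul h6),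
    padicValInt.mul (Nat.cast_ne_zero.2 h12) (Nat.cast_ne_zero.2 h15)] at h13
  simp only [padicValInt.of_nat, ← Nat.factorization_def _ hq.lp] at h13
  rw [hs, ht, Nat.factorization_mul h10.ne' h14, Nat.factorization_mul h11.ne' h15, Finsupp.add_apply, Finsupp.add_apply]
  omega

end Cfsg.Agent.BZ.L
end

-- part: BZ/L/TA/All
section
prune_inst 0x2341051301e2200000000000040005e526a000090004b88004080020406840400090026214000111a000a004400350028111000000000000000000600011d048108c0100071c10008620087001388610002000000000000000000000000000004204010000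
set_option linter.all false
open scoped Cfsg.Agent.FastGrp

-- part: BZ/L/TA/Ta2b
section
/-!
# BZ / L / TA : blocks above a normal subgroup (helper24)

* `ex_over` : a stable character above a stable character; `mx_up` : the `r`-defects; `card_le`.
-/

set_option autoImplicit false
set_option linter.unusedSectionVars false
set_option linter.style.haveILetI false
set_option maxHeartbeats 400000

namespace Cfsg.Agent.BZ.TA.T2b

open Cfsg Subgroup Cfsg.Agent Cfsg.Agent.Blocks Cfsg.Agent.Characters.Core Cfsg.Agent.BZ.Lab Cfsg.Agent.BZ.L Cfsg.Agent.TID.Red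
open scoped ComplexConjugate

variable {l r m N j j' : ℕ} {K L : Type} [Group K] [Fintype K] [Group L] [Fintype L] {α : MulAut K} {β : MulAut L} {ι : L →* K}
  {M : Ideal AlgInt}

theorem deg_dvd (χ : IrrCharacter K) : charDegree χ.1 ∣ Nat.card K := by
  obtain ⟨_, n, ρ, hρ, rfl⟩ := χ
  have h2 : charDegree ρ.character = Module.finrank ℂ (Fin n → ℂ) := by
    rw [charDegree, Representation.char_one]
    simp only [_root_.Module.finrank_fintype_fun_eq_card, _root_.Fintype.card_fin, _root_.Complex.natCast_re, _root_.Nat.floor_natCast]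
  exact h2 ▸ Characters.DegreeBounds.finrank_dvd_card ρ

/-- a stable character above a stable character -/
theorem ex_over (h : Gl l m N K α) (e : Emb ι β α) {ψ : IrrCharacter L} (hψ : St β (ψ : L → ℂ)) :
    ∃ χ : IrrCharacter K, St α (χ : K → ℂ) ∧ TID.Red.Ov ι (χ : K → ℂ) (ψ : L → ℂ) := by
  classical
  haveI : Finite (IrrCharacter K) := finite_irr
  letI := Fintype.ofFinite (IrrCharacter K)
  choose a ha using fun χ : IrrCharacter K => classInner_isNat (isCharacter_comp' ι (isIrr_isCharacter χ.2)) (isIrr_isCharacter ψ.2)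
  have h1 : Nat.card L * ∑ χ : IrrCharacter K, charDegree χ.1 * a χ = Nat.card K * charDegree ψ.1 := by
    have h2 : (Nat.card L : ℂ) ≠ 0 := Nat.cast_ne_zero.2 Nat.card_pos.ne'
    refine Nat.cast_injective (R := ℂ) ?_
    have h3 : ∀ χ : IrrCharacter K, (Nat.card L : ℂ) * (charDegree χ.1 * a χ) = ∑ x, χ.1 1 * χ.1 (ι x) * conj (ψ.1 x) := fun χ => by
      rw [← ha, ← Basic.irr_one_eq_charDegree χ.2, classInner_def, mul_left_comm, mul_inv_cancel_left₀ h2, Finset.mul_sum]
      simp only [mul_assoc]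
    simp only [Nat.cast_mul, Nat.cast_sum, Finset.mul_sum, h3]
    rw [Finset.sum_comm]
    simp only [← Finset.sum_mul, Characters.Counting.sum_irr_one_mul, map_eq_one_iff ι e.inj, ite_mul, zero_mul,
      Finset.sum_ite_eq', Finset.mem_univ, if_true]
    rw [Basic.irr_one_eq_charDegree ψ.2, map_natCast]
  have h3 : ∀ χ, a (H662.tr α χ) = a χ := fun χ => Nat.cast_injective (R := ℂ) (by
    rw [← ha, ← ha, ← H710.Gow.Star.inner_bij β.toMonoidHom β.bijective]
    congr 1
    · exact funext fun y => (congrArg _ (e.cm y)).trans (H662.tr_apply_map α χ _)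
    · exact funext hψ)
  have h4 : ∀ χ, charDegree (H662.tr α χ).1 = charDegree χ.1 := fun χ => by
    rw [charDegree, charDegree, ← H662.tr_apply_map α χ, map_one]
  obtain ⟨⟨χ, i⟩, h5, h6⟩ := Stb.exists_fix (f := fun x : Σ _ : IrrCharacter K, ℕ => ⟨H662.tr α x.1, x.2⟩)
    (S := (Finset.univ.sigma fun χ : IrrCharacter K => Finset.range (charDegree χ.1 * a χ) : Finset _)) h.mp (Finset.finite_toSet _)
    (fun x hx => by
      simp only [Finset.mem_coe, Finset.mem_sigma, Finset.mem_univ, true_and, h3, h4] at hx ⊢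
      exact hx)
    (fun x => by
      have : ∀ k, (fun x : Σ _ : IrrCharacter K, ℕ => (⟨H662.tr α x.1, x.2⟩ : Σ _ : IrrCharacter K, ℕ))^[k] x =
          ⟨(H662.tr α)^[k] x.1, x.2⟩ := fun k => by
        induction k with
        | zero => rfl
        | succ k ih => rw [Function.iterate_succ_apply', Function.iterate_succ_apply', ih]
      rw [this, Stb.tr_per h.pow])
    (fun h5 => by
      rw [Set.ncard_coe_finset, Finset.card_sigma] at h5
      simp only [Finset.card_range] at h5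
      exact (h.mp.dvd_mul.1 (h1 ▸ h5.mul_left _)).elim h.cop fun h6 =>
        h.cop (h6.trans ((deg_dvd ψ).trans (card_dvd_of_injective ι e.inj))))
  refine ⟨χ, Stb.tr_iff.1 (congrArg Sigma.fst h6), (ov_iff _ _ _).2 fun h7 => ?_⟩
  rw [ha, Nat.cast_eq_zero] at h7
  simp only [h7, _root_.Finset.coe_sigma, _root_.Finset.coe_univ, _root_.Finset.coe_range, _root_.Set.mem_sigma_iff, _root_.Set.mem_univ, _root_.MulZeroClass.mul_zero, _root_.isMin_iff_eq_bot, _root_.Nat.bot_eq_zero, _root_.IsMin.Iio_eq, _root_.Set.mem_empty_iff_false, _root_.and_false] at h5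

theorem dvd_of_ov (hι : Function.Injective ι) (hn : ι.range.Normal) {χ : IrrCharacter K} {ψ : IrrCharacter L}
    (h : TID.Red.Ov ι (χ : K → ℂ) (ψ : L → ℂ)) : charDegree ψ.1 ∣ charDegree χ.1 := by
  letI := Fintype.ofFinite ι.range
  have h1 : ∀ y : ι.range, ι.range.subtype y = ι ((MonoidHom.ofInjective hι).symm y) := fun y =>
    (MonoidHom.apply_ofInjective_symm hι y).symm
  obtain ⟨a, ha⟩ := CharDeep.PowerDegrees.degree_dvd ι.range χ.2 (Subtype.prop _) ((ov_subtype_iff _ _ _).1 ((ov_src_iff _ h1 _ ψ).2 h))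
  rw [Basic.irr_one_eq_charDegree (Subtype.prop _), Basic.irr_one_eq_charDegree (Subtype.prop _), charDegree_tr] at ha
  exact ⟨a, by rw [mul_comm]; exact_mod_cast ha⟩

/-- the defects of the members of a covering block -/
theorem mx_up (hM : IsPModular l M) (hι : Function.Injective ι) (hn : ι.range.Normal) {B : Set (IrrCharacter K)} (hB : IsPBlock M B)
    {b : Set (IrrCharacter L)} (hb : IsPBlock M b) (hc : CovH ι B b) (mx : Mx r j b)
    (hj : (Nat.card K).factorization r + j ≤ (Nat.card L).factorization r + j') : Mx r j' B := fun ξ hξ => by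
  haveI := Fact.mk hM.1
  obtain ⟨ψ, h1⟩ := exists_ov ι ξ.2
  obtain ⟨w, θ, h2, h3⟩ := Df.conj_of_covH hM hι hn hB hb hc hξ h1
  have h4 : charDegree ψ.1 = charDegree θ.1 := by rw [charDegree, charDegree, h3 1 1 (by simp)]
  have h5 := (Nat.factorization_le_iff_dvd (Basic.charDegree_pos ψ.2).ne' (Basic.charDegree_pos ξ.2).ne').2 (dvd_of_ov hι hn h1) r
  have h6 := mx θ h2
  unfold KM.Si.Tt at h6 ⊢
  rw [h4] at h5
  omega

theorem card_le {A P : Subgroup K} [A.Normal] (h : ¬ r ∣ (P ⊔ A).index) {a : ℕ} (ha : a ∣ Nat.card ↥(A ⊓ P)) :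
    (Nat.card K).factorization r + a.factorization r ≤ (Nat.card A).factorization r + (Nat.card P).factorization r := by
  have h0 : ∀ A B : Subgroup K, A.relIndex B ≠ 0 := fun _ _ => index_ne_zero_of_finite
  have h1 : ∀ {A B : Subgroup K}, A ≤ B → Nat.card B = Nat.card A * A.relIndex B := fun h => by
    rw [← Nat.card_congr (subgroupOfEquivOfLe h).toEquiv]
    exact (card_mul_index _).symm
  have h2 := (Nat.factorization_le_iff_dvd (ne_zero_of_dvd_ne_zero Nat.card_pos.ne' ha) Nat.card_pos.ne').2 ha r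
  rw [← card_mul_index (P ⊔ A), h1 (le_sup_right : A ≤ P ⊔ A), relIndex_sup_right, h1 (inf_le_right : A ⊓ P ≤ P), inf_relIndex_right,
    Nat.factorization_mul (mul_ne_zero Nat.card_pos.ne' (h0 _ _)) index_ne_zero_of_finite, Nat.factorization_mul Nat.card_pos.ne' (h0 _ _),
    Nat.factorization_mul Nat.card_pos.ne' (h0 _ _)]
  simp only [Finsupp.add_apply, Nat.factorization_eq_zero_of_not_dvd h]
  omega

end Cfsg.Agent.BZ.TA.T2b
end

-- part: BZ/L/Fm
section
/-!
# BZ / L : the frames exist uniformly (helper60)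

`Cs.ordT_dvd`, `Cs.card_le` : the orders are bounded in the class; `boxFm : BoxFm`.
-/

set_option autoImplicit false
set_option linter.unusedSectionVars false

namespace Cfsg.Agent.BZ.L

open Cfsg Subgroup Cfsg.Agent.HZ.Gen Cfsg.Agent.BZ.Lab Cfsg.Agent.DL Cfsg.Agent.KZ.Lie Cfsg.Agent.DL.Uni Polynomial

namespace FmA

theorem prod_le {W : Type} [Fintype W] {a : W → ℤ} {B c : ℕ} (hB : 0 < B) (h : ∀ w, (a w).natAbs ≤ B)
    (hc : Fintype.card W ≤ c) (s : Finset W) : (∏ w ∈ s, a w).natAbs ≤ B ^ c := by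
  rw [← Int.natAbsHom_apply, map_prod]
  exact (Finset.prod_le_pow_card _ _ B fun w _ => h w).trans (Nat.pow_le_pow_right hB (s.card_le_univ.trans hc))

theorem le_of_mul {x : ℕ} {s t : ℤ} (h : x * s = t) (hs : s ≠ 0) : x ≤ t.natAbs := by
  rw [← h, Int.natAbs_mul, Int.natAbs_natCast]
  exact Nat.le_mul_of_pos_right _ (Int.natAbs_pos.2 hs)

theorem d_pos {p q d l : ℕ} (hp : p.Prime) (h : Nq p q d l) : 0 < d := by
  obtain ⟨f, -, rfl⟩ := h.pq
  have h1 : p.Coprime l := (Nat.coprime_primes hp h.lp).2 h.ne.symm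
  have : NeZero (if l = 2 then 4 else l) := ⟨by have := h.lp.pos; split_ifs <;> omega⟩
  rw [← h.dl, orderOf_pos_iff, isOfFinOrder_iff_isUnit, ZMod.isUnit_iff_coprime]
  refine Nat.Coprime.pow_left _ ?_
  split_ifs with h2
  · exact (h2 ▸ h1 : p.Coprime 2).pow_right 2
  · exact h1

theorem exists_r {p q d l m : ℕ} (hp : p.Prime) (h : Nq p q d l) (hm : 6 < m) : ∃ r, Nr q d r m := by
  have h0 := d_pos hp h
  obtain ⟨f, hf, rfl⟩ := h.pq
  obtain ⟨r, h1, h2, -, h3⟩ := Lab.exists_r hp (mul_pos hf h0) hm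
  refine ⟨r, h1, h2, ?_⟩
  rw [Nat.cast_pow, orderOf_pow_of_dvd hf.ne' (h3 ▸ (dvd_mul_right f d).mul_right m), h3, mul_assoc,
    Nat.mul_div_cancel_left _ hf]

theorem not_dvd {Q s m : ℕ} (h1 : 1 < Q) (h2 : Q ≤ s) (h : Q ^ m ≡ Q [MOD s]) : ¬ s ∣ Q ^ m - 1 := fun e => by
  have h3 := (h.symm.trans ((Nat.modEq_iff_dvd' (Nat.one_le_pow _ _ h1.le)).2 e).symm).symm
  have := Nat.le_of_dvd (by omega) ((Nat.modEq_iff_dvd' h1.le).1 h3)
  omega

end FmA

variable {p : ℕ} [Fact p.Prime] {k : Type} [Field k] [CharP k p] {Y : Type} [Group Y] {N : Type} [Fintype N]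
  [DecidableEq N] {ρ : Y →* GL N k} {F : MulAut Y} {G : Subgroup Y} [IsAlgClosed k] {X : Datum p ρ F G} {q n c : ℕ}

/-- the orders of the tori -/
theorem Cs.ordT_dvd (h : Cs X q n c) (hq : 0 < q) (w : X.W) : ordT X w ∣ (q ^ n - 1) ^ c := by
  obtain ⟨A, h1, h2⟩ := h.mat w
  refine .trans ?_ (pow_dvd_pow _ h.rk)
  have h3 := congrArg Matrix.det (mul_geom_sum (X.Wm w * X.Mx) n)
  rw [Matrix.det_mul, show (X.Wm w * X.Mx) ^ n - 1 = ((q : ℤ) ^ n - 1) • 1 by
    rw [h1, _root_.smul_pow, h2, sub_smul, one_smul], Matrix.det_smul, Matrix.det_one, mul_one] at h3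
  rw [ordT, ← Int.natCast_dvd_natCast, Int.natAbs_dvd, Nat.cast_pow, Nat.cast_pred (pow_pos hq n), Nat.cast_pow]
  exact ⟨_, h3.symm⟩

/-- the order of the finite group is bounded in the class -/
theorem Cs.card_le (h : Cs X q n c) (hq : 1 < q) : Nat.card (GF F G) ≤ (c * ((q ^ n - 1) ^ c) ^ c) ^ 2 := by
  classical
  obtain ⟨y, hy, hN, hs⟩ := X.exists_qs
  replace h := h.conj hy hN
  generalize X.conj hy hN = E at h hs
  have := Fintype.ofFinite E.W
  obtain ⟨f⟩ := nonempty_fr E
  have hB : 0 < (q ^ n - 1) ^ c := pow_pos (Nat.sub_pos_of_lt (Nat.one_lt_pow h.n0.ne' hq)) _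
  have hc : Fintype.card E.W ≤ c := Nat.card_eq_fintype_card.ge.trans h.w
  have h0 : ∀ w, (sgZ E w).natAbs = 1 := fun w => by rcases sgZ_sign E w with e | e <;> simp [e]
  have h1 : ∀ w, (sgZ E w * ordT E w).natAbs ≤ (q ^ n - 1) ^ c := fun w => by
    rw [Int.natAbs_mul, h0, one_mul, Int.natAbs_natCast]
    exact Nat.le_of_dvd hB (h.ordT_dvd (by omega) w)
  have hP : ∀ w, (C (sgZ E w * ordT E w) : ℤ[X]).eval 0 = sgZ E w * ordT E w := fun w => eval_C
  obtain ⟨h2, h3⟩ := LV.One.lev_ord hs f hP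
  have h4 := FmA.le_of_mul (KM.Deg.lev_pc hs f hP) h3
  have h5 := FmA.le_of_mul h2.symm h3
  rw [← pc_mul_pc' p, sq]
  refine Nat.mul_le_mul (h4.trans ?_) (h5.trans ?_)
  · rw [LV.One.Sm, eval_finsetSum]
    refine (Int.natAbs_sum_le _ _).trans ((Finset.sum_le_card_nsmul _ _ (((q ^ n - 1) ^ c) ^ c) fun w _ => ?_).trans ?_)
    · rw [eval_mul, eval_C, eval_prod, Int.natAbs_mul, h0, one_mul]
      exact FmA.prod_le hB (fun v => by rw [hP]; exact h1 v) hc _
    · exact Nat.mul_le_mul_right _ hc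
  · rw [Int.natAbs_mul, Int.natAbs_natCast, eval_prod]
    exact Nat.mul_le_mul h.w (FmA.prod_le hB (fun v => by rw [hP]; exact h1 v) hc _)

/-- the `s`-part of the order -/
theorem Cs.fact_le (h : Cs X q n c) (hq : 1 < q) {s j : ℕ} (hs : s.Prime) (hp : s ≠ p) (hj : ¬ s ^ (j + 1) ∣ q ^ n - 1) :
    (Nat.card (GF F G)).factorization s ≤ c * j + (Nat.card X.W).factorization s := by
  have := X.amb.finite_GF G
  have := Fintype.ofFinite (GF F G)
  have h0 : q ^ n - 1 ≠ 0 := (Nat.sub_pos_of_lt (Nat.one_lt_pow h.n0.ne' hq)).ne'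
  obtain ⟨w, hw⟩ := LV.Blk.exists_card X hs hp
  refine hw.le.trans ?_
  rw [Nat.factorization_mul (ordT_ne w) Nat.card_pos.ne', Finsupp.add_apply]
  refine add_le_add (((Nat.factorization_le_iff_dvd (ordT_ne w) (pow_ne_zero _ h0)).2 (h.ordT_dvd (by omega) w) s).trans ?_)
    ((Nat.factorization_le_iff_dvd Nat.card_pos.ne' Nat.card_pos.ne').2 (card_subgroup_dvd_card _) s)
  rw [Nat.factorization_pow, Finsupp.smul_apply, smul_eq_mul]
  exact Nat.mul_le_mul_left _ (Nat.lt_succ_iff.1 (lt_of_not_ge fun e => hj ((hs.pow_dvd_iff_le_factorization h0).2 e)))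

include X in
/-- the restriction of `F` -/
theorem exists_alpha {m : ℕ} (hm : 0 < m) : ∃ α : MulAut ↥(GF (F ^ m) G), (∀ g, (α g : Y) = F g) ∧ α ^ m = 1 := by
  have := (X.pow hm).amb.finite_GF G
  let φ₀ : GF (F ^ m) G →* GF (F ^ m) G := (F.toMonoidHom.comp (GF (F ^ m) G).subtype).codRestrict _ fun g =>
    ⟨X.F_mem_G g.2.1, by
      have h : (F ^ m) g = g := g.2.2
      show (F ^ m) (F g) = F g
      rw [← MulAut.mul_apply, ← pow_succ, pow_succ', MulAut.mul_apply, h]⟩
  let φ : MulAut (GF (F ^ m) G) := MulEquiv.ofBijective φ₀ (Finite.injective_iff_bijective.1 fun a b h =>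
    Subtype.ext (F.injective (congrArg Subtype.val h)))
  have h4 : ∀ n g, ((φ ^ n) g : Y) = (F ^ n) g := fun n g => by
    induction n with
    | zero => rfl
    | succ n ih => rw [pow_succ', pow_succ', MulAut.mul_apply, MulAut.mul_apply, ← ih]; rfl
  exact ⟨φ, fun _ => rfl, MulEquiv.ext fun g => Subtype.ext ((h4 m g).trans g.2.2)⟩

/-- **the frames** -/
theorem boxFm : BoxFm := by
  intro p _ q d l n c hN
  have hp : p.Prime := Fact.out
  have hl := hN.lp
  obtain ⟨f, hf, hq⟩ := hN.pq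
  have q1 : p ≤ q := hq ▸ Nat.le_self_pow hf.ne' p
  have q2 : 1 < q := hp.one_lt.trans_le q1
  have q3 : q.Coprime l := hq ▸ ((Nat.coprime_primes hp hl).2 hN.ne.symm).pow_left f
  rcases Nat.eq_zero_or_pos n with rfl | n0
  · exact (Lg.gt 6).mono fun m h => ⟨FmA.exists_r hp hN h, fun X h => absurd h.n0 (lt_irrefl _)⟩
  have q4 : q ≤ q ^ n := Nat.le_self_pow n0.ne' q
  refine (((Lg.prime.and (Lg.modEq n0.ne')).and (Lg.lvl (Nat.totient_pos.2 (pow_pos hl.pos (q ^ n + 1))))).and
    (Lg.gt (((l ^ (c * q ^ n + c)) ^ 4 + 1) ^ 2 + l + q ^ n + c + (c * ((q ^ n - 1) ^ c) ^ c) ^ 2 + bd (c * 2 ^ c) 1 +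
      2 * (c * 2 ^ c) + 6))).mono fun m ⟨⟨⟨hm, h1⟩, j, h2⟩, h3⟩ => ⟨FmA.exists_r hp hN (by omega), ?_⟩
  intro k _ _ Y _ N _ _ ρ F G _ X h
  have := X.amb.finite_GF G
  have := (X.pow hm.pos).amb.finite_GF G
  have h' := h.pow hm.pos h1
  have q5 : 1 < q ^ m := Nat.one_lt_pow hm.ne_zero q2
  have h4 : nb X ≤ c * 2 ^ c := Nat.mul_le_mul h.w (Nat.pow_le_pow_right two_pos h.rt)
  have h5 := bd_mono (n := nb X) h4 (le_refl 1)
  have h6 := h.card_le q2
  have h7 := h.w
  have h8 : ∀ s, c < s → ¬ s ∣ Nat.card X.W := fun s hs e => by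
    have := Nat.le_of_dvd Nat.card_pos e
    omega
  obtain ⟨α, hα, h9⟩ := exists_alpha (X := X) hm.pos
  refine ⟨nb X, l ^ (c * q ^ n + c), α, hα, fun s hs hms => ⟨⟨hl, hm, h9, fun e => ?_, ?_, by omega⟩, hs, hms, by omega,
    fun g hg => ?_, ?_, by omega, by omega⟩⟩
  · have h10 := h'.fact_le q5 hm (j := 0) (by omega) (by
      have := Fact.mk hm
      rw [zero_add, pow_one, pow_right_comm]
      exact FmA.not_dvd (by omega) (by omega) ((ZMod.natCast_eq_natCast_iff _ _ _).1 (by rw [Nat.cast_pow, ZMod.pow_card])))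
    rw [Nat.factorization_eq_zero_of_not_dvd (h8 m (by omega))] at h10
    exact absurd (hm.factorization_pos_of_dvd Nat.card_pos.ne' e) (by omega)
  · refine Nat.pow_le_pow_right hl.pos ((h'.fact_le q5 hl hN.ne (j := q ^ n) ?_).trans (add_le_add_right ?_ _))
    · rw [pow_right_comm]
      refine FmA.not_dvd (by omega) ((Nat.le_succ _).trans (Nat.lt_pow_self hl.one_lt).le) ?_
      rw [h2, pow_add (q ^ n), pow_one, pow_mul]
      simpa using ((Nat.ModEq.pow_totient ((q3.pow_left n).pow_right (q ^ n + 1))).pow j).mul_left (q ^ n)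
    · exact (Nat.factorization_lt l Nat.card_pos.ne').le.trans h.w
  · have h10 : orderOf (⟨g, g.2.1, (hα g).symm.trans (congrArg Subtype.val hg)⟩ : GF F G) ≤ Nat.card (GF F G) :=
      _root_.orderOf_le_card
    rw [← orderOf_coe, orderOf_coe g] at h10
    omega
  · have := Fact.mk hs
    exact big_GF (X.pow hm.pos) (by omega) (h8 s (by omega))

end Cfsg.Agent.BZ.L
end

-- part: BZ/L/TA/Ta2
section
/-!
# BZ / L / TA : the regular embedding (helper24)

* `iot` : the embedding of the finite groups; `idx` : the central `r`-elements cover the `r`-part of the quotient;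
* `boxTa2_of`, `boxTa2`.
-/

set_option autoImplicit false
set_option linter.unusedSectionVars false
set_option linter.style.haveILetI false
set_option maxHeartbeats 400000

namespace Cfsg.Agent.BZ.TA

open Cfsg Subgroup Cfsg.Agent.HZ.Gen Cfsg.Agent.KM Cfsg.Agent.BZ.Lab Cfsg.Agent.DL Cfsg.Agent.KM.Ht Cfsg.Agent.KM.Tor
  Cfsg.Agent.BZ.L Cfsg.Agent.DL.PP Cfsg.Agent.HZ.L.Reg Cfsg.Agent.Nodes.Reps Matrix Cfsg.Agent.Tits.Roots Cfsg.Agent.Nodes.BNOf

namespace T2b

variable {p : ℕ} [Fact p.Prime] {k : Type} [Field k] [CharP k p] {Y : Type} [Group Y] {N : Type} [Fintype N]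
  [DecidableEq N] {ρ : Y →* GL N k} {F : MulAut Y} {G : Subgroup Y} [IsAlgClosed k] (X : Datum p ρ F G) (m : ℕ) {r : ℕ}

/-- the embedding of the finite groups -/
noncomputable def iot : ↥(GF (F ^ m) G) →* ↥(GF (FF X ^ m) ⊤) :=
  MonoidHom.mk' (fun g => ⟨iY X g, trivial, (FF_pow_iY X m g.2.1).trans (congrArg (iY X) g.2.2)⟩)
    fun a b => Subtype.ext (iY_mul a.2.1 b.2.1)

theorem iot_inj : Function.Injective (iot X m) := fun a b e => Subtype.ext (iY_inj a.2.1 b.2.1 (congrArg Subtype.val e))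

theorem mem_iot {g : ↥(GF (FF X ^ m) ⊤)} : g ∈ (iot X m).range ↔ nu X g = 1 :=
  ⟨fun ⟨a, e⟩ => e ▸ nu_iY X a, fun h =>
    let ⟨a, ha, e⟩ := exists_of_nu X h
    ⟨⟨a, ha, iY_inj (pow_mem_G X m ha) ha ((FF_pow_iY X m ha).symm.trans (e ▸ g.2.2))⟩, Subtype.ext e⟩⟩

theorem iot_normal : (iot X m).range.Normal :=
  ⟨fun a ha g => (mem_iot X m).2 ((nu_conj X g a).trans ((mem_iot X m).1 ha))⟩

theorem nu_zz (s : X.R → kˣ) : nu X (zz X s) = al X s := nu_ta X _

theorem zz_mul (s t : X.R → kˣ) : zz X (s * t) = zz X s * zz X t := by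
  rw [zz, zz, zz, ← map_mul, map_mul (al X)]
  exact congrArg (ta X) (funext fun i => by rcases i with i | i <;> rfl)

theorem FF_zz (s : X.R → kˣ) : (FF X ^ m) (zz X s) = zz X (mon (X.Mx ^ m) s) := by
  induction m with
  | zero => rw [pow_zero, pow_zero, mon_one]; rfl
  | succ m ih =>
    rw [pow_succ', pow_succ', MulAut.mul_apply, ih, mon_mul, zz, zz, FF_ta, mon_blocks, al_mon]
    rfl

theorem zz_mem (s : X.R → kˣ) : zz X s ∈ Z0 (DD X) ∅ := by
  have h1 : ∀ v a, zz X (coch v a) ∈ Z0 (DD X) ∅ := fun v a => by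
    have h2 : Sum.elim (coch v a) (al X (coch v a)) = coch (Sum.elim v (Am X *ᵥ v)) a := funext fun i => by
      rcases i with i | i
      · rfl
      · exact chr_coch _ v a
    rw [zz, h2]
    refine mem_Z0 (X := DD X) (fun b _ => ?_) a
    show Sum.elim (X.wt b) (-b) ⬝ᵥ _ = _
    rw [sumElim_dotProduct_sumElim, neg_dotProduct, dotProduct_mulVec]
    exact add_neg_eq_zero.2 (congrArg (· ⬝ᵥ v) (vecMul_Am X b).symm)
  rw [← prod_coch_single s]
  exact Finset.prod_induction _ (fun x => zz X x ∈ Z0 (DD X) ∅) (fun a b ha hb => by rw [zz_mul]; exact mul_mem ha hb)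
    (by simpa only [map_one] using h1 0 1) fun j _ => h1 _ _

theorem al_Z0 {s : X.R → kˣ} (h : X.τ s ∈ Z0 X ∅) : al X s = 1 := funext fun i => by
  have h1 := (Sz_le_Z0 X ∅ (show sr i ∈ X.Sz ∅ from ⟨isRoot_sr X.cs X.h i, fun _ h => h.elim⟩)).2 _ h
  rw [X.χ_τ, Units.val_eq_one] at h1
  exact h1

theorem F_Z0 : ∀ z ∈ Z0 X ∅, F z ∈ Z0 X ∅ := fun z hz => by
  refine ((closure_le _).2 ?_ : Z0 X ∅ ≤ (Z0 X ∅).comap F.toMonoidHom) hz
  rintro _ ⟨v, a, hv, rfl⟩
  change F _ ∈ Z0 X ∅
  rw [X.F_τ, mon_coch]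
  exact mem_Z0 (W1.pp_Mx X (Set.empty_subset _) (fun _ h => h.elim) hv) a

/-- the central `r`-elements cover the `r`-part of the quotient -/
theorem idx [Finite ↥(GF (FF X ^ m) ⊤)] (hm : 0 < m) (hr : r.Prime) (hW : ¬ r ∣ Nat.card X.W) :
    ¬ r ∣ (Pt (FF X) ⊤ m r (Z0 (DD X) ∅) ⊔ (iot X m).range).index := by
  refine H686.PairCrit.not_dvd_index hr _ fun x ⟨a, ha⟩ => ?_
  obtain ⟨s₀, h0⟩ := al_surj X (nu X x)
  obtain ⟨b, j, hj, h1⟩ := Nat.exists_eq_pow_mul_and_not_dvd (X.amb.isOfFinOrder (X.τ s₀)).orderOf_pos.ne' r hr.ne_one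
  have h2 : (s₀ ^ j) ^ r ^ b = 1 := X.τ_inj (by rw [← pow_mul, map_pow, mul_comm, ← h1, pow_orderOf_eq_one, map_one])
  have h3 : al X (s₀ ^ j) = nu X x ^ j := by rw [map_pow, h0]
  generalize s₀ ^ j = s at h2 h3
  have h4 : al X (mon (X.Mx ^ m) s) = al X s := by
    obtain ⟨g, hg, e⟩ := exists_of_nu X (y := (x : YY X) ^ j * (zz X s)⁻¹) (by rw [map_mul, map_inv, map_pow, nu_zz, h3, mul_inv_cancel])
    have h5 := congrArg (fun y => nu X ((FF X ^ m) y)) e
    simp only [FF_pow_iY X m hg, nu_iY, map_mul, map_inv, map_pow, FF_zz, nu_zz, mem_fix.1 x.2.2] at h5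
    rw [h3, eq_mul_inv_iff_mul_eq.1 h5 |>.symm, one_mul]
  have h5 : X.τ (s⁻¹ * mon (X.Mx ^ m) s) ∈ Z0 X ∅ := by
    refine Z0_mono (fun a ha => ⟨ha.1, ?_⟩) (W1.mem_Z0_of X (Z := {X.τ (s⁻¹ * mon (X.Mx ^ m) s)}) ?_ rfl ?_)
    · rintro _ rfl
      rw [X.χ_τ, ← chr_al, map_mul, map_inv, h4, inv_mul_cancel, map_one, Units.val_one]
    · rintro _ rfl
      exact X.τ_mem _
    · refine (((Nat.Prime.coprime_iff_not_dvd hr).2 hW).symm.pow_right b).coprime_dvd_right (orderOf_dvd_of_pow_eq_one ?_)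
      rw [← map_pow, mul_pow, inv_pow, ← map_pow, h2, map_one, inv_one, mul_one, map_one]
  obtain ⟨t, h6, h7⟩ := RC.B.Ln.lang_div (X := X.pow hm) (H := Z0 X ∅) (Z0_le_T X ∅)
    (fun z hz => pow_mem_of_maps (H := (Z0 X ∅ : Set Y)) (F_Z0 X) m hz) fun _ => RC.B.Ln.div_Z0 h5
  obtain ⟨t, rfl⟩ := (X.mem_T t).1 (Z0_le_T X ∅ h6)
  rw [X.F_pow_τ, ← map_inv, ← map_mul] at h7
  have h8 : (FF X ^ m) (zz X (s * t⁻¹)) = zz X (s * t⁻¹) := by
    rw [FF_zz, map_mul, map_inv, inv_mul_eq_iff_eq_mul.1 (X.τ_inj h7), ← mul_assoc, mul_inv_cancel_right]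
  obtain ⟨j', h9, i, h10⟩ := H388.RI.exists_p_part (n := (⟨_, trivial, h8⟩ : GF (FF X ^ m) ⊤)) hr
  have h11 : x ^ (j * j') ∈ Pt (FF X) ⊤ m r (Z0 (DD X) ∅) ⊔ (iot X m).range := by
    rw [← mul_inv_cancel_left ((⟨_, trivial, h8⟩ : GF (FF X ^ m) ⊤) ^ j') (x ^ (j * j'))]
    refine mul_mem (mem_sup_left (subset_closure ⟨pow_mem (zz_mem X _) j', i, h10 ▸ pow_orderOf_eq_one _⟩))
      (mem_sup_right ((mem_iot X m).2 ?_))
    simp only [coe_mul, coe_inv, coe_pow, map_mul, map_inv, map_pow, nu_zz, h3, al_Z0 X h6, inv_one, mul_one, pow_mul, inv_mul_cancel]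
  obtain ⟨e, he⟩ := exists_pow_eq_self_of_coprime (x := x) (n := j * j')
    (ha ▸ (((Nat.Prime.coprime_iff_not_dvd hr).2 fun h => (hr.dvd_mul.1 h).elim hj h9).symm.pow_right a))
  exact he ▸ pow_mem h11 e

theorem card_dvd : Nat.card (Pt F G m r (Z0 X ∅)) ∣ Nat.card ↥((iot X m).range ⊓ Pt (FF X) ⊤ m r (Z0 (DD X) ∅)) := by
  rw [← card_map_of_injective (iot_inj X m)]
  refine card_dvd_of_le ?_
  rintro _ ⟨z, hz, rfl⟩
  obtain ⟨h1, j, h2⟩ := (W1.mem_Pt X (Z0_le_T X ∅)).1 hz
  obtain ⟨s, e⟩ := (X.mem_T _).1 (Z0_le_T X ∅ h1)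
  refine ⟨⟨z, rfl⟩, _root_.Subgroup.subset_closure ⟨?_, j, by rw [← map_pow, h2, map_one]⟩⟩
  have h3 := zz_mem X s
  rw [zz, al_Z0 X (e ▸ h1), ta_elim, e] at h3
  exact h3

theorem iY_mem_T {a : Y} (ha : a ∈ G) (h : iY X a ∈ (DD X).T) : a ∈ X.T := by
  obtain ⟨c, e⟩ := h
  have h1 : c ∘ Sum.inr = 1 := (nu_ta X c).symm.trans (e ▸ nu_iY X a)
  rw [← Sum.elim_comp_inl_inr c, h1, ta_elim] at e
  exact iY_inj (X.T_le_G (X.τ_mem _)) ha e ▸ X.τ_mem _

end T2b

open T2b in
/-- **[Ta2]** -/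
theorem boxTa2_of (hF : BoxFm) : BoxTa2 := by
  intro j h p _ q d l n c hq
  refine ((h p q d l n (2 * c) hq).and ((hF p q d l n (2 * c) hq).and (Lg.gt c))).mono ?_
  rintro m ⟨h1, ⟨-, h2⟩, h3⟩ r hr k _ _ Y _ N _ _ ρ F G _ X hC _ n' N' α M fm hM hj B ⟨hB, sB, mx⟩
  haveI := Fact.mk hq.lp
  haveI := Blocks.Local.isPrime_of_isPModular hM
  have hm : 0 < m := by omega
  have fr := (fm.fr r hr.rp hr.mr).toGl
  obtain ⟨n'', N'', α', fm'⟩ := h2 (DD X) (hC.dd hq.pq)
  haveI : Finite ↥(GF (FF X ^ m) ⊤) := ((amb X).pow hm).finite_GF ⊤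
  letI := Fintype.ofFinite ↥(GF (FF X ^ m) ⊤)
  have fr' := (fm'.fr r hr.rp hr.mr).toGl
  have e : _root_.Cfsg.Agent.BZ.Lab.Emb (iot X m) α α' := ⟨iot_inj X m, fun y => Subtype.ext (by
    rw [fm'.cm]
    exact (congrArg (iY X) (fm.cm y)).trans (FF_iY X y.2.1).symm)⟩
  obtain ⟨ψ, rfl⟩ := id hB
  obtain ⟨χ, h4, h5⟩ := ex_over fr' e (sB ψ (Blocks.Basic.mem_blockOf_self ψ))
  have hc : TID.Red.CovH (iot X m) (blockOf M χ.1) (blockOf M ψ.1) :=
    ⟨χ, Blocks.Basic.mem_blockOf_self χ, ψ, Blocks.Basic.mem_blockOf_self ψ, h5⟩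
  have hn := iot_normal X m
  obtain ⟨E, h6, -, y, hy, hN, h7⟩ := h1 r hr (DD X) (hC.dd hq.pq) n'' N'' α' M fm' hM hj (cz_DD X) _
    ⟨⟨χ, rfl⟩, boxSt.blk fr' hM χ h4, mx_up hM e.inj hn ⟨χ, rfl⟩ hB hc mx (by
      rw [Nat.card_congr (MonoidHom.ofInjective e.inj).toEquiv]
      exact card_le (idx X m hm hr.rp (Nat.not_dvd_of_pos_of_lt Nat.card_pos (hC.w.trans_lt (h3.trans hr.mr)))) (card_dvd X m))⟩
  obtain ⟨D, h8, h9⟩ := boxSt.dfg fr l M hM ψ (sB ψ (Blocks.Basic.mem_blockOf_self ψ))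
  have h10 := boxSt.grp fr D (Blocks.Basic.isPGroup_of_isDefectGroup h8) h9
  obtain ⟨E', h11, rfl⟩ := TID.Red.exists_defect_inf hM e.inj hn ⟨χ, rfl⟩ hB hc h8
  obtain ⟨x, rfl⟩ := TID.Red.conj_defect hM ⟨χ, rfl⟩ h6 h11
  obtain ⟨g, hg, t, h12⟩ := exists_iY_ta X (x * y)
  obtain ⟨y', hy', hN', h13, -⟩ := SB.Exc.Max.exists_conj_le_T X
    (Z := Subtype.val '' ((E.map (MulAut.conj x).toMonoidHom).comap (iot X m) : Set ↥(GF (F ^ m) G)))
    (by
      rintro _ ⟨z, hz, rfl⟩
      exact ⟨z, hz, by rw [← fm.cm, h10 z hz]⟩) hg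
    (by
      rintro _ ⟨z, ⟨u, hu, e1⟩, rfl⟩
      have e2 : (x : YY X) * u * (x : YY X)⁻¹ = iY X z := congrArg Subtype.val e1
      have h14 := (DD X).conj_mem_T ((DD X).T_le_NN ((DD X).τ_mem t)) (mem_cj.1 (h7 u hu))
      refine iY_mem_T X (mul_mem (mul_mem (inv_mem hg) z.2.1) hg) ?_
      rw [iY_mul (mul_mem (inv_mem hg) z.2.1) hg, iY_mul (inv_mem hg) z.2.1, iY_inv hg, ← e2, eq_mul_inv_of_mul_eq h12.symm]
      convert h14 using 1
      show _ = ta X t * _ * (ta X t)⁻¹
      group)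
  exact ⟨_, h8, h10, y', hy', hN', fun z hz => h13 ⟨z, hz, rfl⟩⟩

/-- **[Ta2]** -/
theorem boxTa2 : BoxTa2 := boxTa2_of boxFm

end Cfsg.Agent.BZ.TA
end

-- part: BZ/L/TA/Ind
section
/-!
# BZ / L / TA : the induction (helper91)

`boxTA_of`.
-/

set_option autoImplicit false
set_option linter.unusedSectionVars false

namespace Cfsg.Agent.BZ.TA

open Cfsg Subgroup Cfsg.Agent.HZ.Gen Cfsg.Agent.KM Cfsg.Agent.BZ.Lab Cfsg.Agent.DL Cfsg.Agent.KM.Ht Cfsg.Agent.KM.Tor
  Cfsg.Agent.BZ.L Cfsg.Agent.DL.PP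

theorem step (h1 : BoxTa1) (h2 : BoxTa2) (h3 : BoxTa3) (hG : BoxGrp) (j : ℕ)
    (ih : Unif fun X _ _ l r m _ α M => {a | X.Rt a}.ncard < j → TAp X l r m α M) :
    Unif fun X _ _ l r m _ α M => {a | X.Rt a}.ncard ≤ j → TAp X l r m α M := by
  have k0 : Unif fun X _ _ l r m _ α M => {a | X.Rt a}.ncard ≤ j → CZ X → T0p X l r m α M := by
    intro p _ q d l n c hq
    refine ((h3 j ih p q d l n c hq).and (hG p q d l n c hq)).mono ?_
    rintro m ⟨a, b⟩ r hr k _ _ Y _ N _ _ ρ F G _ X hX _ n' N' α M hF hM hj hZ B hB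
    obtain ⟨D, e1, e2, e3⟩ := a r hr X hX n' N' α M hF hM hj B hB
    obtain ⟨y, hy, hN, e4⟩ := b r hr X hX n' N' α M hF hM hZ _ e3
    exact ⟨D, e1, e2, y, hy, hN, fun x hx => e4 ⟨x, hx, rfl⟩⟩
  intro p _ q d l n c hq
  refine ((h2 j k0 p q d l n c hq).and (h1 p q d l n c hq)).mono ?_
  rintro m ⟨a, b⟩ r hr k _ _ Y _ N _ _ ρ F G _ X hX _ n' N' α M hF hM hj
  exact b r hr X hX n' N' α M hF hM (a r hr X hX n' N' α M hF hM hj)

/-- **the defect groups of the cuspidal blocks** -/
theorem boxTA_of (h1 : BoxTa1) (h2 : BoxTa2) (h3 : BoxTa3) (hG : BoxGrp) : BoxTA := by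
  have key : ∀ j : ℕ, Unif fun X _ _ l r m _ α M => {a | X.Rt a}.ncard < j → TAp X l r m α M := fun j => by
    induction j with
    | zero =>
      intro p _ q d l n c _
      refine Lg.of_forall ?_
      intro m _ r hr k _ _ Y _ N _ _ ρ F G _ X hX _ n' N' α M hF hM hj
      exact absurd hj (Nat.not_lt_zero _)
    | succ j ih =>
      intro p _ q d l n c hq
      refine (step h1 h2 h3 hG j ih p q d l n c hq).mono ?_
      intro m a r hr k _ _ Y _ N _ _ ρ F G _ X hX _ n' N' α M hF hM hj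
      exact a r hr X hX n' N' α M hF hM (Nat.lt_succ_iff.1 hj)
  intro p _ q d l n c hq
  refine (key (c + 1) p q d l n c hq).mono ?_
  intro m a r hr k _ _ Y _ N _ _ ρ F G _ X hX _ n' N' α M hF hM B e1 e2 e3
  exact a r hr X hX n' N' α M hF hM (Nat.lt_succ_of_le hX.rt) B ⟨e1, e2, e3⟩

end Cfsg.Agent.BZ.TA
end

-- part: BZ/L/TA/All
section
/-!
# BZ / L / TA : the engine is closed (helper98)

`BZ.L.boxTA`, `BZ.L.boxLie0`, `BZ.L.boxLieP`, `BZ.L.boxLie`, all unconditional.
-/

set_option autoImplicit false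

namespace Cfsg.Agent.BZ.L

/-- **[TA]** -/
theorem boxTA : BoxTA :=
  TA.boxTA_of TA.boxTa1b TA.boxTa2 TA.boxTa3 (TA.boxGrp_of (TA.boxH0_of TA.boxLat) TA.boxLat TA.boxDat TA.boxK)

theorem boxLie0 : BoxLie0 := boxLie0_of boxTA boxT2

theorem boxLieP : BoxLieP := boxLieP_of boxTA boxT2

/-- **the interface of the rows** -/
theorem boxLie : BoxLie := boxLieP.lie

end Cfsg.Agent.BZ.L
end
end

-- part: BZ/C7/Main
section
prune_inst 0x634307d753f62000000048012c0005cf6ea000590002b880129e40f020f85cb200902ef206e80140a10ca02841035002811000040c20000000a000400411d05a118ea5000b33c0d0c46008780b38f790c02000000000000000000000000000004204010000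
set_option linter.all false
open scoped Cfsg.Agent.FastGrp

/-!
# BZ, the rows of `3.Fi₂₄'` (helper25)

* `k0` : in a `2`-block of defect at least `3` the number of characters of height zero is divisible by `4`, and by `8`
  if all the heights are zero;
* `fi24_3_2`, `fi24_3_7` (`XP`), `fi24_3_2T`, `fi24_3_7T` (`XT`).
-/

set_option autoImplicit false
set_option maxRecDepth 100000
set_option linter.unusedSectionVars false

namespace Cfsg.Agent.BZ.C7

open Cfsg Cfsg.Agent.TAB.Eng Cfsg.Agent.TAB.Cov Cfsg.Agent.TAB.F24 Finset Cfsg.Agent.BZ.T Cfsg.Agent.Blocks.Basic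
open Cfsg.Agent.Blocks.Local

variable {p : ℕ} {M : Ideal AlgInt} {K : Type} [Group K] [Finite K] {B : Set (IrrCharacter K)} {D : Subgroup K}

/-- **the number of characters of height zero** -/
theorem k0 (hM : IsPModular 2 M) (hB : IsPBlock M B) (h3 : 3 ≤ blockDefect 2 B) :
    ∃ Y : Finset (IrrCharacter K), (∀ χ, χ ∈ Y ↔ χ ∈ B ∧ blockHeight 2 B (χ : K → ℂ) = 0) ∧ 0 < Y.card ∧ 4 ∣ Y.card ∧
      (XP 2 K B → 8 ∣ Y.card) ∧ ∀ χ ∈ Y, (charDegree (χ : K → ℂ)).factorization 2 + blockDefect 2 B =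
        (Nat.card K).factorization 2 := by
  classical
  have := isPrime_of_isPModular hM
  have := Characters.Core.finite_irr (G := K)
  have := Fintype.ofFinite (IrrCharacter K)
  have h1 := S4491.result 2 M hM B hB
  rw [finsum_mem_eq_finite_toFinset_sum _ (Set.toFinite B)] at h1
  have h2 := Nat.sInf_mem ((isPBlock_nonempty hB).image fun χ : IrrCharacter K => (charDegree (χ : K → ℂ)).factorization 2)
  have h4 : ∀ χ ∈ B, _ ≤ (charDegree (χ : K → ℂ)).factorization 2 := fun χ hχ =>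
    Nat.sInf_le (s := (fun χ : IrrCharacter K => (charDegree (χ : K → ℂ)).factorization 2) '' B) ⟨χ, hχ, rfl⟩
  simp only [XP, KM.BK.HZ, blockHeight, blockDefect] at h1 h3 ⊢
  generalize sInf ((fun χ : IrrCharacter K => (charDegree (χ : K → ℂ)).factorization 2) '' B) = v at *
  have h5 : ∀ χ : IrrCharacter K, ∃ u : ℕ, χ ∈ B → charDegree (χ : K → ℂ) = 2 ^ v * u ∧
      (Odd u ↔ (charDegree (χ : K → ℂ)).factorization 2 - v = 0) := fun χ => by
    by_cases hχ : χ ∈ B
    · have h0 := (charDegree_pos χ.2).ne'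
      obtain ⟨u, hu⟩ := (Nat.prime_two.pow_dvd_iff_le_factorization h0).2 (h4 χ hχ)
      refine ⟨u, fun _ => ⟨hu, ?_⟩⟩
      rw [← Nat.not_even_iff_odd, even_iff_two_dvd, Nat.sub_eq_zero_iff_le, ← not_lt, ← Nat.succ_le_iff,
        ← Nat.prime_two.pow_dvd_iff_le_factorization h0, hu, pow_succ, Nat.mul_dvd_mul_iff_left (by positivity)]
    · exact ⟨0, fun e => absurd e hχ⟩
  choose u hu using h5
  have h6 : 8 ∣ ∑ χ ∈ (Set.toFinite B).toFinset, u χ ^ 2 := by
    have h7 : 2 ^ (2 * v + 3) ∣ ∑ χ ∈ (Set.toFinite B).toFinset, charDegree (χ : K → ℂ) ^ 2 :=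
      (pow_dvd_pow 2 (by omega)).trans (Nat.ordProj_dvd _ 2)
    rw [sum_congr rfl (g := fun χ => 2 ^ (2 * v) * u χ ^ 2) fun χ hχ => by
      rw [(hu χ ((Set.Finite.mem_toFinset _).1 hχ)).1]; ring, ← mul_sum, pow_add] at h7
    exact Nat.dvd_of_mul_dvd_mul_left (by positivity) h7
  have h7 : ∀ n : ℤ, (∀ χ ∈ B, n ∣ (u χ : ℤ) ^ 2 - if (charDegree (χ : K → ℂ)).factorization 2 - v = 0 then 1 else 0) →
      n ∣ 8 → n ∣ (((Set.toFinite B).toFinset.filter fun χ : IrrCharacter K =>
        (charDegree (χ : K → ℂ)).factorization 2 - v = 0).card : ℤ) := fun n h h8 => by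
    have h9 := dvd_sum (s := (Set.toFinite B).toFinset) fun χ hχ => h χ ((Set.Finite.mem_toFinset _).1 hχ)
    rw [sum_sub_distrib, sum_boole] at h9
    exact (dvd_sub_right (h8.trans (by exact_mod_cast h6))).1 h9
  refine ⟨(Set.toFinite B).toFinset.filter fun χ => (charDegree (χ : K → ℂ)).factorization 2 - v = 0,
    fun χ => by rw [mem_filter, Set.Finite.mem_toFinset], ?_, ?_, fun h => ?_, fun χ hχ => ?_⟩
  · obtain ⟨χ, hχ, e⟩ := h2
    exact card_pos.2 ⟨χ, mem_filter.2 ⟨(Set.Finite.mem_toFinset _).2 hχ, Nat.sub_eq_zero_of_le e.le⟩⟩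
  · refine Int.natCast_dvd_natCast.1 (h7 4 (fun χ hχ => ?_) (by decide))
    split_ifs with e
    · obtain ⟨k, hk⟩ := (hu χ hχ).2.2 e
      exact ⟨k * k + k, by rw [hk]; push_cast; ring⟩
    · obtain ⟨k, hk⟩ := Nat.not_odd_iff_even.1 (mt (hu χ hχ).2.1 e)
      exact ⟨k * k, by rw [hk]; push_cast; ring⟩
  · refine Int.natCast_dvd_natCast.1 (h7 8 (fun χ hχ => ?_) dvd_rfl)
    rw [if_pos (h χ hχ)]
    exact Int.eight_dvd_sq_sub_one_of_odd (Odd.natCast ((hu χ hχ).2.2 (h χ hχ)))
  · rw [mem_filter, Set.Finite.mem_toFinset] at hχ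
    have := h4 χ hχ.1
    omega

variable {σ : K →* Spor.Fi24'}

theorem exists_dt (H : Hyp p M B D σ) (hc : Nat.card (Subgroup.center K) = 3) : Nonempty (Dt K) := by
  obtain ⟨X, _, _, ⟨N⟩⟩ := TAB.F24C.in0
  have := N.finite
  have h2 : N.pi.ker ≤ Subgroup.center X := N.ker ▸ Subgroup.zpowers_le_of_mem N.cen
  have h3 : Nat.card N.pi.ker = 3 := by rw [N.ker, Nat.card_zpowers, N.ord]
  have h4 : Nat.card σ.ker = 3 := H.ker ▸ hc
  rcases H133.FibPce.dichotomy (π := σ) (ρ := N.pi) ⟨H.surj, H.ker.le, H.qs.1.commutator_eq_top⟩ ⟨N.surj, h2, N.perf⟩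
    (h3 ▸ Nat.prime_three) (h4.trans h3.symm) with h5 | ⟨e, -⟩
  · have h6 := H95.StemCover.card_ker_dvd_cyclic S2055.result h5 _ (H133.FibPce.pj_surj H.surj N.surj)
      (H133.FibPce.pj_ker H.ker.le h2)
    rw [Nat.card_congr (H133.FibPce.kerFib σ N.pi).toEquiv, Nat.card_prod, h4, h3] at h6
    exact absurd h6 (by decide)
  · refine ⟨⟨N.T.pull e, mass_pull N.mass e, e.symm N.z, Subgroup.mem_center_iff.2 fun g => e.injective ?_,
      (e.symm.orderOf_eq _).trans N.ord, fun x => ?_, fun x hx => gen_comp e.toMonoidHom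
        (virt_two N.mass.1 okLenX okPLX N.seeds ok_gX ok_bX allX lt_exX x hx)⟩⟩
    · rw [map_mul, map_mul, e.apply_symm_apply, Subgroup.mem_center_iff.1 N.cen]
    · refine Iff.trans ?_ ((TD.ty_eq_zero N.mass' (by decide) (by decide +kernel) (by decide +kernel)
        (N.pi (e x))).symm.trans (by rw [N.prj]; rfl))
      rw [← MonoidHom.mem_ker, N.ker]
      refine ⟨fun ⟨n, hn⟩ => ⟨n, ?_⟩, fun ⟨n, hn⟩ => ⟨n, e.injective ?_⟩⟩
      · simp only [← hn, map_zpow, e.apply_symm_apply]
      · simp only [← hn, map_zpow, e.apply_symm_apply]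

private theorem cbg_dvd_cbd (D : TAB.Eng.Dat) (R : TAB.Use.Rows) (s a : ℕ) (L : List ℕ) (h : a ∈ L) :
    KM.Sp.cbg D R [] s L ∣ KM.Sp.cbd D R [] s a := by
  induction L with
  | nil => cases h
  | cons b L ih =>
    rcases List.mem_cons.1 h with rfl | h
    · exact Nat.gcd_dvd_left _ _
    · exact (Nat.gcd_dvd_right _ _).trans (ih h)

private theorem regB_of {D : TAB.Eng.Dat} {R : TAB.Use.Rows} {p d : ℕ}
    (h : ((List.range D.n).all fun i => D.ord i == 1 || D.ord i % p == 0 || ((List.range D.n).all fun j => D.ord j != p * D.ord i) ||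
      (List.range R.rel.length).any fun a => KM.Sp.cbd D R [] i a % p ^ (d + 1) != 0) = true) : C2.regB D R p d = true := by
  refine List.all_eq_true.2 fun i hi => ?_
  have h1 := List.all_eq_true.1 h i hi
  rw [Bool.or_right_comm, Bool.or_eq_true, Bool.or_eq_true] at h1
  rw [Bool.or_eq_true, Bool.or_eq_true]
  rcases h1 with (h1 | h1) | h1
  · exact Or.inl (Or.inl h1)
  · obtain ⟨a, ha, h2⟩ := List.any_eq_true.1 h1
    refine Or.inl (Or.inr (bne_iff_ne.2 fun h3 => bne_iff_ne.1 h2 ?_))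
    exact Nat.mod_eq_zero_of_dvd ((Nat.dvd_of_mod_eq_zero h3).trans (cbg_dvd_cbd D R i a _ ha))
  · exact Or.inr h1

private noncomputable def _root_.Cfsg.Agent.LsF.fb51faf_0 : {f // @Cfsg.Agent.TAB.Eng.Dat.ord = f} := ⟨_, by first | (delta Cfsg.Agent.TAB.Eng.Dat.ord; rewrite [Cfsg.Agent.LsF.getD_eq]; exact rfl) | exact rfl⟩
private noncomputable def _root_.Cfsg.Agent.LsF.fb51faf_1 : {f // @Cfsg.Agent.TAB.Eng.rwL = f} := ⟨_, by first | (delta Cfsg.Agent.TAB.Eng.rwL; rewrite [Cfsg.Agent.LsF.map_eq]; exact rfl) | exact rfl⟩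
private noncomputable def _root_.Cfsg.Agent.LsF.fb51faf_2 : {f // @Cfsg.Agent.TAB.Eng.relL = f} := ⟨_, by first | (delta Cfsg.Agent.TAB.Eng.relL; rewrite [Cfsg.Agent.LsF.fb51faf_1.2]; exact rfl) | exact rfl⟩
private noncomputable def _root_.Cfsg.Agent.LsF.fb51faf_3 : {f // @Cfsg.Agent.TAB.Eng.mkR = f} := ⟨_, by first | (delta Cfsg.Agent.TAB.Eng.mkR; rewrite [Cfsg.Agent.LsF.fb51faf_2.2]; exact rfl) | exact rfl⟩
private noncomputable def _root_.Cfsg.Agent.LsF.fb51faf_4 : {f // @Cfsg.Agent.TAB.F24.tabT = f} := ⟨_, by first | (delta Cfsg.Agent.TAB.F24.tabT; rewrite [Cfsg.Agent.LsF.fb51faf_3.2]; exact rfl) | exact rfl⟩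
private noncomputable def _root_.Cfsg.Agent.LsF.fb51faf_5 : {f // @Cfsg.Agent.KM.Sp.rl = f} := ⟨_, by first | (delta Cfsg.Agent.KM.Sp.rl; rewrite [Cfsg.Agent.LsF.getD_eq]; exact rfl) | exact rfl⟩
private noncomputable def _root_.Cfsg.Agent.LsF.fb51faf_6 : {f // @Cfsg.Agent.TAB.Use.Rows.n = f} := ⟨_, by first | (delta Cfsg.Agent.TAB.Use.Rows.n; rewrite [Cfsg.Agent.LsF.length_eq]; exact rfl) | exact rfl⟩
private noncomputable def _root_.Cfsg.Agent.LsF.fb51faf_7 : {f // @Cfsg.Agent.TAB.Use.Rows.d = f} := ⟨_, by first | (delta Cfsg.Agent.TAB.Use.Rows.d; rewrite [Cfsg.Agent.LsF.getD_eq]; exact rfl) | exact rfl⟩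
private noncomputable def _root_.Cfsg.Agent.LsF.fb51faf_8 : {f // @Cfsg.Agent.TAB.Eng.look = f} := ⟨_, by first | (delta Cfsg.Agent.TAB.Eng.look List.brecOn List.brecOn.go Cfsg.Agent.TAB.Eng.look._f; rewrite [Cfsg.Agent.LsF.instDecEq_eq, Cfsg.Agent.LsF.ite_eq]; (try delta Cfsg.Agent.TAB.Eng.look.match_1); (try delta List.casesOn); first | dsimp -zeta only | exact rfl) | exact rfl⟩
private noncomputable def _root_.Cfsg.Agent.LsF.fb51faf_9 : {f // @Cfsg.Agent.KM.Sp.cbd = f} := ⟨_, by first | (delta Cfsg.Agent.KM.Sp.cbd; rewrite [Cfsg.Agent.LsF.fb51faf_5.2, Cfsg.Agent.LsF.fb51faf_6.2, Cfsg.Agent.LsF.fb51faf_7.2, Cfsg.Agent.LsF.fb51faf_8.2, Cfsg.Agent.LsF.nmul_pat, Cfsg.Agent.LsF.ndiv_pat, Cfsg.Agent.LsF.dProdEq_eq, Cfsg.Agent.LsF.instDecEq_eq, Cfsg.Agent.LsF.decLt_eq, Cfsg.Agent.LsF.getD_eq, Cfsg.Agent.LsF.headD_eq, Cfsg.Agent.LsF.natAbs_eq, Cfsg.Agent.LsF.instIDecEq_eq, Cfsg.Agent.LsF.dAnd_eq, Cfsg.Agent.LsF.dNot_eq, Cfsg.Agent.LsF.dListEq_eq, Cfsg.Agent.LsF.ite_eq];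 exact rfl) | exact rfl⟩
theorem reg : Nat.card Spor.Fi24' = DT.N ∧ Reg 2 13 Spor.Fi24' ∧ Reg 7 2 Spor.Fi24' := by
  obtain ⟨T, hm, -, hT⟩ := TAB.F24C.tab
  have : Finite Spor.Fi24' := Nat.finite_of_card_ne_zero (by rw [hm.1]; decide)
  have : Fact (Nat.Prime 7) := ⟨by norm_num⟩
  exact ⟨hm.1, C2.reg_of_tab hm hT (regB_of (by ((try (rewrite [Cfsg.Agent.LsF.fb51faf_0.2, Cfsg.Agent.LsF.fb51faf_4.2, Cfsg.Agent.LsF.fb51faf_9.2, Cfsg.Agent.LsF.nadd_pat, Cfsg.Agent.LsF.nmul_pat, Cfsg.Agent.LsF.nmod_pat, Cfsg.Agent.LsF.npow_pat, Cfsg.Agent.LsF.nbeq_pat, Cfsg.Agent.LsF.nbne_pat, Cfsg.Agent.LsF.or_eq, Cfsg.Agent.LsF.all_eq, Cfsg.Agent.LsF.any_eq, Cfsg.Agent.LsF.range_eq, Cfsg.Agent.LsF.length_eq])); decide +kernel))), C2.reg_of_tab hm hT (regB_of (by ((try (rewrite [Cfsg.Agent.LsF.fb51faf_0.2, Cfsg.Agent.LsF.fb51faf_4.2, Cfsg.Agent.LsF.fb51faf_9.2, Cfsg.Agent.LsF.nadd_pat, Cfsg.Agent.LsF.nmul_pat, Cfsg.Agent.LsF.nmod_pat, Cfsg.Agent.LsF.npow_pat, Cfsg.Agent.LsF.nbeq_pat,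 Cfsg.Agent.LsF.nbne_pat, Cfsg.Agent.LsF.or_eq, Cfsg.Agent.LsF.all_eq, Cfsg.Agent.LsF.any_eq, Cfsg.Agent.LsF.range_eq, Cfsg.Agent.LsF.length_eq])); decide +kernel)))⟩

theorem ex (H : Hyp p M B D σ) (hc : Nat.card (Subgroup.center K) = 3) {j : ℕ} (hj : j < 42) {n : ℕ} (hn : bb j = n) :
    ∃ χ : IrrCharacter K, (∀ z ∈ Subgroup.center K, (χ : K → ℂ) z = (χ : K → ℂ) 1 → z = 1) ∧
      charDegree (χ : K → ℂ) = n := by
  obtain ⟨d⟩ := exists_dt H hc
  have := Fintype.ofFinite K
  obtain ⟨χ, h1, h2⟩ := d.ex hj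
  exact ⟨χ, faith_of_prime Nat.prime_three hc d.cen h1, by exact_mod_cast h2.trans hn⟩

theorem fac_le [hp : Fact p.Prime] {n m e d : ℕ} (h1 : ¬ p ^ (e + 1) ∣ n) (h2 : p ^ (e + d) ∣ m) (h3 : m ≠ 0) :
    n.factorization p + d ≤ m.factorization p := by
  have h4 := (hp.out.pow_dvd_iff_le_factorization (n := n) fun h0 => h1 (h0 ▸ dvd_zero _)).not.1 h1
  have h5 := (hp.out.pow_dvd_iff_le_factorization h3).1 h2
  omega

/-- the blocks of small defect -/
theorem small (H : Hyp 2 M B D σ) (hc : Nat.card (Subgroup.center K) = 3) (h : ¬ 2 ^ 13 ∣ Nat.card D) :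
    ¬ XP 2 K B ∧ ¬ XT 2 K B := by
  classical
  have := isPrime_of_isPModular H.hM
  obtain ⟨d⟩ := exists_dt H hc
  have := Fintype.ofFinite K
  have h1 := H.cube_dvd
  rw [S0908.result 2 M H.hM B H.hB D H.hD, Nat.pow_dvd_pow_iff_le_right (by norm_num)] at h h1
  obtain ⟨Y, hY, h2, h4, h8, h5⟩ := k0 H.hM H.hB h1
  have h6 : (Nat.card K).factorization 2 = 21 := by
    have h0 : Nat.card K ≠ 0 := Nat.card_pos.ne'
    have h6 := (Nat.prime_two.pow_dvd_iff_le_factorization (k := 21) h0).1 (by rw [d.mass.1]; decide)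
    have h7 := (Nat.prime_two.pow_dvd_iff_le_factorization (k := 22) h0).not.1 (by rw [d.mass.1]; decide)
    omega
  have h7 : ∀ χ ∈ B, (χ : K → ℂ) d.z ≠ (χ : K → ℂ) 1 := fun χ hχ e => by
    have h7 := d.ord
    rw [H.faith χ hχ _ d.cen e, orderOf_one] at h7
    omega
  have h9 : ∀ χ : IrrCharacter K, ∃ j, χ ∈ Y → j ∈ JJ ∧ (charDegree (χ : K → ℂ) : ℤ) = bb j ∧
      ∀ k < 66, d.a χ k = if k = j then 1 else 0 := fun χ => by
    by_cases hχ : χ ∈ Y
    · have h9 := h5 χ hχ
      have h0 := (charDegree_pos χ.2).ne'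
      obtain ⟨j, hj⟩ := d.lab (h7 χ ((hY χ).1 hχ).1) ((Nat.prime_two.pow_dvd_iff_le_factorization h0).2 (by omega))
        ((Nat.prime_two.pow_dvd_iff_le_factorization h0).not.2 (by omega))
      exact ⟨j, fun _ => hj⟩
    · exact ⟨0, fun e => absurd e hχ⟩
  choose lab hl using h9
  have h10 : Set.InjOn lab Y := fun χ hχ ψ hψ e =>
    d.inj (h7 χ ((hY χ).1 hχ).1) (h7 ψ ((hY ψ).1 hψ).1) (H.ce.ov H.hM χ.2 ψ.2
      (isPBlock_sameBlock H.hB ((hY χ).1 hχ).1 ((hY ψ).1 hψ).1) _ (H.ker ▸ d.cen)) (hl χ hχ).1 (hl χ hχ).2.2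
      (e ▸ (hl ψ hψ).2.2)
  refine ⟨fun hX => ?_, fun hX => ?_⟩
  · have h11 := card_le_card_of_injOn (t := JJ) lab (fun χ hχ => (hl χ hχ).1) h10
    have h12 := Nat.le_of_dvd h2 (h8 hX)
    have h13 : JJ.card = 7 := by decide
    omega
  · obtain ⟨ψ, hψ⟩ := card_pos.1 h2
    have h11 := card_le_card_of_injOn (t := JJ.filter fun j => bb j = bb (lab ψ)) lab (fun χ hχ => mem_filter.2
      ⟨(hl χ hχ).1, by
        rw [← (hl χ hχ).2.1, ← (hl ψ hψ).2.1,
          hX χ ((hY χ).1 hχ).1 ψ ((hY ψ).1 hψ).1 ((hY χ).1 hχ).2 ((hY ψ).1 hψ).2]⟩) h10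
    have h12 := Nat.le_of_dvd h2 h4
    have h13 := (by decide +kernel : ∀ i ∈ JJ, (JJ.filter fun j => bb j = bb i).card ≤ 2) _ (hl ψ hψ).1
    omega

theorem fi24_3_2 : ∀ (S : Type) [Group S] [Finite S], Spor.IsoFi24' S → Cov XP 3 2 S := fun _ _ _ ⟨e⟩ =>
  Cov.of_equiv e fun K _ _ σ M B D H hc => by
    by_cases h : 2 ^ 13 ∣ Nat.card D
    · obtain ⟨χ, h1, h2⟩ := ex H hc (j := 3) (by decide) (n := 19034730) (by decide +kernel)
      exact H.not_XP (H.ce.rt_of_reg reg.2.1 h) χ h1 (H.ce.top_of_crit H.hM reg.2.1 χ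
        (fac_le (e := 1) (by rw [h2]; decide) (by rw [reg.1]; decide) (by rw [reg.1]; decide))) (by rw [h2]; decide)
    · exact (small H hc h).1

theorem fi24_3_2T : ∀ (S : Type) [Group S] [Finite S], Spor.IsoFi24' S → Cov XT 3 2 S := fun _ _ _ ⟨e⟩ =>
  Cov.of_equiv e fun K _ _ σ M B D H hc => by
    by_cases h : 2 ^ 13 ∣ Nat.card D
    · obtain ⟨χ, h1, h2⟩ := ex H hc (j := 1) (by decide) (n := 306153) (by decide +kernel)
      obtain ⟨ψ, h3, h4⟩ := ex H hc (j := 2) (by decide) (n := 6724809) (by decide +kernel)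
      exact H.not_XT (H.ce.rt_of_reg reg.2.1 h) χ ψ h1 h3 (by rw [h2]; decide) (by rw [h4]; decide)
        (by rw [h2, h4]; decide)
    · exact (small H hc h).2

theorem fi24_3_7 : ∀ (S : Type) [Group S] [Finite S], Spor.IsoFi24' S → Cov XP 3 7 S := fun _ _ _ ⟨e⟩ =>
  Cov.of_equiv e fun K _ _ σ M B D H hc => by
    have : Fact (Nat.Prime 7) := ⟨by norm_num⟩
    obtain ⟨χ, h1, h2⟩ := ex H hc (j := 14) (by decide) (n := 12258366120) (by decide +kernel)
    exact H.not_XP_crit (reg.2.2.mono (by decide)) reg.2.2 χ h1 (by rw [h2]; decide)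
      (fac_le (e := 1) (by rw [h2]; decide) (by rw [reg.1]; decide) (by rw [reg.1]; decide))

theorem fi24_3_7T : ∀ (S : Type) [Group S] [Finite S], Spor.IsoFi24' S → Cov XT 3 7 S := fun _ _ _ ⟨e⟩ =>
  Cov.of_equiv e fun K _ _ σ M B D H hc => by
    have : Fact (Nat.Prime 7) := ⟨by norm_num⟩
    obtain ⟨χ, h1, h2⟩ := ex H hc (j := 0) (by decide) (n := 64584) (by decide +kernel)
    obtain ⟨ψ, h3, h4⟩ := ex H hc (j := 1) (by decide) (n := 306153) (by decide +kernel)
    exact H.not_XT_crit (reg.2.2.mono (by decide)) χ ψ h1 h3 (by rw [h2]; decide) (by rw [h4]; decide)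
      (by rw [h2, h4]; decide)

end Cfsg.Agent.BZ.C7

private theorem dce_a6732e3b8850 : _root_.True := by
  try have : _root_.True := by simp only [_root_.Cfsg.Agent.BZ.XP.eq_1]
  try have : _root_.True := by simp only [_root_.Cfsg.Agent.KM.BK.HZ.eq_1]
  exact _root_.True.intro
end
end
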