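import Cfsg.Agent.TAB.B.Fin.Use
import Cfsg.Agent.TAB.M.Virt_m3
import Cfsg.Agent.KM.Easy_m3
import Cfsg.Agent.Lib.FinFast
import Cfsg.Agent.Prune
set_option linter.all false

-- part: BZ/C6/Dat
section
set_option linter.all false
open scoped Cfsg.Agent.FastGrp

/-!
# BZ, `2.B`: the checks on the tables of `B` and `M` (helper20)
-/

set_option autoImplicit false
set_option maxRecDepth 100000
set_option Elab.async false

namespace Cfsg.Agent.BZ.C6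

open Cfsg Cfsg.Agent.TAB Cfsg.Agent.TAB.Eng Cfsg.Agent.TAB.Use Finset

/-- the rows of `B` -/
noncomputable def vB (j t : ℕ) : ℤ := Eng.rw B.Fin.cols j t

/-- the rows of `M` -/
noncomputable def vM (j t : ℕ) : ℤ := Eng.rw M.cols j t

/-- the values of `ψ ^ 2` -/
def sqL : List ℤ :=
  [9265217536, 0, 4194304, 0, 0, 123904, 784, 0, 0, 0, 0, 16384, 0, 0, 0, 0, 0, 3136, 36, 0, 0, 1024, 0, 0, 0, 16,
  0, 1296, 0, 0, 400, 0, 0, 0, 0, 0, 0, 0, 0, 0, 256, 0, 0, 0, 0, 1, 100, 0, 64, 0, 4, 0, 100, 36, 0, 0, 0, 0, 0,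
  16, 0, 0, 0, 64, 0, 0, 0, 4, 0, 0, 0, 0, 36, 0, 16, 0, 0, 0, 16, 0, 4, 9, 0, 0, 0, 0, 0, 16, 0, 4, 0, 4, 0, 9, 0,
  4, 0, 0, 0, 0, 0, 0, 4, 0, 0, 0, 4, 0, 4, 1, 0, 0, 0, 0, 0, 0, 0, 0, 0, 4, 0, 0, 0, 0, 1, 0, 0, 1, 0, 0, 0, 0, 4,
  0, 0, 0, 0, 4, 1, 1, 1, 0, 0, 0, 0, 0, 0, 0, 0, 1, 0, 1, 0, 0, 0, 0, 0, 0, 0, 0, 0, 1, 0, 0, 0, 0, 1, 0, 0, 0, 1,
  0, 0, 0, 0]

/-- the inverse matrix -/
def WL : List (List ℤ) :=
  [[-19279968438319, 8517816714305, -5202541001903, -1011456803415, 1817045728008, 86196886873, 317376990993,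
  -355645537047, -212598015712, 97410872673, -67350904823, 20365622497, -7417272864, 57616616456],
  [-460336567969800, -232131362085000, 60123396555000, 268678134502200, -114591434184000, -89873251158600,
  58333975659000, 26370893676600, -45853768742400, 12090389038200, -5761210163400, -4328823141000, 1663197753600,
  3840641438400], [72219199101692175, -77114152210550625, 45186064717503375, 9715245131064375, -12422197663201800,
  -672435892892025, -3334395065663025, 1964888245718775, 2084244727039200, -1001813431197825, 643106031189975,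
  -25497895053825, 57157967584800, -410775592782600], [17362533905510400, 91517816795443200, -45389876271206400,
  -8633632707072000, 9870039027302400, -660917474611200, 3135020060160000, -1054100799590400, -2704563368755200,
  1893262483353600, -423454708224000, -430372038758400, 337546380902400, 27661259980800], [-36907872393130200,
  126831894566898600, -76039479922800600, -15640211730591000, 9528896515060800, 9213860994705000, 4728328421193000,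
  -1512579567922200, -3022816000665600, 1261957306732200, -1496789959800600, 429855426930600, 738538030713600,
  -170425334232000], [1008147006436147200, 4660073305473024000, -2576989034643456000, -574300964782080000,
  606878909123788800, 15253358247936000, 182935115897241600, -80323995185971200, -123026059925913600,
  67268247552000000, -40134093727334400, -771433168896000, -3381078786048000, 23184397880524800],
  [9289726320600678400, -2579011856865689600, 1885130677708390400, -510297086990745600, -513309013337702400,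
  220800997130240000, -32772778151116800, 16150841996083200, 128148137259827200, -71543156008550400,
  52642790034636800, -10539403470438400, 17225825334067200, -31088875824742400], [97204678536153600,
  -4004114768524800, 26584308761356800, -44513701477516800, 1458752542617600, 19558858657651200, -11883945892492800,
  -827143275456000, 9843179951923200, -4978249050355200, 2798190959270400, 187461017971200, 227909110579200,
  -1378078570598400], [-1904308346379686400, -2103250736269324800, 1091797551440064000, 213771295534579200,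
  -217677199628390400, 5810536737676800, -81594346579776000, 21559891518144000, 62233755505459200,
  -32171023650009600, 17362273145126400, -100110572352000, 1695302269747200, -8691019139174400],
  [-479507695871385600, 226619838681292800, -449532097035264000, 280511406432460800, 176172799205376000,
  -147886226249932800, 83801584972800000, -3500447394816000, -114693645452083200, 64441863351705600,
  -39957826806374400, 2512792876032000, -7538632586035200, 20679141954355200], [-26782788333057638400,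
  -27304337641092710400, 14216815508395622400, 3098315833631539200, -3097373190134169600, -14762566943539200,
  -922178695915929600, 391731378912460800, 700760089165824000, -411732719220326400, 246540319587532800,
  6994807861248000, 18081418287513600, -134651047005388800], [-4001183517462220800, -2102615054605209600,
  1828877020835328000, -92151788526489600, 17646714855014400, -301385444980838400, -122237242311168000,
  15809577076224000, 152448467757465600, -90355193318707200, 58128733018828800, -2777443250688000,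
  -11264219740569600, -10643683593830400], [42946046229852979200, -8107207680717619200, 2022261684328857600,
  992279165416243200, -559176296782233600, 105862181525913600, -245928418010726400, 69228450496512000,
  179840596819968000, -111387596813107200, 55554903569203200, 9022649912524800, 3537029431296000,
  -31269365386444800], [58167994723382329344, 37172721994558341120, -17968757249169948672, -3349323226609090560,
  3578514560664993792, 88957585301962752, 1145271121222828032, -429252777269526528, -991865320073330688,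
  588292232998551552, -351652322582986752, -4498998241001472, -19718451480231936, 174408171094278144]]

/-- the chosen types -/
def sel (i : ℕ) : ℕ := [0, 1, 2, 3, 4, 5, 6, 7, 8, 10, 11, 13, 16, 17].getD i 0

/-- the multiplicities -/
def m0 (j : ℕ) : ℤ := [1, 1, 1, 1, 0, 1, 1, 1, 0, 1, 1, 1, 0, 0].getD j 0

theorem rowB {S : Type} [Group S] {T : TD S B.Fin.datF} (hT : Tab T B.Fin.tabB) :
    ∃ χ : ℕ → S → ℂ, Enum S B.Fin.tabB.n B.Fin.tabB.d χ ∧ ∀ j < 166, ∀ g, χ j g = vB j (T.ty g) := by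
  obtain ⟨χ, hE, hR⟩ := hT
  refine ⟨χ, hE, fun j hj g => ?_⟩
  have h := hR ([(j, 1)], rwL B.Fin.cols j) (List.mem_append_left _ (List.mem_map.2
    ⟨j, List.mem_range.2 (by rwa [B.Bes.rowsL, List.length_map, List.length_range']), by
      rw [B.Bes.rw'_rowsL _ _ _ (by omega)]⟩)) g
  rw [← nth_eq, nth_rwL] at h
  simpa [vB] using h

theorem rowM {G : Type} [Group G] {T : TD G M.dat} (hT : Tab T M.tabM) {j : ℕ} (hj : j = 1 ∨ j = 2 ∨ j = 5) :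
    IsIrrCharacter G fun g => (vM j (T.ty g) : ℂ) := by
  obtain ⟨χ, hE, hR⟩ := hT
  have h1 : ([(j, 1)], rwL M.cols j) ∈ M.tabM.rel := by
    rcases hj with rfl | rfl | rfl
    · exact List.mem_of_getElem? (i := 1) rfl
    · exact List.mem_of_getElem? (i := 2) rfl
    · exact List.mem_of_getElem? (i := 5) rfl
  have h2 : (fun g => (vM j (T.ty g) : ℂ)) = χ j := funext fun g => by
    have h := hR _ h1 g
    rw [← nth_eq, nth_rwL] at h
    simpa [vM] using h.symm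
  have h3 : 5 < M.tabM.n := by decide +kernel
  exact h2 ▸ hE.irr j (by omega)

private noncomputable def _root_.Cfsg.Agent.LsF.ff9e64a_0 : {f // @Cfsg.Agent.TAB.Eng.Dat.ord = f} := ⟨_, by first | (delta Cfsg.Agent.TAB.Eng.Dat.ord; rewrite [Cfsg.Agent.LsF.getD_eq]; exact rfl) | exact rfl⟩
theorem cM1 : ∀ a < M.dat.n, (M.dat.ord a = 1 → vM 1 a = 196883 ∧ vM 2 a = 21296876) ∧
    (M.dat.ord a = 2 → (vM 1 a = 4371 ∧ vM 2 a = 91884) ∨ vM 1 a = 275) ∧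
    (M.dat.ord a = 47 ∨ M.dat.ord a = 2 * 47 → vM 1 a = 0) := by (refine of_decide_eq_true ?_; (try (rewrite [Cfsg.Agent.LsF.ff9e64a_0.2, Cfsg.Agent.LsF.nmul_pat, Cfsg.Agent.LsF.instDecEq_eq, Cfsg.Agent.LsF.instIDecEq_eq, Cfsg.Agent.LsF.dAnd_eq, Cfsg.Agent.LsF.dOr_eq, Cfsg.Agent.LsF.dBallLT_eq, Cfsg.Agent.LsF.decide_eq])); decide +kernel)

private noncomputable def _root_.Cfsg.Agent.LsF.ff9e64a_1 : {f // @Cfsg.Agent.TAB.Eng.look = f} := ⟨_, by first | (delta Cfsg.Agent.TAB.Eng.look List.brecOn List.brecOn.go Cfsg.Agent.TAB.Eng.look._f; rewrite [Cfsg.Agent.LsF.instDecEq_eq, Cfsg.Agent.LsF.ite_eq]; (try delta Cfsg.Agent.TAB.Eng.look.match_1); (try delta List.casesOn); first | dsimp -zeta only | exact rfl) | exact rfl⟩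
private noncomputable def _root_.Cfsg.Agent.LsF.ff9e64a_2 : {f // @Cfsg.Agent.TAB.Eng.Dat.pw = f} := ⟨_, by first | (delta Cfsg.Agent.TAB.Eng.Dat.pw; rewrite [Cfsg.Agent.LsF.getD_eq]; exact rfl) | exact rfl⟩
private noncomputable def _root_.Cfsg.Agent.LsF.ff9e64a_3 : {f // @Cfsg.Agent.TAB.Eng.Dat.pwf = f} := ⟨_, by first | (delta Cfsg.Agent.TAB.Eng.Dat.pwf; rewrite [Cfsg.Agent.LsF.ff9e64a_1.2, Cfsg.Agent.LsF.ff9e64a_2.2, Cfsg.Agent.LsF.ff9e64a_0.2]; exact rfl) | exact rfl⟩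
theorem cM2 : ∀ a < M.dat.n, 2 * (vM 2 a + vM 5 a) = vM 1 a * vM 1 a - vM 1 (M.dat.pwf a 2) := by (refine of_decide_eq_true ?_; (try (rewrite [Cfsg.Agent.LsF.ff9e64a_3.2, Cfsg.Agent.LsF.iadd_pat, Cfsg.Agent.LsF.imul_pat, Cfsg.Agent.LsF.isub_pat, Cfsg.Agent.LsF.instIDecEq_eq, Cfsg.Agent.LsF.dBallLT_eq, Cfsg.Agent.LsF.decide_eq])); decide +kernel)

private noncomputable def _root_.Cfsg.Agent.LsF.ff9e64a_4 : {f // @Cfsg.Agent.BZ.C6.sel = f} := ⟨_, by first | (delta Cfsg.Agent.BZ.C6.sel; rewrite [Cfsg.Agent.LsF.getD_eq]; exact rfl) | exact rfl⟩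
set_option synthInstance.maxSize 1024 in
theorem cM3 : ∀ i < 14, ∀ a < M.dat.n, M.dat.ord a = B.Fin.datF.ord (sel i) ∨ M.dat.ord a = 2 * B.Fin.datF.ord (sel i) →
    ∀ b < M.dat.n, M.dat.ord b = B.Fin.datF.ord (sel i) ∨ M.dat.ord b = 2 * B.Fin.datF.ord (sel i) →
      vM 1 a + vM 1 b = 2 * (vB 0 (sel i) + vB 1 (sel i) + vB 2 (sel i)) →
        (vM 1 a - vM 1 b) * (vM 1 a - vM 1 b) = 4 * nth sqL (sel i) := by (refine of_decide_eq_true ?_; (try (rewrite [Cfsg.Agent.LsF.ff9e64a_0.2, Cfsg.Agent.LsF.ff9e64a_4.2, Cfsg.Agent.LsF.nmul_pat, Cfsg.Agent.LsF.iadd_pat, Cfsg.Agent.LsF.imul_pat, Cfsg.Agent.LsF.isub_pat, Cfsg.Agent.LsF.instDecEq_eq, Cfsg.Agent.LsF.instIDecEq_eq, Cfsg.Agent.LsF.dOr_eq, Cfsg.Agent.LsF.dBallLT_eq, Cfsg.Agent.LsF.decide_eq])); decide +kernel)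

private noncomputable def _root_.Cfsg.Agent.LsF.ff9e64a_5 : {f // @Cfsg.Agent.TAB.Eng.Dat.cnt = f} := ⟨_, by first | (delta Cfsg.Agent.TAB.Eng.Dat.cnt; rewrite [Cfsg.Agent.LsF.getD_eq]; exact rfl) | exact rfl⟩
private noncomputable def _root_.Cfsg.Agent.LsF.ff9e64a_6 : {f // @Cfsg.Agent.TAB.Use.Rows.n = f} := ⟨_, by first | (delta Cfsg.Agent.TAB.Use.Rows.n; rewrite [Cfsg.Agent.LsF.length_eq]; exact rfl) | exact rfl⟩
private noncomputable def _root_.Cfsg.Agent.LsF.ff9e64a_7 : {f // @Cfsg.Agent.TAB.Sm2.rw' = f} := ⟨_, by first | (delta Cfsg.Agent.TAB.Sm2.rw'; rewrite [Cfsg.Agent.LsF.lappend_pat, Cfsg.Agent.LsF.getD_eq]; exact rfl) | exact rfl⟩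
private noncomputable def _root_.Cfsg.Agent.LsF.ff9e64a_8 : {f // @Cfsg.Agent.TAB.Sm2.wt = f} := ⟨_, by first | (delta Cfsg.Agent.TAB.Sm2.wt; rewrite [Cfsg.Agent.LsF.ff9e64a_7.2, Cfsg.Agent.LsF.imul_pat, Cfsg.Agent.LsF.decLt_eq, Cfsg.Agent.LsF.length_eq, Cfsg.Agent.LsF.ite_eq]; exact rfl) | exact rfl⟩
private noncomputable def _root_.Cfsg.Agent.LsF.ff9e64a_9 : {f // @Cfsg.Agent.TAB.Sm2.ro = f} := ⟨_, by first | (delta Cfsg.Agent.TAB.Sm2.ro; rewrite [Cfsg.Agent.LsF.nadd_pat, Cfsg.Agent.LsF.nsub_pat, Cfsg.Agent.LsF.ndiv_pat, Cfsg.Agent.LsF.decLt_eq, Cfsg.Agent.LsF.length_eq, Cfsg.Agent.LsF.ite_eq]; exact rfl) | exact rfl⟩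
private noncomputable def _root_.Cfsg.Agent.LsF.ff9e64a_10 : {f // @Cfsg.Agent.TAB.Sm2.mkRows = f} := ⟨_, by first | (delta Cfsg.Agent.TAB.Sm2.mkRows; rewrite [Cfsg.Agent.LsF.ff9e64a_8.2, Cfsg.Agent.LsF.ff9e64a_9.2, Cfsg.Agent.LsF.ff9e64a_7.2, Cfsg.Agent.LsF.nadd_pat, Cfsg.Agent.LsF.nmul_pat, Cfsg.Agent.LsF.ndiv_pat, Cfsg.Agent.LsF.lappend_pat, Cfsg.Agent.LsF.map_eq, Cfsg.Agent.LsF.range_eq, Cfsg.Agent.LsF.toNat_eq, Cfsg.Agent.LsF.length_eq]; exact rfl) | exact rfl⟩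
private noncomputable def _root_.Cfsg.Agent.LsF.ff9e64a_11 : {f // @Cfsg.Agent.TAB.Eng.rwL = f} := ⟨_, by first | (delta Cfsg.Agent.TAB.Eng.rwL; rewrite [Cfsg.Agent.LsF.map_eq]; exact rfl) | exact rfl⟩
private noncomputable def _root_.Cfsg.Agent.LsF.ff9e64a_12 : {f // @Cfsg.Agent.TAB.B.Bes.rowsL = f} := ⟨_, by first | (delta Cfsg.Agent.TAB.B.Bes.rowsL; rewrite [Cfsg.Agent.LsF.ff9e64a_11.2, Cfsg.Agent.LsF.map_eq, Cfsg.Agent.LsF.range'_eq]; exact rfl) | exact rfl⟩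
private noncomputable def _root_.Cfsg.Agent.LsF.ff9e64a_13 : {f // @Cfsg.Agent.TAB.B.Fin.tabB = f} := ⟨_, by first | (delta Cfsg.Agent.TAB.B.Fin.tabB; rewrite [Cfsg.Agent.LsF.ff9e64a_10.2, Cfsg.Agent.LsF.ff9e64a_12.2]; exact rfl) | exact rfl⟩
private noncomputable def _root_.Cfsg.Agent.LsF.ff9e64a_14 : {f // @Cfsg.Agent.TAB.Use.Rows.d = f} := ⟨_, by first | (delta Cfsg.Agent.TAB.Use.Rows.d; rewrite [Cfsg.Agent.LsF.getD_eq]; exact rfl) | exact rfl⟩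
theorem cB1 : (∀ t < B.Fin.datF.n, 0 < B.Fin.datF.cnt t) ∧ (∀ t < B.Fin.datF.n, B.Fin.datF.ord t = 1 → t = 0) ∧
    (∀ i < 14, sel i < B.Fin.datF.n) ∧ 162 < B.Fin.datF.n ∧ B.Fin.datF.ord 162 = 47 ∧ 14 ≤ B.Fin.tabB.n ∧
    (∀ j < B.Fin.tabB.n, 3 ≤ j → 100627 < B.Fin.tabB.d j) ∧ ∀ j < B.Fin.tabB.n, 14 ≤ j → 9265217536 < B.Fin.tabB.d j := by
  (refine of_decide_eq_true ?_; (try (rewrite [Cfsg.Agent.LsF.ff9e64a_5.2, Cfsg.Agent.LsF.ff9e64a_0.2, Cfsg.Agent.LsF.ff9e64a_4.2, Cfsg.Agent.LsF.ff9e64a_6.2, Cfsg.Agent.LsF.ff9e64a_13.2, Cfsg.Agent.LsF.ff9e64a_14.2, Cfsg.Agent.LsF.instDecEq_eq, Cfsg.Agent.LsF.decLe_eq, Cfsg.Agent.LsF.decLt_eq, Cfsg.Agent.LsF.dAnd_eq, Cfsg.Agent.LsF.dBallLT_eq, Cfsg.Agent.LsF.decide_eq])); decide +kernel)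

theorem cB2 : vB 0 0 = 1 ∧ vB 1 0 = 4371 ∧ vB 2 0 = 96255 ∧ vB 3 0 = 1139374 ∧ vB 0 162 = 1 ∧ vB 1 162 = 0 ∧
    vB 2 162 = -1 := by decide +kernel

private noncomputable def _root_.Cfsg.Agent.LsF.ff9e64a_15 : {f // @Cfsg.Agent.BZ.C6.m0 = f} := ⟨_, by first | (delta Cfsg.Agent.BZ.C6.m0; rewrite [Cfsg.Agent.LsF.getD_eq]; exact rfl) | exact rfl⟩
theorem cB3 : ∀ t < B.Fin.datF.n, ∑ j ∈ range 14, m0 j * vB j t = nth sqL t := by (refine of_decide_eq_true ?_; (try (rewrite [Cfsg.Agent.LsF.ff9e64a_15.2, Cfsg.Agent.LsF.imul_pat, Cfsg.Agent.LsF.fsum_eq, Cfsg.Agent.LsF.frange_eq, Cfsg.Agent.LsF.iACM_eq, Cfsg.Agent.LsF.instIDecEq_eq, Cfsg.Agent.LsF.dBallLT_eq, Cfsg.Agent.LsF.decide_eq])); decide +kernel)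

theorem cB4 : ∀ j < 14, ∀ l < 14, ∑ i ∈ range 14, vB j (sel i) * nth (ntd WL [] i) l =
    if j = l then 78393525310115020800 else 0 := by (refine of_decide_eq_true ?_; (try (rewrite [Cfsg.Agent.LsF.ff9e64a_4.2, Cfsg.Agent.LsF.imul_pat, Cfsg.Agent.LsF.fsum_eq, Cfsg.Agent.LsF.frange_eq, Cfsg.Agent.LsF.iACM_eq, Cfsg.Agent.LsF.instDecEq_eq, Cfsg.Agent.LsF.instIDecEq_eq, Cfsg.Agent.LsF.dBallLT_eq, Cfsg.Agent.LsF.ite_eq, Cfsg.Agent.LsF.decide_eq])); decide +kernel)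

private noncomputable def _root_.Cfsg.Agent.LsF.ff9e64a_16 : {f // @Cfsg.Agent.TAB.Eng.ipF = f} := ⟨_, by first | (delta Cfsg.Agent.TAB.Eng.ipF; rewrite [Cfsg.Agent.LsF.ff9e64a_5.2, Cfsg.Agent.LsF.imul_pat, Cfsg.Agent.LsF.icast_pat, Cfsg.Agent.LsF.fsum_eq, Cfsg.Agent.LsF.frange_eq, Cfsg.Agent.LsF.iACM_eq]; exact rfl) | exact rfl⟩
theorem cG0 : ipF B.Fin.datF (fun t => nth sqL t * vB 0 t) (vB 0) = B.Fin.datF.N * (1 : ℤ) := by (refine of_decide_eq_true ?_; (try (rewrite [Cfsg.Agent.LsF.ff9e64a_16.2, Cfsg.Agent.LsF.imul_pat, Cfsg.Agent.LsF.icast_pat, Cfsg.Agent.LsF.instIDecEq_eq, Cfsg.Agent.LsF.decide_eq])); decide +kernel)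

theorem cG1 : ipF B.Fin.datF (fun t => nth sqL t * (vB 1 t - vB 0 t)) (fun t => vB 1 t - vB 0 t) =
    B.Fin.datF.N * (2 : ℤ) := by (refine of_decide_eq_true ?_; (try (rewrite [Cfsg.Agent.LsF.ff9e64a_16.2, Cfsg.Agent.LsF.imul_pat, Cfsg.Agent.LsF.isub_pat, Cfsg.Agent.LsF.icast_pat, Cfsg.Agent.LsF.instIDecEq_eq, Cfsg.Agent.LsF.decide_eq])); decide +kernel)

theorem cG10 : ipF B.Fin.datF (fun t => nth sqL t * (vB 1 t - vB 0 t)) (vB 0) = B.Fin.datF.N * (0 : ℤ) := by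
  (refine of_decide_eq_true ?_; (try (rewrite [Cfsg.Agent.LsF.ff9e64a_16.2, Cfsg.Agent.LsF.imul_pat, Cfsg.Agent.LsF.isub_pat, Cfsg.Agent.LsF.icast_pat, Cfsg.Agent.LsF.instIDecEq_eq, Cfsg.Agent.LsF.decide_eq])); decide +kernel)

theorem cG2 : ipF B.Fin.datF (fun t => nth sqL t * (vB 2 t - vB 1 t)) (fun t => vB 2 t - vB 1 t) =
    B.Fin.datF.N * (1 : ℤ) := by (refine of_decide_eq_true ?_; (try (rewrite [Cfsg.Agent.LsF.ff9e64a_16.2, Cfsg.Agent.LsF.imul_pat, Cfsg.Agent.LsF.isub_pat, Cfsg.Agent.LsF.icast_pat, Cfsg.Agent.LsF.instIDecEq_eq, Cfsg.Agent.LsF.decide_eq])); decide +kernel)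

theorem cG3 : ipF B.Fin.datF (fun t => nth sqL t * (vB 3 t - vB 2 t)) (fun t => vB 3 t - vB 2 t) =
    B.Fin.datF.N * (1 : ℤ) := by (refine of_decide_eq_true ?_; (try (rewrite [Cfsg.Agent.LsF.ff9e64a_16.2, Cfsg.Agent.LsF.imul_pat, Cfsg.Agent.LsF.isub_pat, Cfsg.Agent.LsF.icast_pat, Cfsg.Agent.LsF.instIDecEq_eq, Cfsg.Agent.LsF.decide_eq])); decide +kernel)

private noncomputable def _root_.Cfsg.Agent.LsF.ff9e64a_17 : {f // @Cfsg.Agent.KM.Sp.rl = f} := ⟨_, by first | (delta Cfsg.Agent.KM.Sp.rl; rewrite [Cfsg.Agent.LsF.getD_eq]; exact rfl) | exact rfl⟩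
private noncomputable def _root_.Cfsg.Agent.LsF.ff9e64a_18 : {f // @Cfsg.Agent.KM.Sp.cbd = f} := ⟨_, by first | (delta Cfsg.Agent.KM.Sp.cbd; rewrite [Cfsg.Agent.LsF.ff9e64a_17.2, Cfsg.Agent.LsF.ff9e64a_6.2, Cfsg.Agent.LsF.ff9e64a_14.2, Cfsg.Agent.LsF.ff9e64a_1.2, Cfsg.Agent.LsF.nmul_pat, Cfsg.Agent.LsF.ndiv_pat, Cfsg.Agent.LsF.dProdEq_eq, Cfsg.Agent.LsF.instDecEq_eq, Cfsg.Agent.LsF.decLt_eq, Cfsg.Agent.LsF.getD_eq, Cfsg.Agent.LsF.headD_eq, Cfsg.Agent.LsF.natAbs_eq, Cfsg.Agent.LsF.instIDecEq_eq, Cfsg.Agent.LsF.dAnd_eq, Cfsg.Agent.LsF.dNot_eq, Cfsg.Agent.LsF.dListEq_eq, Cfsg.Agent.LsF.ite_eq]; exact rfl) | exact rfl⟩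
private noncomputable def _root_.Cfsg.Agent.LsF.ff9e64a_19 : {f // @Cfsg.Agent.KM.Sp.cbg = f} := ⟨_, by first | (delta Cfsg.Agent.KM.Sp.cbg; rewrite [Cfsg.Agent.LsF.ff9e64a_18.2, Cfsg.Agent.LsF.foldr_eq]; exact rfl) | exact rfl⟩
theorem cR3 : ∀ t < B.Fin.datF.n, (2 ≤ B.Fin.datF.ord t ∧ ∀ m < B.Fin.datF.ord t, m ∣ B.Fin.datF.ord t → m = 1) →
    B.Fin.datF.ord t ≠ 3 → ¬ 3 ^ 10 ∣ KM.Sp.cbg B.Fin.datF B.Fin.tabB [] t [25, 26, 51] := by (refine of_decide_eq_true ?_; (try (rewrite [Cfsg.Agent.LsF.ff9e64a_0.2, Cfsg.Agent.LsF.ff9e64a_19.2, Cfsg.Agent.LsF.ff9e64a_13.2, Cfsg.Agent.LsF.npow_pat, Cfsg.Agent.LsF.instDecEq_eq, Cfsg.Agent.LsF.decLe_eq, Cfsg.Agent.LsF.dAnd_eq, Cfsg.Agent.LsF.dNot_eq, Cfsg.Agent.LsF.dBallLT_eq, Cfsg.Agent.LsF.decide_eq])); decide +kernel)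

theorem cR5 : ∀ t < B.Fin.datF.n, (2 ≤ B.Fin.datF.ord t ∧ ∀ m < B.Fin.datF.ord t, m ∣ B.Fin.datF.ord t → m = 1) →
    B.Fin.datF.ord t ≠ 5 → ¬ 5 ^ 4 ∣ KM.Sp.cbg B.Fin.datF B.Fin.tabB [] t [4, 13, 19, 22] := by (refine of_decide_eq_true ?_; (try (rewrite [Cfsg.Agent.LsF.ff9e64a_0.2, Cfsg.Agent.LsF.ff9e64a_19.2, Cfsg.Agent.LsF.ff9e64a_13.2, Cfsg.Agent.LsF.npow_pat, Cfsg.Agent.LsF.instDecEq_eq, Cfsg.Agent.LsF.decLe_eq, Cfsg.Agent.LsF.dAnd_eq, Cfsg.Agent.LsF.dNot_eq, Cfsg.Agent.LsF.dBallLT_eq, Cfsg.Agent.LsF.decide_eq])); decide +kernel)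

end Cfsg.Agent.BZ.C6

private theorem dce_dae82bd73cce : _root_.True := by
  try have : _root_.True := by simp only [_root_.Cfsg.Agent.BZ.C6.vM.eq_1]
  try have : _root_.True := by simp only [_root_.Cfsg.Agent.BZ.C6.vB.eq_1]
  exact _root_.True.intro
end

-- part: BZ/X/E62Dat
section
prune_inst 0x7f00000000000000000000000000000000000000000000000000000000000000000000000000000000000000000000000000000000000000000000000000000000000000000000000000000000000000003fffffffffffffffffffffffffffbeffbdffffffff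
set_option linter.all false
open scoped Cfsg.Agent.FastGrp

/-!
# BZ, `2.²E₆(2)`: the checks on the table of the Baby Monster (helper84)
-/

set_option autoImplicit false
set_option maxRecDepth 100000
set_option Elab.async false

namespace Cfsg.Agent.BZ.X.E6

open Cfsg Cfsg.Agent.TAB Cfsg.Agent.TAB.Eng Cfsg.Agent.TAB.Use Cfsg.Agent.BZ.C6 Finset

/-- five functions on the types of odd order -/
def fL : List (List (ℕ × ℤ)) :=
  [[(0, -2300957743760702554767360), (5, -63961497600), (6, 229278720), (17, 7539840), (18, -327360), (30, 31680),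
  (45, 6600), (46, -10824), (53, 1320), (74, 165)], [(0, 70145761452774654706974720), (5, -4059095040000),
  (6, 732165120), (17, 452833920), (18, 1014720), (30, -4944960), (45, 4176), (46, 189288), (53, -3000), (74, -2067)],
  [(0, -6831421569087626123673600), (5, 698656358400), (6, -651141120), (17, -88704000), (18, 446400), (30, 1013760),
  (45, -3072), (46, -36120), (53, -540), (74, 630)], [(0, 23477784425790851807969280), (5, -1293990297600),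
  (6, -49382400), (17, 141482880), (18, 89280), (30, -1494720), (45, 1248), (46, 54888), (53, -720), (74, -597)],
  [(0, -6363036063321802407936000), (5, 339487948800), (6, 24284160), (17, -37699200), (18, 24000), (30, 417600),
  (45, -720), (46, -16344), (53, 360), (74, 159)]]

/-- the functions -/
def fW (i t : ℕ) : ℤ := ((fL.getD i []).lookup t).getD 0

/-- the scalar products with the rows -/
def aL : List (List ℤ) :=
  [[1, 0, 0, 0, 0, 1, 0, 0, 1, 0, 0, 1, 0, 0, 0, 0, 1], [0, 0, 2, 0, 0, 2, 0, 0, 2, 0, 0, 2, 0, -2, 0, 0, 2],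
  [0, 0, 0, 0, 1, 1, 0, 0, 1, 0, 0, 1, 0, 0, 0, 0, 1], [0, 0, 0, 0, 0, 0, 0, 2, 2, 0, 0, -2, -2, 0, 0, 0, -2],
  [0, 0, 0, 0, 0, 0, 0, 0, 0, 1, 0, 1, 1, 1, 0, 0, 1], [1, 0, 0, 0, 0, 0, 0, 0, 0, 0, 0, 0, 0, 0, 0, 0, 0],
  [0, 0, 1, 0, 0, 0, 0, 0, 0, 0, 0, 0, 0, 0, 0, 0, 0], [1, 0, 1, 0, 1, 1, 0, 1, 0, 0, 0, 0, 1, 1, 0, 0, 0]]

/-- the entries -/
def aW (i j : ℕ) : ℤ := (aL.getD i []).getD j 0

/-- the scalar product, without the vanishing terms -/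
private noncomputable def ipz (D : Dat) (f g : ℕ → ℤ) (n : ℕ) : ℤ :=
  Nat.rec 0 (fun t ih => Int.rec (fun m => Nat.rec ih
    (fun _ _ => Int.add ih (Int.mul (Int.ofNat (D.cnt t)) (Int.mul (f t) (g t)))) m)
    (fun _ => Int.add ih (Int.mul (Int.ofNat (D.cnt t)) (Int.mul (f t) (g t)))) (g t)) n

private theorem ipz_eq : @ipF = fun D f g => ipz D f g D.n := by
  funext D f g
  rw [ipF]
  induction D.n with
  | zero => rfl
  | succ n ih =>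
    rw [sum_range_succ, ih]
    show _ = Int.rec (motive := fun _ => ℤ) (fun m => Nat.rec (motive := fun _ => ℤ) (ipz D f g n)
      (fun _ _ => ipz D f g n + (D.cnt n : ℤ) * (f n * g n)) m) (fun _ => ipz D f g n + (D.cnt n : ℤ) * (f n * g n)) (g n)
    generalize hx : ipz D f g n + (D.cnt n : ℤ) * (f n * g n) = x
    cases h : g n with
    | ofNat m =>
      cases m with
      | zero =>
        rw [← hx, h]
        show _ + _ * (_ * 0) = ipz D f g n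
        rw [mul_zero, mul_zero, add_zero]
      | succ m => rfl
    | negSucc m => rfl

theorem c1 : ∀ i < 5, ∀ j < 17, ipF B.Fin.datF (vB j) (fW i) = B.Fin.datF.N * aW i j := by
  rewrite [ipz_eq]
  decide +kernel

private noncomputable def _root_.Cfsg.Agent.KOad6d721.k0 : ((x0 : Prop) → ((@Decidable @x0) → @Bool)) := @(fun (x0 : Prop) (x1 : @Decidable @x0) => @Decidable.rec.{1} @x0 @(fun (x2 : @Decidable @x0) => @Bool) @(fun (x2 : @Not @x0) => @Bool.false) @(fun (x2 : x0) => @Bool.true) @x1)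
private theorem _root_.Cfsg.Agent.KOad6d721.e0 : @Decidable.decide = @_root_.Cfsg.Agent.KOad6d721.k0 := by delta _root_.Cfsg.Agent.KOad6d721.k0; rfl'
private theorem _root_.Cfsg.Agent.KOad6d721.e1.{ku, kv} {α : Type kv} {M : List α → Sort ku} (φ : ∀ l, M l) {z : M List.nil} {s : ∀ a l, M l → M (List.cons a l)} (h0 : φ List.nil = z) (hs : ∀ a l, φ (List.cons a l) = s a l (φ l)) (l : List α) : φ l = @List.rec α M z s l := List.rec h0 (fun a l ih => (hs a l).trans (congrArg (s a l) ih)) l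
private noncomputable def _root_.Cfsg.Agent.KOad6d721.k3.{ku0, ku1} : ((x0 : Sort (ku1+1)) → ((x1 : Sort (ku0+1)) → ((x2 : (x0 → (x1 → x1))) → ((@LeftCommutative.{(ku1+1), (ku0+1)} @x0 @x1 @x2) → (x1 → ((@Multiset.{ku1} @x0) → x1)))))) := @(fun (x0 : Sort (ku1+1)) (x1 : Sort (ku0+1)) (x2 : (x0 → (x1 → x1))) (x3 : @LeftCommutative.{(ku1+1), (ku0+1)} @x0 @x1 @x2) (x4 : x1) (x5 : @Multiset.{ku1} @x0) => @Quot.lift.{(ku1+1), (ku0+1)} (@List.{ku1} @x0) (@Setoid.r.{(ku1+1)} (@List.{ku1} @x0) (@List.isSetoid.{ku1} @x0)) @x1 @(fun (x6 : @List.{ku1} @x0) => @List.foldr.{ku1, ku0} @x0 @x1 @x2 @x4 @x6) @(fun (x6 : @List.{ku1} @x0) (x7 : @List.{ku1} @x0) (x8 : @Setoid.r.{(ku1+1)} (@List.{ku1} @x0) (@List.isSetoid.{ku1} @x0) @x6 @x7) => @List.Perm.foldr_eq.{ku1, ku0} @x0 @x1 @x2 @x6 @x7 @x3 @x8 @x4) @x5)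
private theorem _root_.Cfsg.Agent.KOad6d721.e3.{ku0, ku1} : @Multiset.foldr.{ku0, ku1} = @_root_.Cfsg.Agent.KOad6d721.k3.{ku0, ku1} := by delta _root_.Cfsg.Agent.KOad6d721.k3; rfl'
private noncomputable def _root_.Cfsg.Agent.KOad6d721.k4.{ku0} : ((x0 : Sort (ku0+1)) → ((@AddCommMonoid.{ku0} @x0) → ((@Multiset.{ku0} @x0) → x0))) := @(fun (x0 : Sort (ku0+1)) (x1 : @AddCommMonoid.{ku0} @x0) => @Cfsg.Agent.KOad6d721.k3.{ku0, ku0} @x0 @x0 @(fun (x2 : x0) (x3 : x0) => @Add.add.{ku0} @x0 (@AddSemigroup.toAdd.{ku0} @x0 (@AddMonoid.toAddSemigroup.{ku0} @x0 (@AddCommMonoid.toAddMonoid.{ku0} @x0 @x1))) @x2 @x3) (@Multiset.sum._proof_1.{ku0} @x0 @x1) (@Zero.zero.{ku0} @x0 (@AddMonoid.toZero.{ku0} @x0 (@AddCommMonoid.toAddMonoid.{ku0} @x0 @x1))))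
private theorem _root_.Cfsg.Agent.KOad6d721.e4.{ku0} : @Multiset.sum.{ku0} = @_root_.Cfsg.Agent.KOad6d721.k4.{ku0} := by delta _root_.Cfsg.Agent.KOad6d721.k4; rewrite [← Cfsg.Agent.KOad6d721.e3.{ku0, ku0}]; rfl'
private noncomputable def _root_.Cfsg.Agent.KOad6d721.k8.{ku0} : ((x0 : Sort (ku0+1)) → ((@List.{ku0} @x0) → (@Nat → @Option.{ku0} @x0))) := @(fun (x0 : Sort (ku0+1)) (x1 : @List.{ku0} @x0) (x2 : @Nat) => @List.rec.{(ku0+1), ku0} @x0 @(fun (x3 : @List.{ku0} @x0) => (@Nat → @Option.{ku0} @x0)) @(fun (x3 : @Nat) => @Option.none.{ku0} @x0) @(fun (x3 : x0) (x4 : @List.{ku0} @x0) (x5 : (@Nat → @Option.{ku0} @x0)) (x6 : @Nat) => @Nat.rec.{(ku0+1)} @(fun (x7 : @Nat) => @Option.{ku0} @x0) (@Option.some.{ku0} @x0 @x3) @(fun (x7 : @Nat) (x8 : @Option.{ku0} @x0) => @x5 @x7) @x6) @x1 @x2)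
private theorem _root_.Cfsg.Agent.KOad6d721.e8.{ku0} : @List.get?Internal.{ku0} = @_root_.Cfsg.Agent.KOad6d721.k8.{ku0} := by delta _root_.Cfsg.Agent.KOad6d721.k8; funext a0 a1 a2; refine (congrFun (_root_.Cfsg.Agent.KOad6d721.e1 (fun a1 a2 => @List.get?Internal.{ku0} a0 a1 a2) ?_ (fun c0 c1 => ?_) a1) a2 :) <;> [(funext b0; (rfl')); (funext b0; (cases b0 with | @zero  => (rfl') | @succ b0_0 => (rfl')))]
private noncomputable def _root_.Cfsg.Agent.KOad6d721.k9 : (by first | exact type_of% @Cfsg.Agent.TAB.Eng.Dat.cnt | exact Unit : Sort _) := by first | (refine @Subtype.val _ (fun g => @Cfsg.Agent.TAB.Eng.Dat.cnt = @g) (@Subtype.mk _ _ (@(fun (x0 : @Cfsg.Agent.TAB.Eng.Dat) (x1 : @Nat) => @Option.rec.{1, 0} @Nat @(fun (x2 : @Option.{0} @Nat) => @Nat) (nat_lit 0) @(fun (x2 : @Nat) => x2) (@Cfsg.Agent.KOad6d721.k8.{0} @Nat (@Cfsg.Agent.TAB.Eng.Dat.cntL @x0) @x1))) ?_); rewrite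 [← Cfsg.Agent.KOad6d721.e8.{0}]; rfl') | exact @Cfsg.Agent.TAB.Eng.Dat.cnt | exact ()
private theorem _root_.Cfsg.Agent.KOad6d721.e9 : (by first | exact @Cfsg.Agent.TAB.Eng.Dat.cnt = @_root_.Cfsg.Agent.KOad6d721.k9 | exact True : Prop) := by first | (delta _root_.Cfsg.Agent.KOad6d721.k9; exact @Subtype.property _ (fun g => @Cfsg.Agent.TAB.Eng.Dat.cnt = @g) _) | rfl | trivial
private noncomputable def _root_.Cfsg.Agent.KOad6d721.oEq.{ku} (α : Sort ku) (a b : Nat) (f t : α) : α := @Decidable.rec (a = b) (fun _ => α) (fun _ => f) (fun _ => t) (Nat.decEq a b)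
private noncomputable def _root_.Cfsg.Agent.KOad6d721.k15.{ku} (α : Sort ku) (a b : Nat) (f t : α) : α := @Bool.rec (fun _ => α) f t (Nat.beq a b)
private theorem _root_.Cfsg.Agent.KOad6d721.e15.{ku} : @_root_.Cfsg.Agent.KOad6d721.oEq.{ku} = @_root_.Cfsg.Agent.KOad6d721.k15.{ku} := funext fun α => funext fun a => funext fun b => funext fun f => funext fun t => by delta _root_.Cfsg.Agent.KOad6d721.oEq _root_.Cfsg.Agent.KOad6d721.k15; cases h : Nat.beq a b <;> cases Nat.decEq a b <;> rename_i g <;> first | rfl | exact absurd g (Nat.ne_of_beq_eq_false h) | exact absurd (Nat.eq_of_beq_eq_true h) g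
private noncomputable def _root_.Cfsg.Agent.KOad6d721.k16.{ku0, ku1} : ((x0 : Sort (ku0+1)) → ((x1 : Sort (ku1+1)) → ((@BEq.{ku0} @x0) → (x0 → ((@List.{(max ku1 ku0)} (@Prod.{ku0, ku1} @x0 @x1)) → @Option.{ku1} @x1))))) := @(fun (x0 : Sort (ku0+1)) (x1 : Sort (ku1+1)) (x2 : @BEq.{ku0} @x0) (x3 : x0) (x4 : @List.{(max ku1 ku0)} (@Prod.{ku0, ku1} @x0 @x1)) => @List.rec.{(max (ku0+1) (ku1+1)), (max ku1 ku0)} (@Prod.{ku0, ku1} @x0 @x1) @(fun (x5 : @List.{(max ku1 ku0)} (@Prod.{ku0, ku1} @x0 @x1)) => (x0 → @Option.{ku1} @x1)) @(fun (x5 : x0) => @Option.none.{ku1} @x1) @(fun (x5 : @Prod.{ku0, ku1} @x0 @x1) (x6 : @List.{(max ku1 ku0)} (@Prod.{ku0, ku1} @x0 @x1)) (x7 : (x0 → @Option.{ku1} @x1)) (x8 : x0) => @Prod.rec.{(ku1+1), ku0, ku1} @x0 @x1 @(fun (x9 : @Prod.{ku0, ku1} @x0 @x1) => @Option.{ku1} @x1) @(fun (x9 : x0) (x10 : x1) => @Bool.rec.{(ku1+1)} @(fun (x11 : @Bool) => @Option.{ku1}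 @x1) (@x7 @x8) (@Option.some.{ku1} @x1 @x10) (@BEq.beq.{ku0} @x0 @x2 @x8 @x9)) @x5) @x4 @x3)
private theorem _root_.Cfsg.Agent.KOad6d721.e16.{ku0, ku1} : @List.lookup.{ku0, ku1} = @_root_.Cfsg.Agent.KOad6d721.k16.{ku0, ku1} := by delta _root_.Cfsg.Agent.KOad6d721.k16; funext a0 a1 a2 a3 a4; refine (congrFun (_root_.Cfsg.Agent.KOad6d721.e1 (fun a4 a3 => @List.lookup.{ku0, ku1} a0 a1 a2 a3 a4) ?_ (fun c0 c1 => ?_) a4) a3 :) <;> (rfl')
private noncomputable def _root_.Cfsg.Agent.KOad6d721.k17 : (by first | exact type_of% @Cfsg.Agent.BZ.X.E6.fW | exact Unit : Sort _) := by first | (refine @Subtype.val _ (fun g => @Cfsg.Agent.BZ.X.E6.fW = @g) (@Subtype.mk _ _ (@(fun (x0 : @Nat) (x1 : @Nat) => @Option.rec.{1, 0} @Int @(fun (x2 : @Option.{0} @Int) => @Int) (@Int.ofNat (nat_lit 0)) @(fun (x2 : @Int) => x2) (@Cfsg.Agent.KOad6d721.k16.{0, 0} @Nat @Int (@BEq.mk.{0} @Nat @(fun (x2 : @Nat)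 (x3 : @Nat) => @Cfsg.Agent.KOad6d721.k15.{1} @Bool @x2 @x3 @Bool.false @Bool.true)) @x1 (@Option.rec.{1, 0} (@List.{0} (@Prod.{0, 0} @Nat @Int)) @(fun (x2 : @Option.{0} (@List.{0} (@Prod.{0, 0} @Nat @Int))) => @List.{0} (@Prod.{0, 0} @Nat @Int)) (@List.nil.{0} (@Prod.{0, 0} @Nat @Int)) @(fun (x2 : @List.{0} (@Prod.{0, 0} @Nat @Int)) => x2) (@Cfsg.Agent.KOad6d721.k8.{0} (@List.{0} (@Prod.{0, 0} @Nat @Int)) @Cfsg.Agent.BZ.X.E6.fL @x0))))) ?_); rewrite [← Cfsg.Agent.KOad6d721.e16.{0, 0}, ← Cfsg.Agent.KOad6d721.e15.{1}, ← Cfsg.Agent.KOad6d721.e8.{0}]; (try delta Cfsg.Agent.BZ.X.E6.fW); (try generalize @Cfsg.Agent.BZ.X.E6.fL = g0); rfl') | exact @Cfsg.Agent.BZ.X.E6.fW | exact ()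
private theorem _root_.Cfsg.Agent.KOad6d721.e17 : (by first | exact @Cfsg.Agent.BZ.X.E6.fW = @_root_.Cfsg.Agent.KOad6d721.k17 | exact True : Prop) := by first | (delta _root_.Cfsg.Agent.KOad6d721.k17; exact @Subtype.property _ (fun g => @Cfsg.Agent.BZ.X.E6.fW = @g) _) | rfl | trivial
private noncomputable def _root_.Cfsg.Agent.KOad6d721.k19l (n : Nat) (P : ∀ k, k < n → Prop) (H : ∀ k h, Decidable (P k h)) (m : Nat) : m ≤ n → Bool := @Nat.rec (fun m => m ≤ n → Bool) (fun _ => true) (fun k ih h => @Decidable.rec (P k h) (fun _ => Bool) (fun _ => false) (fun _ => ih (Nat.le_of_succ_le h)) (H k h)) m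
private theorem _root_.Cfsg.Agent.KOad6d721.k19ls (n : Nat) (P : ∀ k, k < n → Prop) (H : ∀ k h, Decidable (P k h)) (m : Nat) : ∀ h : m ≤ n, _root_.Cfsg.Agent.KOad6d721.k19l n P H m h = true ↔ ∀ k (g : k < m), P k (Nat.lt_of_lt_of_le g h) := by induction m with | zero => exact fun _ => ⟨fun _ _ g => absurd g (Nat.not_lt_zero _), fun _ => rfl⟩ | succ m ih => intro h; show @Decidable.rec (P m h) (fun _ => Bool) (fun _ => false) (fun _ => _root_.Cfsg.Agent.KOad6d721.k19l n P H m (Nat.le_of_succ_le h)) (H m h) = true ↔ _; cases H m h with | isFalse q => exact ⟨fun g => absurd g Bool.false_ne_true, fun g => absurd (g m (Nat.lt_succ_self m)) q⟩ | isTrue q => exact ⟨fun g k hk => (Nat.lt_succ_iff_lt_or_eq.1 hk).elim ((ih _).1 g k) fun e => by subst e; exact q, fun g => (ih _).2 fun k hk => g k (Nat.lt_succ_of_lt hk)⟩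
private noncomputable def _root_.Cfsg.Agent.KOad6d721.k19 (n : Nat) (P : ∀ k, k < n → Prop) (H : ∀ k h, Decidable (P k h)) : Decidable (∀ k h, P k h) := @Bool.rec (fun b => _root_.Cfsg.Agent.KOad6d721.k19l n P H n (Nat.le_refl n) = b → Decidable (∀ k h, P k h)) (fun g => isFalse fun q => Bool.false_ne_true (g.symm.trans ((_root_.Cfsg.Agent.KOad6d721.k19ls n P H n _).2 fun k h => q k h))) (fun g => isTrue fun k h => (_root_.Cfsg.Agent.KOad6d721.k19ls n P H n _).1 g k h) (_root_.Cfsg.Agent.KOad6d721.k19l n P H n (Nat.le_refl n)) rfl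
private theorem _root_.Cfsg.Agent.KOad6d721.e19 : @Nat.decidableBallLT = @_root_.Cfsg.Agent.KOad6d721.k19 := funext fun _ => funext fun _ => funext fun _ => Subsingleton.elim _ _
private noncomputable def _root_.Cfsg.Agent.KOad6d721.k20 : ((x0 : @Nat) → ((x1 : @Nat) → @Decidable (@Eq.{1} @Nat @x0 @x1))) := @(fun (x0 : @Nat) (x1 : @Nat) => @Bool.rec.{1} @(fun (x2 : @Bool) => ((@Eq.{1} @Bool (@Nat.beq @x0 @x1) @x2) → @Decidable (@Eq.{1} @Nat @x0 @x1))) @(fun (x2 : @Eq.{1} @Bool (@Nat.beq @x0 @x1) @Bool.false) => @Decidable.isFalse (@Eq.{1} @Nat @x0 @x1) (@Nat.ne_of_beq_eq_false @x0 @x1 @x2)) @(fun (x2 : @Eq.{1} @Bool (@Nat.beq @x0 @x1) @Bool.true) => @Decidable.isTrue (@Eq.{1} @Nat @x0 @x1) (@Nat.eq_of_beq_eq_true @x0 @x1 @x2)) (@Nat.beq @x0 @x1) (@Eq.refl.{1} @Bool (@Nat.beq @x0 @x1)))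
private theorem _root_.Cfsg.Agent.KOad6d721.e20 : @Nat.decEq = @_root_.Cfsg.Agent.KOad6d721.k20 := by delta _root_.Cfsg.Agent.KOad6d721.k20; rfl'
private noncomputable def _root_.Cfsg.Agent.KOad6d721.k21 : ((x0 : @Int) → ((x1 : @Int) → @Decidable (@Eq.{1} @Int @x0 @x1))) := @(fun (x0 : @Int) (x1 : @Int) => @Int.rec.{1} @(fun (x2 : @Int) => @Decidable (@Eq.{1} @Int @x2 @x1)) @(fun (x2 : @Nat) => @Int.rec.{1} @(fun (x3 : @Int) => @Decidable (@Eq.{1} @Int (@Int.ofNat @x2) @x3)) @(fun (x3 : @Nat) => @Decidable.rec.{1} (@Eq.{1} @Nat @x2 @x3) @(fun (x4 : @Decidable (@Eq.{1} @Nat @x2 @x3)) => @Decidable (@Eq.{1} @Int (@Int.ofNat @x2) (@Int.ofNat @x3))) @(fun (x4 : @Not (@Eq.{1} @Nat @x2 @x3)) => @Decidable.isFalse (@Eq.{1} @Int (@Int.ofNat @x2) (@Int.ofNat @x3)) (@Int.decEq._proof_2 @x2 @x3 @x4)) @(fun (x4 : @Eq.{1} @Nat @x2 @x3) => @Decidable.isTrue (@Eq.{1} @Int (@Int.ofNat @x2)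 (@Int.ofNat @x3)) (@Int.decEq._proof_1 @x2 @x3 @x4)) (@Cfsg.Agent.KOad6d721.k20 @x2 @x3)) @(fun (x3 : @Nat) => @Decidable.isFalse (@Eq.{1} @Int (@Int.ofNat @x2) (@Int.negSucc @x3)) (@Int.decEq._proof_3 @x2 @x3)) @x1) @(fun (x2 : @Nat) => @Int.rec.{1} @(fun (x3 : @Int) => @Decidable (@Eq.{1} @Int (@Int.negSucc @x2) @x3)) @(fun (x3 : @Nat) => @Decidable.isFalse (@Eq.{1} @Int (@Int.negSucc @x2) (@Int.ofNat @x3)) (@Int.decEq._proof_4 @x2 @x3)) @(fun (x3 : @Nat) => @Decidable.rec.{1} (@Eq.{1} @Nat @x2 @x3) @(fun (x4 : @Decidable (@Eq.{1} @Nat @x2 @x3)) => @Decidable (@Eq.{1} @Int (@Int.negSucc @x2) (@Int.negSucc @x3))) @(fun (x4 : @Not (@Eq.{1} @Nat @x2 @x3)) => @Decidable.isFalse (@Eq.{1} @Int (@Int.negSucc @x2) (@Int.negSucc @x3)) (@Int.decEq._proof_6 @x2 @x3 @x4)) @(fun (x4 : @Eq.{1} @Nat @x2 @x3) => @Decidable.isTrue (@Eq.{1} @Int (@Int.negSucc @x2) (@Int.negSucc @x3)) (@Int.decEq._proof_5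 @x2 @x3 @x4)) (@Cfsg.Agent.KOad6d721.k20 @x2 @x3)) @x1) @x0)
private theorem _root_.Cfsg.Agent.KOad6d721.e21 : @Int.decEq = @_root_.Cfsg.Agent.KOad6d721.k21 := by delta _root_.Cfsg.Agent.KOad6d721.k21; rewrite [← Cfsg.Agent.KOad6d721.e20]; rfl'
private noncomputable def _root_.Cfsg.Agent.KOad6d721.k22 : @DecidableEq.{1} @Int := @Cfsg.Agent.KOad6d721.k21
private theorem _root_.Cfsg.Agent.KOad6d721.e22 : @Int.instDecidableEq = @_root_.Cfsg.Agent.KOad6d721.k22 := by delta _root_.Cfsg.Agent.KOad6d721.k22; rewrite [← Cfsg.Agent.KOad6d721.e21]; rfl'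
private noncomputable def _root_.Cfsg.Agent.KOad6d721.k23.{ku0, ku1} : ((x0 : Sort (ku0+1)) → ((x1 : Sort (ku1+1)) → ((@AddCommMonoid.{ku1} @x1) → ((@Finset.{ku0} @x0) → ((x0 → x1) → x1))))) := @(fun (x0 : Sort (ku0+1)) (x1 : Sort (ku1+1)) (x2 : @AddCommMonoid.{ku1} @x1) (x3 : @Finset.{ku0} @x0) (x4 : (x0 → x1)) => @Cfsg.Agent.KOad6d721.k4.{ku1} @x1 @x2 (@Quot.lift.{(ku0+1), (ku1+1)} (@List.{ku0} @x0) (@Setoid.r.{(ku0+1)} (@List.{ku0} @x0) (@List.isSetoid.{ku0} @x0)) (@Multiset.{ku1} @x1) @(fun (x5 : @List.{ku0} @x0) => @Quot.mk.{(ku1+1)} (@List.{ku1} @x1) (@Setoid.r.{(ku1+1)} (@List.{ku1} @x1) (@List.isSetoid.{ku1} @x1)) (@List.map.{ku0, ku1} @x0 @x1 @x4 @x5)) (@Multiset.map._proof_1.{ku0, ku1} @x0 @x1 @x4) (@Finset.val.{ku0} @x0 @x3)))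
private theorem _root_.Cfsg.Agent.KOad6d721.e23.{ku0, ku1} : @Finset.sum.{ku0, ku1} = @_root_.Cfsg.Agent.KOad6d721.k23.{ku0, ku1} := by delta _root_.Cfsg.Agent.KOad6d721.k23; rewrite [← Cfsg.Agent.KOad6d721.e4.{ku1}]; rfl'
private noncomputable def _root_.Cfsg.Agent.KOad6d721.k24 : (@Nat → @Finset.{0} @Nat) := @(fun (x0 : @Nat) => @Finset.mk.{0} @Nat (@Quot.mk.{1} (@List.{0} @Nat) (@Setoid.r.{1} (@List.{0} @Nat) (@List.isSetoid.{0} @Nat)) (@List.range.loop @x0 (@List.nil.{0} @Nat))) (@Multiset.nodup_range @x0))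
private theorem _root_.Cfsg.Agent.KOad6d721.e24 : @Finset.range = @_root_.Cfsg.Agent.KOad6d721.k24 := by delta _root_.Cfsg.Agent.KOad6d721.k24; rfl'
private noncomputable def _root_.Cfsg.Agent.KOad6d721.k25.{ku0} : ((x0 : Sort ku0) → ((x1 : Prop) → ((@Decidable @x1) → (x0 → (x0 → x0))))) := @(fun (x0 : Sort ku0) (x1 : Prop) (x2 : @Decidable @x1) (x3 : x0) (x4 : x0) => @Decidable.rec.{ku0} @x1 @(fun (x5 : @Decidable @x1) => x0) @(fun (x5 : @Not @x1) => x4) @(fun (x5 : x1) => x3) @x2)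
private theorem _root_.Cfsg.Agent.KOad6d721.e25.{ku0} : @ite.{ku0} = @_root_.Cfsg.Agent.KOad6d721.k25.{ku0} := by delta _root_.Cfsg.Agent.KOad6d721.k25; rfl'
private noncomputable def _root_.Cfsg.Agent.KOad6d721.k26 : (by first | exact type_of% @Cfsg.Agent.TAB.Eng.look | exact Unit : Sort _) := by first | (refine @Subtype.val _ (fun g => @Cfsg.Agent.TAB.Eng.look = @g) (@Subtype.mk _ _ (@(fun (x0 : @List.{0} (@Prod.{0, 0} @Nat @Nat)) (x1 : @Nat) => @List.rec.{1, 0} (@Prod.{0, 0} @Nat @Nat) @(fun (x2 : @List.{0} (@Prod.{0, 0} @Nat @Nat)) => (@Nat → @Nat)) @(fun (x2 : @Nat) => nat_lit 0) @(fun (x2 : @Prod.{0, 0} @Nat @Nat) (x3 : @List.{0} (@Prod.{0, 0} @Nat @Nat)) (x4 : (@Nat → @Nat)) (x5 : @Nat) => @Cfsg.Agent.KOad6d721.k15.{1} @Nat (@Prod.fst.{0, 0} @Nat @Nat @x2) @x5 (@x4 @x5) (@Prod.snd.{0, 0} @Nat @Nat @x2)) @x0 @x1)) ?_); rewrite [← Cfsg.Agent.KOad6d721.e15.{1}]; funext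 a0 a1; refine (congrFun (_root_.Cfsg.Agent.KOad6d721.e1 (fun a0 a1 => @Cfsg.Agent.TAB.Eng.look a0 a1) ?_ (fun c0 c1 => ?_) a0) a1 :) <;> (rfl')) | exact @Cfsg.Agent.TAB.Eng.look | exact ()
private theorem _root_.Cfsg.Agent.KOad6d721.e26 : (by first | exact @Cfsg.Agent.TAB.Eng.look = @_root_.Cfsg.Agent.KOad6d721.k26 | exact True : Prop) := by first | (delta _root_.Cfsg.Agent.KOad6d721.k26; exact @Subtype.property _ (fun g => @Cfsg.Agent.TAB.Eng.look = @g) _) | rfl | trivial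
private noncomputable def _root_.Cfsg.Agent.KOad6d721.k27 : (by first | exact type_of% @Cfsg.Agent.TAB.Eng.Dat.pwf | exact Unit : Sort _) := by first | (refine @Subtype.val _ (fun g => @Cfsg.Agent.TAB.Eng.Dat.pwf = @g) (@Subtype.mk _ _ (@(fun (x0 : @Cfsg.Agent.TAB.Eng.Dat) (x1 : @Nat) (x2 : @Nat) => @Cfsg.Agent.KOad6d721.k26 (@Option.rec.{1, 0} (@List.{0} (@Prod.{0, 0} @Nat @Nat)) @(fun (x3 : @Option.{0} (@List.{0} (@Prod.{0, 0} @Nat @Nat))) => @List.{0} (@Prod.{0, 0} @Nat @Nat)) (@List.nil.{0} (@Prod.{0, 0} @Nat @Nat)) @(fun (x3 : @List.{0} (@Prod.{0, 0} @Nat @Nat)) => x3) (@Cfsg.Agent.KOad6d721.k8.{0} (@List.{0} (@Prod.{0, 0} @Nat @Nat)) (@Cfsg.Agent.TAB.Eng.Dat.pwL @x0) @x1)) (@Nat.gcd @x2 (@Option.rec.{1, 0} @Nat @(fun (x3 : @Option.{0} @Nat) => @Nat) (nat_lit 0) @(fun (x3 : @Nat) => x3) (@Cfsg.Agent.KOad6d721.k8.{0} @Nat (@Cfsg.Agent.TAB.Eng.Dat.ordL @x0) @x1))))) ?_);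 rewrite [← Cfsg.Agent.KOad6d721.e26, ← Cfsg.Agent.KOad6d721.e8.{0}]; (try delta Cfsg.Agent.TAB.Eng.Dat.pwf Cfsg.Agent.TAB.Eng.Dat.pw Cfsg.Agent.TAB.Eng.Dat.ord); (try generalize @Cfsg.Agent.TAB.Eng.look = g0); rfl') | exact @Cfsg.Agent.TAB.Eng.Dat.pwf | exact ()
private theorem _root_.Cfsg.Agent.KOad6d721.e27 : (by first | exact @Cfsg.Agent.TAB.Eng.Dat.pwf = @_root_.Cfsg.Agent.KOad6d721.k27 | exact True : Prop) := by first | (delta _root_.Cfsg.Agent.KOad6d721.k27; exact @Subtype.property _ (fun g => @Cfsg.Agent.TAB.Eng.Dat.pwf = @g) _) | rfl | trivial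
private noncomputable def _root_.Cfsg.Agent.KOad6d721.k28 : @DecidableEq.{1} @Nat := @Cfsg.Agent.KOad6d721.k20
private theorem _root_.Cfsg.Agent.KOad6d721.e28 : @instDecidableEqNat = @_root_.Cfsg.Agent.KOad6d721.k28 := by delta _root_.Cfsg.Agent.KOad6d721.k28; rewrite [← Cfsg.Agent.KOad6d721.e20]; rfl'
private noncomputable def _root_.Cfsg.Agent.KOad6d721.k29.{ku0} : ((x0 : Sort (ku0+1)) → ((@List.{ku0} @x0) → (@Nat → (x0 → x0)))) := @(fun (x0 : Sort (ku0+1)) (x1 : @List.{ku0} @x0) (x2 : @Nat) (x3 : x0) => @Option.rec.{(ku0+1), ku0} @x0 @(fun (x4 : @Option.{ku0} @x0) => x0) @x3 @(fun (x4 : x0) => x4) (@Cfsg.Agent.KOad6d721.k8.{ku0} @x0 @x1 @x2))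
private theorem _root_.Cfsg.Agent.KOad6d721.e29.{ku0} : @List.getD.{ku0} = @_root_.Cfsg.Agent.KOad6d721.k29.{ku0} := by delta _root_.Cfsg.Agent.KOad6d721.k29; rewrite [← Cfsg.Agent.KOad6d721.e8.{ku0}]; rfl'

theorem c2 : ∀ i < 5, ∑ s ∈ range B.Fin.datF.n, (B.Fin.datF.cnt s : ℤ) *
    (if B.Fin.datF.pwf s 45045 = 1 then fW i (B.Fin.datF.pwf s 45046) else 0) =
      B.Fin.datF.N * [1, 2, 1, -2, 1].getD i 0 := by (first | (refine of_decide_eq_true ?_; rewrite [Cfsg.Agent.KOad6d721.e0, Cfsg.Agent.KOad6d721.e23.{0, 0}, Cfsg.Agent.KOad6d721.e24, Cfsg.Agent.KOad6d721.e9, Cfsg.Agent.KOad6d721.e25.{1}, Cfsg.Agent.KOad6d721.e27, Cfsg.Agent.KOad6d721.e28, Cfsg.Agent.KOad6d721.e17, Cfsg.Agent.KOad6d721.e29.{0}, Cfsg.Agent.KOad6d721.e19, Cfsg.Agent.KOad6d721.e22]; decide +kernel) | decide +kernel)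

private noncomputable def _root_.Cfsg.Agent.KOad6d721.k30 : (by first | exact type_of% @Cfsg.Agent.TAB.Eng.Dat.ord | exact Unit : Sort _) := by first | (refine @Subtype.val _ (fun g => @Cfsg.Agent.TAB.Eng.Dat.ord = @g) (@Subtype.mk _ _ (@(fun (x0 : @Cfsg.Agent.TAB.Eng.Dat) (x1 : @Nat) => @Option.rec.{1, 0} @Nat @(fun (x2 : @Option.{0} @Nat) => @Nat) (nat_lit 0) @(fun (x2 : @Nat) => x2) (@Cfsg.Agent.KOad6d721.k8.{0} @Nat (@Cfsg.Agent.TAB.Eng.Dat.ordL @x0) @x1))) ?_); rewrite [← Cfsg.Agent.KOad6d721.e8.{0}]; rfl') | exact @Cfsg.Agent.TAB.Eng.Dat.ord | exact ()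
private theorem _root_.Cfsg.Agent.KOad6d721.e30 : (by first | exact @Cfsg.Agent.TAB.Eng.Dat.ord = @_root_.Cfsg.Agent.KOad6d721.k30 | exact True : Prop) := by first | (delta _root_.Cfsg.Agent.KOad6d721.k30; exact @Subtype.property _ (fun g => @Cfsg.Agent.TAB.Eng.Dat.ord = @g) _) | rfl | trivial
private noncomputable def _root_.Cfsg.Agent.KOad6d721.k31 : ((x0 : Prop) → ((x1 : (x0 → Prop)) → ((@Decidable @x0) → (((x3 : x0) → @Decidable (@x1 @x3)) → @Decidable ((x4 : x0) → @x1 @x4))))) := @(fun (x0 : Prop) (x1 : (x0 → Prop)) (x2 : @Decidable @x0) (x3 : ((x3 : x0) → @Decidable (@x1 @x3))) => @Decidable.rec.{1} @x0 @(fun (x4 : @Decidable @x0) => @Decidable ((x5 : x0) → @x1 @x5)) @(fun (x4 : @Not @x0) => @Decidable.isTrue ((x5 : x0) → @x1 @x5) (@forall_prop_decidable._proof_2 @x0 @x1 @x4)) @(fun (x4 : x0) => @Decidable.rec.{1} (@x1 @x4) @(fun (x5 : @Decidable (@x1 @x4)) => @Decidable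 ((x6 : x0) → @x1 @x6)) @(fun (x5 : @Not (@x1 @x4)) => @Decidable.isFalse ((x6 : x0) → @x1 @x6) (@decidable_of_decidable_of_iff._proof_1 (@x1 @x4) ((x6 : x0) → @x1 @x6) (@forall_prop_decidable._proof_1 @x0 @x1 @x4) @x5)) @(fun (x5 : @x1 @x4) => @Decidable.isTrue ((x6 : x0) → @x1 @x6) (@Iff.mp (@x1 @x4) ((x6 : x0) → @x1 @x6) (@forall_prop_decidable._proof_1 @x0 @x1 @x4) @x5)) (@x3 @x4)) @x2)
private theorem _root_.Cfsg.Agent.KOad6d721.e31 : @forall_prop_decidable = @_root_.Cfsg.Agent.KOad6d721.k31 := by delta _root_.Cfsg.Agent.KOad6d721.k31; rfl'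
private noncomputable def _root_.Cfsg.Agent.KOad6d721.k32 : ((x0 : Prop) → ((@Decidable @x0) → @Decidable (@Not @x0))) := @(fun (x0 : Prop) (x1 : @Decidable @x0) => @Decidable.rec.{1} @x0 @(fun (x2 : @Decidable @x0) => @Decidable (@Not @x0)) @(fun (x2 : @Not @x0) => @Decidable.isTrue (@Not @x0) @x2) @(fun (x2 : x0) => @Decidable.isFalse (@Not @x0) (@absurd.{0} @x0 @False @x2)) @x1)
private theorem _root_.Cfsg.Agent.KOad6d721.e32 : @instDecidableNot = @_root_.Cfsg.Agent.KOad6d721.k32 := by delta _root_.Cfsg.Agent.KOad6d721.k32; rfl'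
private noncomputable def _root_.Cfsg.Agent.KOad6d721.k33 : @DecidableRel.{1, 1} @Nat @Nat @(fun (x0 : @Nat) (x1 : @Nat) => @Dvd.dvd.{0} @Nat @Nat.instDvd @x0 @x1) := @(fun (x0 : @Nat) (x1 : @Nat) => @Decidable.rec.{1} (@Eq.{1} @Nat (@HMod.hMod.{0, 0, 0} @Nat @Nat @Nat (@instHMod.{0} @Nat @Nat.instMod) @x1 @x0) (@OfNat.ofNat.{0} @Nat (nat_lit 0) (@instOfNatNat (nat_lit 0)))) @(fun (x2 : @Decidable (@Eq.{1} @Nat (@HMod.hMod.{0, 0, 0} @Nat @Nat @Nat (@instHMod.{0} @Nat @Nat.instMod) @x1 @x0) (@OfNat.ofNat.{0} @Nat (nat_lit 0) (@instOfNatNat (nat_lit 0))))) => @Decidable (@Dvd.dvd.{0} @Nat @Nat.instDvd @x0 @x1)) @(fun (x2 : @Not (@Eq.{1} @Nat (@HMod.hMod.{0, 0, 0} @Nat @Nat @Nat (@instHMod.{0} @Nat @Nat.instMod) @x1 @x0) (@OfNat.ofNat.{0} @Nat (nat_lit 0) (@instOfNatNat (nat_lit 0))))) => @Decidable.isFalse (@Dvd.dvd.{0} @Nat @Nat.instDvd @x0 @x1) (@decidable_of_decidable_of_iff._proof_1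 (@Eq.{1} @Nat (@HMod.hMod.{0, 0, 0} @Nat @Nat @Nat (@instHMod.{0} @Nat @Nat.instMod) @x1 @x0) (@OfNat.ofNat.{0} @Nat (nat_lit 0) (@instOfNatNat (nat_lit 0)))) (@Dvd.dvd.{0} @Nat @Nat.instDvd @x0 @x1) (@Nat.decidable_dvd._proof_1 @x0 @x1) @x2)) @(fun (x2 : @Eq.{1} @Nat (@HMod.hMod.{0, 0, 0} @Nat @Nat @Nat (@instHMod.{0} @Nat @Nat.instMod) @x1 @x0) (@OfNat.ofNat.{0} @Nat (nat_lit 0) (@instOfNatNat (nat_lit 0)))) => @Decidable.isTrue (@Dvd.dvd.{0} @Nat @Nat.instDvd @x0 @x1) (@Iff.mp (@Eq.{1} @Nat (@HMod.hMod.{0, 0, 0} @Nat @Nat @Nat (@instHMod.{0} @Nat @Nat.instMod) @x1 @x0) (@OfNat.ofNat.{0} @Nat (nat_lit 0) (@instOfNatNat (nat_lit 0)))) (@Dvd.dvd.{0} @Nat @Nat.instDvd @x0 @x1) (@Nat.decidable_dvd._proof_1 @x0 @x1) @x2)) (@Cfsg.Agent.KOad6d721.k20 (@Nat.mod @x1 @x0) (nat_lit 0)))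
private theorem _root_.Cfsg.Agent.KOad6d721.e33 : @Nat.decidable_dvd = @_root_.Cfsg.Agent.KOad6d721.k33 := by delta _root_.Cfsg.Agent.KOad6d721.k33; rewrite [← Cfsg.Agent.KOad6d721.e20]; rfl'

theorem c3 : ∀ i < 5, ∀ s < B.Fin.datF.n, fW i s ≠ 0 → B.Fin.datF.ord s ∣ 45045 := by (first | (refine of_decide_eq_true ?_; rewrite [Cfsg.Agent.KOad6d721.e0, Cfsg.Agent.KOad6d721.e17, Cfsg.Agent.KOad6d721.e30, Cfsg.Agent.KOad6d721.e19, Cfsg.Agent.KOad6d721.e31, Cfsg.Agent.KOad6d721.e32, Cfsg.Agent.KOad6d721.e22, Cfsg.Agent.KOad6d721.e33]; decide +kernel) | decide +kernel)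

theorem c4 : ∀ j < 17, ipF B.Fin.datF (vB j) (fun _ => 1) = B.Fin.datF.N * aW 5 j ∧
    ipF B.Fin.datF (vB j) (vB 2) = B.Fin.datF.N * aW 6 j ∧
    ipF B.Fin.datF (vB j) (fun t => vB 2 t * vB 2 t) = B.Fin.datF.N * aW 7 j := by
  rewrite [ipz_eq]
  decide +kernel

private noncomputable def _root_.Cfsg.Agent.KOad6d721.k5.{ku0, ku1} : ((x0 : Sort (ku0+1)) → ((x1 : Sort (ku1+1)) → ((x0 → x1) → ((@List.{ku0} @x0) → @List.{ku1} @x1)))) := @(fun (x0 : Sort (ku0+1)) (x1 : Sort (ku1+1)) (x2 : (x0 → x1)) (x3 : @List.{ku0} @x0) => @List.rec.{(ku1+1), ku0} @x0 @(fun (x4 : @List.{ku0} @x0) => @List.{ku1} @x1) (@List.nil.{ku1} @x1) @(fun (x4 : x0) (x5 : @List.{ku0} @x0) (x6 : @List.{ku1} @x1) => @List.cons.{ku1} @x1 (@x2 @x4) @x6) @x3)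
private theorem _root_.Cfsg.Agent.KOad6d721.e5.{ku0, ku1} : @List.map.{ku0, ku1} = @_root_.Cfsg.Agent.KOad6d721.k5.{ku0, ku1} := by delta _root_.Cfsg.Agent.KOad6d721.k5; funext a0 a1 a2 a3; refine (_root_.Cfsg.Agent.KOad6d721.e1 (fun a3 => @List.map.{ku0, ku1} a0 a1 a2 a3) ?_ (fun c0 c1 => ?_) a3 :) <;> (rfl')
private noncomputable def _root_.Cfsg.Agent.KOad6d721.k6 : ((@Int) → ((@Int) → @Int)) := @(fun (x0 : @Int) (x1 : @Int) => @Int.rec.{1} @(fun (x2 : @Int) => @Int) @(fun (x2 : @Nat) => @Int.rec.{1} @(fun (x3 : @Int) => @Int) @(fun (x3 : @Nat) => @Int.ofNat (@Nat.mul @x2 @x3)) @(fun (x3 : @Nat) => @Nat.rec.{1} @(fun (x4 : @Nat) => @Int) (@Int.ofNat (nat_lit 0)) @(fun (x4 : @Nat) (x5 : @Int) => @Int.negSucc @x4) (@Nat.mul @x2 (@Nat.succ @x3))) @x1) @(fun (x2 : @Nat) => @Int.rec.{1} @(fun (x3 : @Int) => @Int) @(fun (x3 : @Nat) => @Nat.rec.{1} @(fun (x4 : @Nat) => @Int) (@Int.ofNat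 (nat_lit 0)) @(fun (x4 : @Nat) (x5 : @Int) => @Int.negSucc @x4) (@Nat.mul (@Nat.succ @x2) @x3)) @(fun (x3 : @Nat) => @Int.ofNat (@Nat.mul (@Nat.succ @x2) (@Nat.succ @x3))) @x1) @x0)
private theorem _root_.Cfsg.Agent.KOad6d721.e6 : @Int.mul = @_root_.Cfsg.Agent.KOad6d721.k6 := by delta _root_.Cfsg.Agent.KOad6d721.k6; rfl'
private theorem _root_.Cfsg.Agent.KOad6d721.e10.{ku} {M : Nat → Sort ku} (φ : ∀ n, M n) {z : M Nat.zero} {s : ∀ n, M n → M (Nat.succ n)} (h0 : φ Nat.zero = z) (hs : ∀ n, φ (Nat.succ n) = s n (φ n)) (n : Nat) : φ n = @Nat.rec M z s n := Nat.rec h0 (fun n ih => (hs n).trans (congrArg (s n) ih)) n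
private noncomputable def _root_.Cfsg.Agent.KOad6d721.k11 : (@Nat → ((@List.{0} @Nat) → @List.{0} @Nat)) := @(fun (x0 : @Nat) (x1 : @List.{0} @Nat) => @Nat.rec.{1} @(fun (x2 : @Nat) => ((@List.{0} @Nat) → @List.{0} @Nat)) @(fun (x2 : @List.{0} @Nat) => x2) @(fun (x2 : @Nat) (x3 : ((@List.{0} @Nat) → @List.{0} @Nat)) (x4 : @List.{0} @Nat) => @x3 (@List.cons.{0} @Nat @x2 @x4)) @x0 @x1)
private theorem _root_.Cfsg.Agent.KOad6d721.e11 : @List.range.loop = @_root_.Cfsg.Agent.KOad6d721.k11 := by delta _root_.Cfsg.Agent.KOad6d721.k11; funext a0 a1; refine (congrFun (_root_.Cfsg.Agent.KOad6d721.e10 (fun a0 a1 => @List.range.loop a0 a1) ?_ (fun c0 => ?_) a0) a1 :) <;> (rfl')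
private noncomputable def _root_.Cfsg.Agent.KOad6d721.k13 : (by first | exact type_of% @Cfsg.Agent.TAB.Eng.nth | exact Unit : Sort _) := by first | (refine @Subtype.val _ (fun g => @Cfsg.Agent.TAB.Eng.nth = @g) (@Subtype.mk _ _ (@(fun (x0 : @List.{0} @Int) => @List.rec.{1, 0} @Int @(fun (x1 : @List.{0} @Int) => (@Nat → @Int)) @(fun (x1 : @Nat) => @Int.ofNat (nat_lit 0)) @(fun (x1 : @Int) (x2 : @List.{0} @Int) (x3 : (@Nat → @Int)) (x4 : @Nat) => @Nat.rec.{1} @(fun (x5 : @Nat) => @Int) @x1 @(fun (x5 : @Nat) (x6 : @Int) => @x3 @x5) @x4) @x0)) ?_); rfl') | exact @Cfsg.Agent.TAB.Eng.nth | exact ()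
private theorem _root_.Cfsg.Agent.KOad6d721.e13 : (by first | exact @Cfsg.Agent.TAB.Eng.nth = @_root_.Cfsg.Agent.KOad6d721.k13 | exact True : Prop) := by first | (delta _root_.Cfsg.Agent.KOad6d721.k13; exact @Subtype.property _ (fun g => @Cfsg.Agent.TAB.Eng.nth = @g) _) | rfl | trivial
private noncomputable def _root_.Cfsg.Agent.KOad6d721.k34 : ((x0 : Prop) → ((x1 : Prop) → ((@Decidable @x0) → ((@Decidable @x1) → @Decidable (@And @x0 @x1))))) := @(fun (x0 : Prop) (x1 : Prop) (x2 : @Decidable @x0) (x3 : @Decidable @x1) => @Decidable.rec.{1} @x0 @(fun (x4 : @Decidable @x0) => @Decidable (@And @x0 @x1)) @(fun (x4 : @Not @x0) => @Decidable.isFalse (@And @x0 @x1) (@instDecidableAnd._proof_2 @x0 @x1 @x4)) @(fun (x4 : x0) => @Decidable.rec.{1} @x1 @(fun (x5 : @Decidable @x1) => @Decidable (@And @x0 @x1)) @(fun (x5 : @Not @x1) => @Decidable.isFalse (@And @x0 @x1) (@instDecidableAnd._proof_1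 @x0 @x1 @x5)) @(fun (x5 : x1) => @Decidable.isTrue (@And @x0 @x1) (@And.intro @x0 @x1 @x4 @x5)) @x3) @x2)
private theorem _root_.Cfsg.Agent.KOad6d721.e34 : @instDecidableAnd = @_root_.Cfsg.Agent.KOad6d721.k34 := by delta _root_.Cfsg.Agent.KOad6d721.k34; rfl'
private noncomputable def _root_.Cfsg.Agent.KOad6d721.oLe.{ku} (α : Sort ku) (a b : Nat) (f t : α) : α := @Decidable.rec (@LE.le Nat instLENat a b) (fun _ => α) (fun _ => f) (fun _ => t) (Nat.decLe a b)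
private noncomputable def _root_.Cfsg.Agent.KOad6d721.k35.{ku} (α : Sort ku) (a b : Nat) (f t : α) : α := @Bool.rec (fun _ => α) f t (Nat.ble a b)
private theorem _root_.Cfsg.Agent.KOad6d721.e35.{ku} : @_root_.Cfsg.Agent.KOad6d721.oLe.{ku} = @_root_.Cfsg.Agent.KOad6d721.k35.{ku} := funext fun α => funext fun a => funext fun b => funext fun f => funext fun t => by delta _root_.Cfsg.Agent.KOad6d721.oLe _root_.Cfsg.Agent.KOad6d721.k35; cases h : Nat.ble a b <;> cases Nat.decLe a b <;> rename_i g <;> first | rfl | exact absurd (h.symm.trans (Nat.ble_eq_true_of_le g)) Bool.false_ne_true | exact absurd (Nat.le_of_ble_eq_true h) g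
private noncomputable def _root_.Cfsg.Agent.KOad6d721.k36.{ku0} : ((x0 : Sort (ku0+1)) → ((@List.{ku0} @x0) → @Nat)) := @(fun (x0 : Sort (ku0+1)) (x1 : @List.{ku0} @x0) => @List.rec.{1, ku0} @x0 @(fun (x2 : @List.{ku0} @x0) => @Nat) (nat_lit 0) @(fun (x2 : x0) (x3 : @List.{ku0} @x0) (x4 : @Nat) => @Nat.add @x4 (nat_lit 1)) @x1)
private theorem _root_.Cfsg.Agent.KOad6d721.e36.{ku0} : @List.length.{ku0} = @_root_.Cfsg.Agent.KOad6d721.k36.{ku0} := by delta _root_.Cfsg.Agent.KOad6d721.k36; funext a0 a1; refine (_root_.Cfsg.Agent.KOad6d721.e1 (fun a1 => @List.length.{ku0} a0 a1) ?_ (fun c0 c1 => ?_) a1 :) <;> (rfl')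
private noncomputable def _root_.Cfsg.Agent.KOad6d721.k37.{ku0} : ((x0 : Sort (ku0+1)) → ((@List.{ku0} @x0) → ((@List.{ku0} @x0) → @List.{ku0} @x0))) := @(fun (x0 : Sort (ku0+1)) (x1 : @List.{ku0} @x0) (x2 : @List.{ku0} @x0) => @List.rec.{(ku0+1), ku0} @x0 @(fun (x3 : @List.{ku0} @x0) => ((@List.{ku0} @x0) → @List.{ku0} @x0)) @(fun (x3 : @List.{ku0} @x0) => x3) @(fun (x3 : x0) (x4 : @List.{ku0} @x0) (x5 : ((@List.{ku0} @x0) → @List.{ku0} @x0)) (x6 : @List.{ku0} @x0) => @List.cons.{ku0} @x0 @x3 (@x5 @x6)) @x1 @x2)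
private theorem _root_.Cfsg.Agent.KOad6d721.e37.{ku0} : @List.append.{ku0} = @_root_.Cfsg.Agent.KOad6d721.k37.{ku0} := by delta _root_.Cfsg.Agent.KOad6d721.k37; funext a0 a1 a2; refine (congrFun (_root_.Cfsg.Agent.KOad6d721.e1 (fun a1 a2 => @List.append.{ku0} a0 a1 a2) ?_ (fun c0 c1 => ?_) a1) a2 :) <;> (rfl')
private noncomputable def _root_.Cfsg.Agent.KOad6d721.k38 : (by first | exact type_of% @Cfsg.Agent.TAB.Sm2.rw' | exact Unit : Sort _) := by first | (refine @Subtype.val _ (fun g => @Cfsg.Agent.TAB.Sm2.rw' = @g) (@Subtype.mk _ _ (@(fun (x0 : @List.{0} (@List.{0} @Int)) (x1 : @List.{0} (@List.{0} @Int)) (x2 : @Nat) => @Option.rec.{1, 0} (@List.{0} @Int) @(fun (x3 : @Option.{0} (@List.{0} @Int)) => @List.{0} @Int) (@List.nil.{0} @Int) @(fun (x3 : @List.{0} @Int) => x3) (@Cfsg.Agent.KOad6d721.k8.{0} (@List.{0} @Int) (@Cfsg.Agent.KOad6d721.k37.{0} (@List.{0} @Int) @x0 @x1)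 @x2))) ?_); rewrite [← Cfsg.Agent.KOad6d721.e8.{0}, ← Cfsg.Agent.KOad6d721.e37.{0}]; rfl') | exact @Cfsg.Agent.TAB.Sm2.rw' | exact ()
private theorem _root_.Cfsg.Agent.KOad6d721.e38 : (by first | exact @Cfsg.Agent.TAB.Sm2.rw' = @_root_.Cfsg.Agent.KOad6d721.k38 | exact True : Prop) := by first | (delta _root_.Cfsg.Agent.KOad6d721.k38; exact @Subtype.property _ (fun g => @Cfsg.Agent.TAB.Sm2.rw' = @g) _) | rfl | trivial
private noncomputable def _root_.Cfsg.Agent.KOad6d721.k39 : (by first | exact type_of% @Cfsg.Agent.TAB.Sm2.wt | exact Unit : Sort _) := by first | (refine @Subtype.val _ (fun g => @Cfsg.Agent.TAB.Sm2.wt = @g) (@Subtype.mk _ _ (@(fun (x0 : @List.{0} (@List.{0} @Int)) (x1 : @List.{0} (@List.{0} @Int)) (x2 : @Nat) => @Cfsg.Agent.KOad6d721.k35.{1} @Int (@Nat.succ @x2) (@Cfsg.Agent.KOad6d721.k36.{0} (@List.{0} @Int) @x0) (@Cfsg.Agent.KOad6d721.k13 (@Cfsg.Agent.KOad6d721.k38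 @x0 @x1 @x2) (nat_lit 0)) (@Cfsg.Agent.KOad6d721.k6 (@Int.ofNat (nat_lit 2)) (@Cfsg.Agent.KOad6d721.k13 (@Cfsg.Agent.KOad6d721.k38 @x0 @x1 @x2) (nat_lit 0))))) ?_); rewrite [← Cfsg.Agent.KOad6d721.e35.{1}, ← Cfsg.Agent.KOad6d721.e36.{0}, ← Cfsg.Agent.KOad6d721.e13, ← Cfsg.Agent.KOad6d721.e38, ← Cfsg.Agent.KOad6d721.e6]; (try delta Cfsg.Agent.TAB.Sm2.wt); (try generalize @Cfsg.Agent.TAB.Eng.nth = g0); (try generalize @Cfsg.Agent.TAB.Sm2.rw' = g1); rfl') | exact @Cfsg.Agent.TAB.Sm2.wt | exact ()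
private theorem _root_.Cfsg.Agent.KOad6d721.e39 : (by first | exact @Cfsg.Agent.TAB.Sm2.wt = @_root_.Cfsg.Agent.KOad6d721.k39 | exact True : Prop) := by first | (delta _root_.Cfsg.Agent.KOad6d721.k39; exact @Subtype.property _ (fun g => @Cfsg.Agent.TAB.Sm2.wt = @g) _) | rfl | trivial
private noncomputable def _root_.Cfsg.Agent.KOad6d721.k40 : (by first | exact type_of% @Cfsg.Agent.TAB.Sm2.ro | exact Unit : Sort _) := by first | (refine @Subtype.val _ (fun g => @Cfsg.Agent.TAB.Sm2.ro = @g) (@Subtype.mk _ _ (@(fun (x0 : @List.{0} (@List.{0} @Int)) (x1 : @Nat) => @Cfsg.Agent.KOad6d721.k35.{1} @Nat (@Nat.succ @x1) (@Cfsg.Agent.KOad6d721.k36.{0} (@List.{0} @Int) @x0) (@Nat.add (@Cfsg.Agent.KOad6d721.k36.{0} (@List.{0} @Int) @x0) (@Nat.div (@Nat.sub @x1 (@Cfsg.Agent.KOad6d721.k36.{0} (@List.{0} @Int) @x0)) (nat_lit 2))) @x1)) ?_); rewrite [← Cfsg.Agent.KOad6d721.e35.{1}, ← Cfsg.Agent.KOad6d721.e36.{0}];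 rfl') | exact @Cfsg.Agent.TAB.Sm2.ro | exact ()
private theorem _root_.Cfsg.Agent.KOad6d721.e40 : (by first | exact @Cfsg.Agent.TAB.Sm2.ro = @_root_.Cfsg.Agent.KOad6d721.k40 | exact True : Prop) := by first | (delta _root_.Cfsg.Agent.KOad6d721.k40; exact @Subtype.property _ (fun g => @Cfsg.Agent.TAB.Sm2.ro = @g) _) | rfl | trivial
private noncomputable def _root_.Cfsg.Agent.KOad6d721.k41 : (by first | exact type_of% @Cfsg.Agent.TAB.Sm2.mkRows | exact Unit : Sort _) := by first | (refine @Subtype.val _ (fun g => @Cfsg.Agent.TAB.Sm2.mkRows = @g) (@Subtype.mk _ _ (@(fun (x0 : @List.{0} (@List.{0} @Int)) (x1 : @List.{0} (@List.{0} @Int)) => @Cfsg.Agent.TAB.Use.Rows.mk (@Cfsg.Agent.KOad6d721.k5.{0, 0} @Nat @Nat @(fun (x2 : @Nat) => @Nat.div (@Int.rec.{1} @(fun (x3 : @Int) => @Nat) @(fun (x3 : @Nat) => x3) @(fun (x3 : @Nat) => nat_lit 0) (@Cfsg.Agent.KOad6d721.k39 @x0 @x1 (@Cfsg.Agent.KOad6d721.k40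 @x0 @x2))) (nat_lit 2)) (@Cfsg.Agent.KOad6d721.k11 (@Nat.add (@Cfsg.Agent.KOad6d721.k36.{0} (@List.{0} @Int) @x0) (@Nat.mul (nat_lit 2) (@Cfsg.Agent.KOad6d721.k36.{0} (@List.{0} @Int) @x1))) (@List.nil.{0} @Nat))) (@Cfsg.Agent.KOad6d721.k37.{0} (@Prod.{0, 0} (@List.{0} (@Prod.{0, 0} @Nat @Int)) (@List.{0} @Int)) (@Cfsg.Agent.KOad6d721.k5.{0, 0} @Nat (@Prod.{0, 0} (@List.{0} (@Prod.{0, 0} @Nat @Int)) (@List.{0} @Int)) @(fun (x2 : @Nat) => @Prod.mk.{0, 0} (@List.{0} (@Prod.{0, 0} @Nat @Int)) (@List.{0} @Int) (@List.cons.{0} (@Prod.{0, 0} @Nat @Int) (@Prod.mk.{0, 0} @Nat @Int @x2 (@Int.ofNat (nat_lit 1))) (@List.nil.{0} (@Prod.{0, 0} @Nat @Int))) (@Cfsg.Agent.KOad6d721.k38 @x0 @x1 @x2)) (@Cfsg.Agent.KOad6d721.k11 (@Cfsg.Agent.KOad6d721.k36.{0} (@List.{0} @Int) @x0) (@List.nil.{0} @Nat))) (@Cfsg.Agent.KOad6d721.k5.{0, 0} @Nat (@Prod.{0, 0} (@List.{0} (@Prod.{0, 0} @Nat @Int)) (@List.{0}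 @Int)) @(fun (x2 : @Nat) => @Prod.mk.{0, 0} (@List.{0} (@Prod.{0, 0} @Nat @Int)) (@List.{0} @Int) (@List.cons.{0} (@Prod.{0, 0} @Nat @Int) (@Prod.mk.{0, 0} @Nat @Int (@Nat.add (@Cfsg.Agent.KOad6d721.k36.{0} (@List.{0} @Int) @x0) (@Nat.mul (nat_lit 2) @x2)) (@Int.ofNat (nat_lit 1))) (@List.cons.{0} (@Prod.{0, 0} @Nat @Int) (@Prod.mk.{0, 0} @Nat @Int (@Nat.add (@Nat.add (@Cfsg.Agent.KOad6d721.k36.{0} (@List.{0} @Int) @x0) (@Nat.mul (nat_lit 2) @x2)) (nat_lit 1)) (@Int.ofNat (nat_lit 1))) (@List.nil.{0} (@Prod.{0, 0} @Nat @Int)))) (@Cfsg.Agent.KOad6d721.k38 @x0 @x1 (@Nat.add (@Cfsg.Agent.KOad6d721.k36.{0} (@List.{0} @Int) @x0) @x2))) (@Cfsg.Agent.KOad6d721.k11 (@Cfsg.Agent.KOad6d721.k36.{0} (@List.{0} @Int) @x1) (@List.nil.{0} @Nat)))))) ?_); rewrite [← Cfsg.Agent.KOad6d721.e5.{0, 0}, ← Cfsg.Agent.KOad6d721.e39, ← Cfsg.Agent.KOad6d721.e40, ← Cfsg.Agent.KOad6d721.e11, ← Cfsg.Agent.KOad6d721.e36.{0},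 ← Cfsg.Agent.KOad6d721.e37.{0}, ← Cfsg.Agent.KOad6d721.e38]; (try delta Cfsg.Agent.TAB.Sm2.mkRows); (try generalize @Cfsg.Agent.TAB.Sm2.wt = g0); (try generalize @Cfsg.Agent.TAB.Sm2.ro = g1); (try generalize @Cfsg.Agent.TAB.Sm2.rw' = g2); rfl') | exact @Cfsg.Agent.TAB.Sm2.mkRows | exact ()
private theorem _root_.Cfsg.Agent.KOad6d721.e41 : (by first | exact @Cfsg.Agent.TAB.Sm2.mkRows = @_root_.Cfsg.Agent.KOad6d721.k41 | exact True : Prop) := by first | (delta _root_.Cfsg.Agent.KOad6d721.k41; exact @Subtype.property _ (fun g => @Cfsg.Agent.TAB.Sm2.mkRows = @g) _) | rfl | trivial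
private noncomputable def _root_.Cfsg.Agent.KOad6d721.k42 : (by first | exact type_of% @Cfsg.Agent.TAB.Eng.rwL | exact Unit : Sort _) := by first | (refine @Subtype.val _ (fun g => @Cfsg.Agent.TAB.Eng.rwL = @g) (@Subtype.mk _ _ (@(fun (x0 : @List.{0} (@List.{0} @Int)) (x1 : @Nat) => @Cfsg.Agent.KOad6d721.k5.{0, 0} (@List.{0} @Int) @Int @(fun (x2 : @List.{0} @Int) => @Cfsg.Agent.KOad6d721.k13 @x2 @x1) @x0)) ?_); rewrite [← Cfsg.Agent.KOad6d721.e5.{0, 0}, ← Cfsg.Agent.KOad6d721.e13]; (try delta Cfsg.Agent.TAB.Eng.rwL); (try generalize @Cfsg.Agent.TAB.Eng.nth = g0); rfl') | exact @Cfsg.Agent.TAB.Eng.rwL | exact ()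
private theorem _root_.Cfsg.Agent.KOad6d721.e42 : (by first | exact @Cfsg.Agent.TAB.Eng.rwL = @_root_.Cfsg.Agent.KOad6d721.k42 | exact True : Prop) := by first | (delta _root_.Cfsg.Agent.KOad6d721.k42; exact @Subtype.property _ (fun g => @Cfsg.Agent.TAB.Eng.rwL = @g) _) | rfl | trivial
private noncomputable def _root_.Cfsg.Agent.KOad6d721.k43 : (@Nat → (@Nat → ((@optParam.{1} @Nat (@OfNat.ofNat.{0} @Nat (nat_lit 1) (@instOfNatNat (nat_lit 1)))) → @List.{0} @Nat))) := @(fun (x0 : @Nat) (x1 : @Nat) (x2 : @Nat) => @Nat.rec.{1} @(fun (x3 : @Nat) => (@Nat → (@Nat → @List.{0} @Nat))) @(fun (x3 : @Nat) (x4 : @Nat) => @List.nil.{0} @Nat) @(fun (x3 : @Nat) (x4 : (@Nat → (@Nat → @List.{0} @Nat))) (x5 : @Nat) (x6 : @Nat) => @List.cons.{0} @Nat @x5 (@x4 (@Nat.add @x5 @x6) @x6)) @x1 @x0 @x2)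
private theorem _root_.Cfsg.Agent.KOad6d721.e43 : @List.range' = @_root_.Cfsg.Agent.KOad6d721.k43 := by delta _root_.Cfsg.Agent.KOad6d721.k43; funext a0 a1 a2; refine (congrFun (congrFun (_root_.Cfsg.Agent.KOad6d721.e10 (fun a1 a0 a2 => @List.range' a0 a1 a2) ?_ (fun c0 => ?_) a1) a0) a2 :) <;> (rfl')
private noncomputable def _root_.Cfsg.Agent.KOad6d721.k44 : (by first | exact type_of% @Cfsg.Agent.TAB.B.Bes.rowsL | exact Unit : Sort _) := by first | (refine @Subtype.val _ (fun g => @Cfsg.Agent.TAB.B.Bes.rowsL = @g) (@Subtype.mk _ _ (@(fun (x0 : @List.{0} (@List.{0} @Int)) (x1 : @Nat) (x2 : @Nat) => @Cfsg.Agent.KOad6d721.k5.{0, 0} @Nat (@List.{0} @Int) (@Cfsg.Agent.KOad6d721.k42 @x0) (@Cfsg.Agent.KOad6d721.k43 @x1 @x2 (nat_lit 1)))) ?_); rewrite [← Cfsg.Agent.KOad6d721.e5.{0, 0}, ← Cfsg.Agent.KOad6d721.e42, ← Cfsg.Agent.KOad6d721.e43]; (try delta Cfsg.Agent.TAB.B.Bes.rowsL);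 (try generalize @Cfsg.Agent.TAB.Eng.rwL = g0); rfl') | exact @Cfsg.Agent.TAB.B.Bes.rowsL | exact ()
private theorem _root_.Cfsg.Agent.KOad6d721.e44 : (by first | exact @Cfsg.Agent.TAB.B.Bes.rowsL = @_root_.Cfsg.Agent.KOad6d721.k44 | exact True : Prop) := by first | (delta _root_.Cfsg.Agent.KOad6d721.k44; exact @Subtype.property _ (fun g => @Cfsg.Agent.TAB.B.Bes.rowsL = @g) _) | rfl | trivial
private noncomputable def _root_.Cfsg.Agent.KOad6d721.k45 : (by first | exact type_of% @Cfsg.Agent.TAB.Use.Rows.n | exact Unit : Sort _) := by first | (refine @Subtype.val _ (fun g => @Cfsg.Agent.TAB.Use.Rows.n = @g) (@Subtype.mk _ _ (@(fun (x0 : @Cfsg.Agent.TAB.Use.Rows) => @Cfsg.Agent.KOad6d721.k36.{0} @Nat (@Cfsg.Agent.TAB.Use.Rows.deg @x0))) ?_); rewrite [← Cfsg.Agent.KOad6d721.e36.{0}]; rfl') | exact @Cfsg.Agent.TAB.Use.Rows.n | exact ()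
private theorem _root_.Cfsg.Agent.KOad6d721.e45 : (by first | exact @Cfsg.Agent.TAB.Use.Rows.n = @_root_.Cfsg.Agent.KOad6d721.k45 | exact True : Prop) := by first | (delta _root_.Cfsg.Agent.KOad6d721.k45; exact @Subtype.property _ (fun g => @Cfsg.Agent.TAB.Use.Rows.n = @g) _) | rfl | trivial
private noncomputable def _root_.Cfsg.Agent.KOad6d721.k46 : (by first | exact type_of% @Cfsg.Agent.TAB.Use.Rows.d | exact Unit : Sort _) := by first | (refine @Subtype.val _ (fun g => @Cfsg.Agent.TAB.Use.Rows.d = @g) (@Subtype.mk _ _ (@(fun (x0 : @Cfsg.Agent.TAB.Use.Rows) (x1 : @Nat) => @Option.rec.{1, 0} @Nat @(fun (x2 : @Option.{0} @Nat) => @Nat) (nat_lit 0) @(fun (x2 : @Nat) => x2) (@Cfsg.Agent.KOad6d721.k8.{0} @Nat (@Cfsg.Agent.TAB.Use.Rows.deg @x0) @x1))) ?_); rewrite [← Cfsg.Agent.KOad6d721.e8.{0}]; rfl') | exact @Cfsg.Agent.TAB.Use.Rows.d | exact ()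
private theorem _root_.Cfsg.Agent.KOad6d721.e46 : (by first | exact @Cfsg.Agent.TAB.Use.Rows.d = @_root_.Cfsg.Agent.KOad6d721.k46 | exact True : Prop) := by first | (delta _root_.Cfsg.Agent.KOad6d721.k46; exact @Subtype.property _ (fun g => @Cfsg.Agent.TAB.Use.Rows.d = @g) _) | rfl | trivial
private noncomputable def _root_.Cfsg.Agent.KOad6d721.k47.{ku0} : ((x0 : Sort ku0) → ((x1 : @Bool) → ((x2 : @Bool) → ((@Eq.{1} @Bool @x1 @x2) → @Bool.noConfusionType.{ku0} @x0 @x1 @x2)))) := @(fun (x0 : Sort ku0) (x1 : @Bool) (x2 : @Bool) (x3 : @Eq.{1} @Bool @x1 @x2) => @Eq.rec.{ku0, 1} @Bool @x1 @(fun (x4 : @Bool) (x5 : @Eq.{1} @Bool @x1 @x4) => @Bool.noConfusionType.{ku0} @x0 @x1 @x4) (@Bool.rec.{ku0} @(fun (x4 : @Bool) => @Bool.noConfusionType.{ku0} @x0 @x4 @x4) @(fun (x4 : x0) => x4) @(fun (x4 : x0) => x4) @x1) @x2 @x3)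
private theorem _root_.Cfsg.Agent.KOad6d721.e47.{ku0} : @Bool.noConfusion.{ku0} = @_root_.Cfsg.Agent.KOad6d721.k47.{ku0} := by delta _root_.Cfsg.Agent.KOad6d721.k47; rfl'
private noncomputable def _root_.Cfsg.Agent.KOad6d721.k48 : ((x0 : @Bool) → ((x1 : @Bool) → @Decidable (@Eq.{1} @Bool @x0 @x1))) := @(fun (x0 : @Bool) (x1 : @Bool) => @Bool.rec.{1} @(fun (x2 : @Bool) => @Decidable (@Eq.{1} @Bool @x2 @x1)) (@Bool.rec.{1} @(fun (x2 : @Bool) => @Decidable (@Eq.{1} @Bool @Bool.false @x2)) (@Decidable.isTrue (@Eq.{1} @Bool @Bool.false @Bool.false) (@rfl.{1} @Bool @Bool.false)) (@Decidable.isFalse (@Eq.{1} @Bool @Bool.false @Bool.true) @(fun (x2 : @Eq.{1} @Bool @Bool.false @Bool.true) => @Cfsg.Agent.KOad6d721.k47.{0} @False @Bool.false @Bool.true @x2)) @x1) (@Bool.rec.{1} @(fun (x2 : @Bool) => @Decidable (@Eq.{1} @Bool @Bool.true @x2)) (@Decidable.isFalse (@Eq.{1} @Bool @Bool.true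 @Bool.false) @(fun (x2 : @Eq.{1} @Bool @Bool.true @Bool.false) => @Cfsg.Agent.KOad6d721.k47.{0} @False @Bool.true @Bool.false @x2)) (@Decidable.isTrue (@Eq.{1} @Bool @Bool.true @Bool.true) (@rfl.{1} @Bool @Bool.true)) @x1) @x0)
private theorem _root_.Cfsg.Agent.KOad6d721.e48 : @Bool.decEq = @_root_.Cfsg.Agent.KOad6d721.k48 := by delta _root_.Cfsg.Agent.KOad6d721.k48; rewrite [← Cfsg.Agent.KOad6d721.e47.{0}]; rfl'
private noncomputable def _root_.Cfsg.Agent.KOad6d721.k49 : ((x0 : @Nat) → ((x1 : @Nat) → @Decidable (@LE.le.{0} @Nat @instLENat @x0 @x1))) := @(fun (x0 : @Nat) (x1 : @Nat) => @Decidable.rec.{1} (@Eq.{1} @Bool (@Nat.ble @x0 @x1) @Bool.true) @(fun (x2 : @Decidable (@Eq.{1} @Bool (@Nat.ble @x0 @x1) @Bool.true)) => @Decidable (@LE.le.{0} @Nat @instLENat @x0 @x1)) @(fun (x2 : @Not (@Eq.{1} @Bool (@Nat.ble @x0 @x1) @Bool.true)) => @Decidable.isFalse (@LE.le.{0} @Nat @instLENat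 @x0 @x1) (@Nat.not_le_of_not_ble_eq_true @x0 @x1 @x2)) @(fun (x2 : @Eq.{1} @Bool (@Nat.ble @x0 @x1) @Bool.true) => @Decidable.isTrue (@LE.le.{0} @Nat @instLENat @x0 @x1) (@Nat.le_of_ble_eq_true @x0 @x1 @x2)) (@Cfsg.Agent.KOad6d721.k48 (@Nat.ble @x0 @x1) @Bool.true))
private theorem _root_.Cfsg.Agent.KOad6d721.e49 : @Nat.decLe = @_root_.Cfsg.Agent.KOad6d721.k49 := by delta _root_.Cfsg.Agent.KOad6d721.k49; rewrite [← Cfsg.Agent.KOad6d721.e48]; rfl'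
private noncomputable def _root_.Cfsg.Agent.KOad6d721.k50 : ((x0 : @Nat) → ((x1 : @Nat) → @Decidable (@LT.lt.{0} @Nat @instLTNat @x0 @x1))) := @(fun (x0 : @Nat) (x1 : @Nat) => @Cfsg.Agent.KOad6d721.k49 (@Nat.succ @x0) @x1)
private theorem _root_.Cfsg.Agent.KOad6d721.e50 : @Nat.decLt = @_root_.Cfsg.Agent.KOad6d721.k50 := by delta _root_.Cfsg.Agent.KOad6d721.k50; rewrite [← Cfsg.Agent.KOad6d721.e49]; rfl'

theorem c5 : 17 ≤ B.Fin.tabB.n ∧ ∀ j < B.Fin.tabB.n, 17 ≤ j → 13571955000 < B.Fin.tabB.d j := by (first | (refine of_decide_eq_true ?_; delta Cfsg.Agent.TAB.B.Fin.tabB; rewrite [Cfsg.Agent.KOad6d721.e0, Cfsg.Agent.KOad6d721.e45, Cfsg.Agent.KOad6d721.e41, Cfsg.Agent.KOad6d721.e44, Cfsg.Agent.KOad6d721.e46, Cfsg.Agent.KOad6d721.e34, Cfsg.Agent.KOad6d721.e49, Cfsg.Agent.KOad6d721.e19, Cfsg.Agent.KOad6d721.e31, Cfsg.Agent.KOad6d721.e50]; decide +kernel) | decide +kernel)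

private noncomputable def _root_.Cfsg.Agent.KOad6d721.k14 : (by first | exact type_of% @Cfsg.Agent.BZ.C6.vB | exact Unit : Sort _) := by first | (refine @Subtype.val _ (fun g => @Cfsg.Agent.BZ.C6.vB = @g) (@Subtype.mk _ _ (@(fun (x0 : @Nat) (x1 : @Nat) => @Cfsg.Agent.KOad6d721.k13 (@Cfsg.Agent.TAB.Eng.ntd (@List.{0} @Int) @Cfsg.Agent.TAB.B.Fin.cols (@List.nil.{0} @Int) @x1) @x0)) ?_); rewrite [← Cfsg.Agent.KOad6d721.e13]; (try delta Cfsg.Agent.BZ.C6.vB Cfsg.Agent.TAB.Eng.rw); (try generalize @Cfsg.Agent.TAB.Eng.nth = g0); (try generalize @Cfsg.Agent.TAB.Eng.ntd = g1); (try generalize @Cfsg.Agent.TAB.B.Fin.cols = g2); rfl') | exact @Cfsg.Agent.BZ.C6.vB | exact ()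
private theorem _root_.Cfsg.Agent.KOad6d721.e14 : (by first | exact @Cfsg.Agent.BZ.C6.vB = @_root_.Cfsg.Agent.KOad6d721.k14 | exact True : Prop) := by first | (delta _root_.Cfsg.Agent.KOad6d721.k14; exact @Subtype.property _ (fun g => @Cfsg.Agent.BZ.C6.vB = @g) _) | rfl | trivial
private noncomputable def _root_.Cfsg.Agent.KOad6d721.k59 : ((x0 : Prop) → ((x1 : Prop) → ((@Decidable @x0) → ((@Decidable @x1) → @Decidable (@Or @x0 @x1))))) := @(fun (x0 : Prop) (x1 : Prop) (x2 : @Decidable @x0) (x3 : @Decidable @x1) => @Decidable.rec.{1} @x0 @(fun (x4 : @Decidable @x0) => @Decidable (@Or @x0 @x1)) @(fun (x4 : @Not @x0) => @Decidable.rec.{1} @x1 @(fun (x5 : @Decidable @x1) => @Decidable (@Or @x0 @x1)) @(fun (x5 : @Not @x1) => @Decidable.isFalse (@Or @x0 @x1) (@instDecidableOr._proof_1 @x0 @x1 @x4 @x5)) @(fun (x5 : x1) => @Decidable.isTrue (@Or @x0 @x1) (@Or.inr @x0 @x1 @x5)) @x3)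 @(fun (x4 : x0) => @Decidable.isTrue (@Or @x0 @x1) (@Or.inl @x0 @x1 @x4)) @x2)
private theorem _root_.Cfsg.Agent.KOad6d721.e59 : @instDecidableOr = @_root_.Cfsg.Agent.KOad6d721.k59 := by delta _root_.Cfsg.Agent.KOad6d721.k59; rfl'

theorem c6 : ∀ s < B.Fin.datF.n, (B.Fin.datF.ord s = 1 → vB 2 s = 96255) ∧ (B.Fin.datF.ord s = 2 → s = 1 ∨
    ¬ 2 * 76532479683774853939200 ∣ KM.Sp.cbd B.Fin.datF B.Fin.tabB [] s 5) := by (first | (refine of_decide_eq_true ?_; delta Cfsg.Agent.TAB.B.Fin.tabB; rewrite [Cfsg.Agent.KOad6d721.e0, Cfsg.Agent.KOad6d721.e30, Cfsg.Agent.KOad6d721.e14, Cfsg.Agent.KOad6d721.e41, Cfsg.Agent.KOad6d721.e44, Cfsg.Agent.KOad6d721.e19, Cfsg.Agent.KOad6d721.e34, Cfsg.Agent.KOad6d721.e31, Cfsg.Agent.KOad6d721.e28, Cfsg.Agent.KOad6d721.e22, Cfsg.Agent.KOad6d721.e59, Cfsg.Agent.KOad6d721.e32, Cfsg.Agent.KOad6d721.e33]; decide +kernel) | decide +kernel)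

theorem c7 : vB 2 1 = 4863 ∧ B.Fin.datF.cnt 1 = 13571955000 ∧ 1 < B.Fin.datF.n ∧
    B.Fin.datF.N = 13571955000 * 306129918735099415756800 := by decide +kernel

end Cfsg.Agent.BZ.X.E6
end
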